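import Cfsg.Agent.Lib.J4Ten.Std

/-!
# Janko four type: classification of the self-centralising elementary abelian subgroups of order `2 ^ 10`

Every such subgroup through `z` is conjugate in the centraliser of `z` to the subgroup of an octad subgroup.
-/

set_option autoImplicit false
set_option linter.style.haveILetI false
set_option linter.unusedSectionVars false

namespace Cfsg.Agent.J4Eleven

open Subgroup
open Cfsg.Agent.J4Local
open Cfsg.Agent.M22Order (Setup)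

universe u

variable {G : Type u} [Group G] [Finite G] {z : G} {P : Subgroup G}

/-- A self-centralising elementary abelian subgroup of order `2 ^ 10` through `z`. -/
structure Ten (z : G) (A : Subgroup G) : Prop where
  zmem : z ∈ A
  sq : ∀ a ∈ A, a * a = 1
  comm : ∀ a ∈ A, ∀ b ∈ A, a * b = b * a
  card : Nat.card A = 2 ^ 10
  self : centralizer (A : Set G) ≤ A

theorem Ten.le {A : Subgroup G} (h : Ten z A) : A ≤ HH z := fun a ha => mem_HH.2 (h.comm a ha z h.zmem)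

theorem Ten.conj {A : Subgroup G} (h : Ten z A) {d : G} (hd : d ∈ HH z) : Ten z (cjS d A) where
  zmem := ⟨z, h.zmem, by
    show d * z * d⁻¹ = z
    rw [mem_HH.1 hd, mul_inv_cancel_right]⟩
  sq := by
    rintro _ ⟨a, ha, rfl⟩
    rw [← map_mul, h.sq a ha, map_one]
  comm := by
    rintro _ ⟨a, ha, rfl⟩ _ ⟨b, hb, rfl⟩
    rw [← map_mul, h.comm a ha b hb, map_mul]
  card := by rw [card_cjS, h.card]
  self := by
    rw [← cjS_centralizer]
    exact Subgroup.map_mono h.self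

namespace Chart

variable (X : Chart z P)

theorem ten_is {B : Subgroup ↥Cfsg.Spor.M22} (h : X.Oct B) : Ten z h.ten :=
  ⟨h.z_mem_ten, h.ten_sq, h.ten_comm, h.card_ten, h.centralizer_ten.le⟩

/-- The span under `P` of the image of the intersection with `E`. -/
noncomputable def spanI (A : Subgroup G) : AddSubgroup (VV z) :=
  imgV z (A ⊓ EE z) ⊔ (imgV z (A ⊓ EE z)).map (act z X.pp)

/-- The image in M22. -/
noncomputable def imT (A : Subgroup G) : Subgroup ↥Cfsg.Spor.M22 := (A.subgroupOf (H0 z P)).map X.psi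

section

variable {A : Subgroup G} (hA : Ten z A)

include hA

include X in
theorem ten_isotropic {v w : VV z} (hv : v ∈ imgV z (A ⊓ EE z)) (hw : w ∈ imgV z (A ⊓ EE z)) :
    BB z v w = 0 := by
  obtain ⟨x, hx, hxE, rfl⟩ := hv
  obtain ⟨y, hy, hyE, rfl⟩ := hw
  rw [BB_vk X.L.J hxE hyE, cm_eq_zero]
  exact hA.comm x hx.1 y hy.1

include X in
theorem ten_fixed {a : G} (ha : a ∈ A) {w : VV z} (hw : w ∈ imgV z (A ⊓ EE z)) : act z a w = w := by
  obtain ⟨x, hx, hxE, rfl⟩ := hw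
  rw [act_vk (hA.le ha) hxE, hA.comm a ha x hx.1, mul_inv_cancel_right]

theorem spanI_fixed {a : G} (ha : a ∈ A) (ha0 : a ∈ H0 z P) {w : VV z} (hw : w ∈ X.spanI A) : act z a w = w := by
  obtain ⟨u, hu, _, ⟨v, hv, rfl⟩, rfl⟩ := AddSubgroup.mem_sup.1 hw
  rw [map_add, X.ten_fixed hA ha hu, act_inner X.L.J ha0 X.pp_mem, X.ten_fixed hA ha hv]

theorem spanI_P {w : VV z} (hw : w ∈ X.spanI A) : act z X.pp w ∈ X.spanI A := by
  obtain ⟨u, hu, _, ⟨v, hv, rfl⟩, rfl⟩ := AddSubgroup.mem_sup.1 hw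
  rw [map_add, act_act X.L.J X.pp_mem X.pp_ne]
  exact add_mem (AddSubgroup.mem_sup_right ⟨u, hu, rfl⟩)
    (add_mem (AddSubgroup.mem_sup_left hv) (AddSubgroup.mem_sup_right ⟨v, hv, rfl⟩))

include X in
theorem ten_card_inf_le : Nat.card ↥(A ⊓ EE z) ≤ 128 := by
  have h1 := card_le_two_mul X.L.J (S := A ⊓ EE z) inf_le_right
  have h2 := card_isotropic X.L.J (W := imgV z (A ⊓ EE z)) fun v hv w hw => X.ten_isotropic hA hv hw
  omega

theorem imT_sq : ∀ b ∈ X.imT A, b * b = 1 := by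
  rintro _ ⟨⟨a, ha⟩, haA, rfl⟩
  rw [← map_mul, show (⟨a, ha⟩ : ↥(H0 z P)) * ⟨a, ha⟩ = 1 from Subtype.ext (hA.sq a haA), map_one]

theorem card_inner_le : Nat.card ↥(A ⊓ H0 z P) ≤ Nat.card ↥(A ⊓ EE z) * Nat.card (X.imT A) := by
  refine card_le_stab_mul (A ⊓ H0 z P) (A ⊓ EE z)
    (fun a => (⟨X.psi ⟨a, a.2.2⟩, ⟨a, a.2.2⟩, a.2.1, rfl⟩ : ↥(X.imT A))) fun a b e => ?_
  have hab : (a : G)⁻¹ * b ∈ A := A.mul_mem (A.inv_mem a.2.1) b.2.1
  refine ⟨hab, X.mem_EE_of_psi_one ((H0 z P).mul_mem ((H0 z P).inv_mem a.2.2) b.2.2) (hA.sq _ hab) ?_⟩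
  rw [show (⟨(a : G)⁻¹ * b, (H0 z P).mul_mem ((H0 z P).inv_mem a.2.2) b.2.2⟩ : ↥(H0 z P)) =
    (⟨a, a.2.2⟩)⁻¹ * ⟨b, b.2.2⟩ from rfl, map_mul, map_inv, inv_mul_eq_one]
  exact congrArg Subtype.val e

include X in
theorem exists_inner : ∃ a ∈ A, a ∈ H0 z P ∧ a ∉ EE z := by
  classical
  by_contra hcon
  push Not at hcon
  have hidx : Nat.card A ≤ Nat.card ↥(A ⊓ H0 z P) * 2 := by
    refine (card_le_stab_mul A (A ⊓ H0 z P) (fun a => decide ((a : G) ∈ H0 z P)) fun a b e => ?_).trans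
      (by rw [show Nat.card Bool = 2 by simp])
    refine Subgroup.mem_inf.2 ⟨mul_mem (inv_mem a.2) b.2, ?_⟩
    rw [inv_eq_of_mul_eq_one_right (hA.sq _ a.2)]
    by_cases ha : (a : G) ∈ H0 z P
    · exact mul_mem ha (by simpa [ha] using e)
    · exact outer_mul X.L (hA.le a.2) (hA.le b.2) ha (by simpa [ha] using e)
  have h1 : Nat.card ↥(A ⊓ H0 z P) ≤ Nat.card ↥(A ⊓ EE z) :=
    Subgroup.card_le_of_le fun a ha => ⟨ha.1, hcon a ha.1 ha.2⟩
  have := X.ten_card_inf_le hA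
  rw [hA.card] at hidx
  omega

theorem exists_lift_of_mem {a : G} (ha : a ∈ A) (ha0 : a ∈ H0 z P) : ∃ c, ∃ hc : c ∈ CC z P, c * c = 1 ∧
    X.π ⟨c, hc⟩ = X.psi ⟨a, ha0⟩ ∧ (∀ v, act z c v = act z a v) ∧ ∃ e ∈ EE z, a = c * e := by
  obtain ⟨c, hc, e, he, rfl, hc2, hψ⟩ := X.dec_sq ha0 (hA.sq a ha)
  exact ⟨c, hc, hc2, hψ.symm, fun v => (act_mul_EE X.L.J hc.1 he v).symm, e, he, rfl⟩

theorem ker_eq_lift {a : G} (ha : a ∈ A) (ha0 : a ∈ H0 z P) {c : G} (hc : c ∈ CC z P) (h2 : c * c = 1)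
    (e : X.π ⟨c, hc⟩ = X.psi ⟨a, ha0⟩) (v : VV z) : act z a v = act z c v := by
  obtain ⟨d, hd, hd2, hdψ, hact, -⟩ := X.exists_lift_of_mem hA ha ha0
  rw [← hact, X.lift_act_eq hd hc hd2 h2 (hdψ.trans e.symm)]

/-- If `t` and a second element of `E` are in the image, the image of the intersection with `E` is in `WV`. -/
theorem spanI_le_WV (ht : X.S.t ∈ X.imT A) {u : ↥Cfsg.Spor.M22} (hu : u ∈ X.imT A) (huE : u ∈ X.S.E)
    (hu1 : u ≠ 1) (hut : u ≠ X.S.t) : X.spanI A ≤ X.WV := by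
  obtain ⟨⟨at', hat0⟩, hatA, hat⟩ := ht
  obtain ⟨⟨au, hau0⟩, hauA, hau⟩ := hu
  obtain ⟨ct, hct, ect⟩ := X.t_lift
  obtain ⟨cu, hcu, ecu⟩ := X.exists_lift huE
  intro v hv
  refine X.fix_pair huE hu1 hut (X.LE_le_CC hct) (X.LE_le_CC hcu) hct.2.2 hcu.2.2 ect ecu ?_ ?_
  · rw [← X.ker_eq_lift hA hatA hat0 (X.LE_le_CC hct) hct.2.2 (ect.trans hat.symm), X.spanI_fixed hA hatA hat0 hv]
  · rw [← X.ker_eq_lift hA hauA hau0 (X.LE_le_CC hcu) hcu.2.2 (ecu.trans hau.symm), X.spanI_fixed hA hauA hau0 hv]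

theorem ten_le_H0 (ht : X.S.t ∈ X.imT A) : A ≤ H0 z P := by
  classical
  intro v hvA
  by_contra hv0
  have hJ := X.L.J
  have hvH := hA.le hvA
  set I := imgV z (A ⊓ EE z) with hI
  have hidx : Nat.card A ≤ Nat.card ↥(A ⊓ H0 z P) * 2 := by
    refine (card_le_stab_mul A (A ⊓ H0 z P) (fun a => decide ((a : G) ∈ H0 z P)) fun a b e => ?_).trans
      (by rw [show Nat.card Bool = 2 by simp])
    refine Subgroup.mem_inf.2 ⟨mul_mem (inv_mem a.2) b.2, ?_⟩
    rw [inv_eq_of_mul_eq_one_right (hA.sq _ a.2)]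
    by_cases ha : (a : G) ∈ H0 z P
    · exact mul_mem ha (by simpa [ha] using e)
    · exact outer_mul X.L (hA.le a.2) (hA.le b.2) ha (by simpa [ha] using e)
  rw [hA.card] at hidx
  have hB16 : Nat.card (X.imT A) ≤ 16 := J4Local.rank_le X.hcard _ (X.imT_sq hA)
  have h1 := X.card_inner_le hA
  have h2 := card_le_two_mul hJ (S := A ⊓ EE z) inf_le_right
  rw [← hI] at h2
  have hinjI : Function.Injective (fun q : ↥I × ↥I => (q.1 : VV z) + act z X.pp q.2) := by
    rintro ⟨i, j⟩ ⟨i', j'⟩ e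
    have e' : (i : VV z) + act z X.pp j = i' + act z X.pp j' := e
    set di := (i : VV z) + i' with hdi
    set dj := (j : VV z) + j' with hdj
    have hd : di + act z X.pp dj = 0 := by
      rw [hdi, hdj, map_add, show (i : VV z) + i' + (act z X.pp j + act z X.pp j') =
        (i + act z X.pp j) + (i' + act z X.pp j') by abel, e', VV.two hJ]
    have hd2 := congrArg (act z v) hd
    rw [map_add, map_zero, X.ten_fixed hA hvA (add_mem i.2 i'.2), act_outer X.L hvH hv0 X.pp_mem,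
      X.ten_fixed hA hvA (add_mem j.2 j'.2)] at hd2
    have e1 : act z X.pp (act z X.pp dj) = act z X.pp dj := add_left_cancel (hd2.trans hd.symm)
    have e2 : dj = 0 := act_fpf hJ X.pp_mem X.pp_ne (act_injective (hJ.P_le_HH X.pp_mem) e1)
    rw [e2, map_zero, add_zero] at hd
    exact Prod.ext (Subtype.ext (VV.eq_of_add hJ hd)) (Subtype.ext (VV.eq_of_add hJ e2))
  have hspan : Nat.card I * Nat.card I ≤ Nat.card (X.spanI A) := by
    rw [← Nat.card_prod]
    exact Nat.card_le_card_of_injective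
      (fun q : ↥I × ↥I => (⟨(q.1 : VV z) + act z X.pp q.2,
        add_mem (AddSubgroup.mem_sup_left q.1.2) (AddSubgroup.mem_sup_right ⟨_, q.2.2, rfl⟩)⟩ : ↥(X.spanI A)))
      (fun a b e => hinjI (congrArg Subtype.val e))
  obtain ⟨⟨at', hat0⟩, hatA, hat⟩ := id ht
  obtain ⟨ct, hct, ect⟩ := X.t_lift
  have hker : X.spanI A ≤ (nil z ct).ker := fun w hw => (mem_ker_nil hJ).2 (by
    rw [← X.ker_eq_lift hA hatA hat0 (X.LE_le_CC hct) hct.2.2 (ect.trans hat.symm), X.spanI_fixed hA hatA hat0 hw])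
  have hk8 : Nat.card (X.spanI A) ≤ 2 ^ 8 := by
    rw [← X.card_ker_lift (X.LE_le_CC hct) hct.2.2 (ect ▸ X.t1)]
    exact AddSubgroup.card_le_of_le hker
  have hI16 : Nat.card I ≤ 16 := by
    by_contra h
    have : 17 * 17 ≤ Nat.card I * Nat.card I := Nat.mul_le_mul (by omega) (by omega)
    omega
  have hBI : Nat.card ↥(A ⊓ EE z) * Nat.card (X.imT A) ≤ Nat.card ↥(A ⊓ EE z) * 16 := Nat.mul_le_mul_left _ hB16
  have hBc : Nat.card (X.imT A) = 16 := by
    have : Nat.card ↥(A ⊓ EE z) * Nat.card (X.imT A) ≤ 32 * Nat.card (X.imT A) :=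
      Nat.mul_le_mul_right _ (by omega)
    omega
  have hI16' : Nat.card I = 16 := by omega
  obtain ⟨u, hu, huE, hu1, hut⟩ := exists_mem_inter X.hcard X.S hBc (X.imT_sq hA) ht
  have h64 := AddSubgroup.card_le_of_le (X.spanI_le_WV hA ht hu huE hu1 hut)
  rw [X.card_WV.1] at h64
  rw [hI16'] at hspan
  omega

/-- The image of the intersection with `E` is fixed by the elements of `imT`. -/
theorem imT_fix {m : ↥Cfsg.Spor.M22} (hm : m ∈ X.imT A) {c : G} (hc : c ∈ CC z P) (h2 : c * c = 1)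
    (e : X.π ⟨c, hc⟩ = m) {w : VV z} (hw : w ∈ X.spanI A) : act z c w = w := by
  obtain ⟨⟨a, ha0⟩, haA, rfl⟩ := hm
  rw [← X.ker_eq_lift hA haA ha0 hc h2 e, X.spanI_fixed hA haA ha0 hw]

theorem no_pair (ht : X.S.t ∈ X.imT A) {u : ↥Cfsg.Spor.M22} (hu : u ∈ X.imT A) (huE : u ∈ X.S.E)
    (hu1 : u ≠ 1) (hut : u ≠ X.S.t) : False := by
  classical
  have hJ := X.L.J
  set I := imgV z (A ⊓ EE z) with hI
  have h0 := X.ten_le_H0 hA ht
  have hSW := X.spanI_le_WV hA ht hu huE hu1 hut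
  have hIW : I ≤ X.WV := le_sup_left.trans hSW
  have hinf : A ⊓ H0 z P = A := inf_eq_left.2 h0
  have h1 := X.card_inner_le hA
  rw [hinf, hA.card] at h1
  have hB16 : Nat.card (X.imT A) ≤ 16 := J4Local.rank_le X.hcard _ (X.imT_sq hA)
  have h2 := card_le_two_mul hJ (S := A ⊓ EE z) inf_le_right
  rw [← hI] at h2
  have h64 := AddSubgroup.card_le_of_le hIW
  rw [X.card_WV.1] at h64
  have hI32 : 32 ≤ Nat.card I := by
    have : Nat.card ↥(A ⊓ EE z) * Nat.card (X.imT A) ≤ Nat.card ↥(A ⊓ EE z) * 16 := Nat.mul_le_mul_left _ hB16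
    omega
  have hIS : I ≤ X.spanI A := le_sup_left
  have hS : X.spanI A = X.WV := by
    refine AddSubgroup.eq_of_le_of_card_ge hSW ?_
    obtain ⟨k, hk1, -, hk⟩ := X.card_four_pow X.pp_mem X.pp_ne (U := X.spanI A) (fun w hw => X.spanI_P hA hw)
      (a := 2) (b := 6) (by
        have := AddSubgroup.card_le_of_le hIS
        norm_num; omega) (by
        have := AddSubgroup.card_le_of_le hSW
        rw [X.card_WV.1] at this
        norm_num; omega)
    have h32 := AddSubgroup.card_le_of_le hIS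
    rw [hk, X.card_WV.1] at *
    by_contra h
    have : k = 2 := by
      by_contra hne
      exact h ((show 2 ^ 6 = 4 ^ 3 by norm_num).le.trans (Nat.pow_le_pow_right (by norm_num) (by omega)))
    subst this
    omega
  have hsub : X.imT A ≤ X.S.E := fun m hm => by
    obtain ⟨⟨a, ha0⟩, haA, hψ⟩ := id hm
    obtain ⟨c, hc, hc2, e, -, -⟩ := X.exists_lift_of_mem hA haA ha0
    have e' : X.π ⟨c, hc⟩ = m := e.trans hψ
    rw [← e']
    exact X.pi_mem_E hc fun w hw => X.imT_fix hA hm hc hc2 (e.trans hψ) (hS ▸ hw)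
  -- every element is a lift times an element of `E` orthogonal to `I`
  have hdec : ∀ a ∈ A, ∃ c ∈ X.LE, ∃ e ∈ EE z, a = c * e ∧
      ∀ w ∈ I, BB z (vk z e) w = 0 := by
    intro a ha
    obtain ⟨c, hc, hc2, e, -, f, hf, hac⟩ := X.exists_lift_of_mem hA ha (h0 ha)
    have hcLE : c ∈ X.LE := ⟨hc, e ▸ hsub ⟨⟨a, h0 ha⟩, ha, rfl⟩, hc2⟩
    refine ⟨c, hcLE, f, hf, hac, ?_⟩
    rintro _ ⟨x, hx, hxE, rfl⟩
    rw [BB_vk hJ hf hxE, cm_eq_zero]
    have h2 := hA.comm a ha x hx.1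
    rw [hac, ← mul_assoc x, ← X.LE_preV_comm hcLE ⟨hxE, hIW (vk_mem_imgV hx hxE)⟩, mul_assoc, mul_assoc] at h2
    exact mul_left_cancel h2
  -- it is not inside the distinguished subgroup
  obtain ⟨a₀, ha₀, ha₀n⟩ : ∃ a ∈ A, a ∉ X.std := by
    by_contra hcon
    push Not at hcon
    have hle : X.std ≤ A := fun s hs => hA.self (mem_centralizer_iff.2 fun a ha => X.std_eleven.comm a (hcon a ha) s hs)
    have := Subgroup.card_le_of_le hle
    rw [X.std_eleven.card, hA.card] at this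
    norm_num at this
  obtain ⟨c₀, hc₀, f₀, hf₀, hac₀, hperp₀⟩ := hdec a₀ ha₀
  have hf₀W : vk z f₀ ∉ X.WV := fun h => ha₀n ⟨c₀ * f₀ * c₀⁻¹, ⟨conj_mem_EE (X.LE_le_CC hc₀).1 hf₀, by
      rw [← act_vk (X.LE_le_CC hc₀).1 hf₀, h c₀ hc₀]; exact h⟩, c₀, hc₀, by rw [hac₀]; group⟩
  have hI32' : Nat.card I = 32 := by
    have hd : Nat.card I ∣ 2 ^ 6 := by
      rw [← X.card_WV.1]; exact AddSubgroup.card_dvd_of_le hIW
    obtain ⟨j, hj, hjI⟩ := (Nat.dvd_prime_pow Nat.prime_two).1 hd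
    have hne : I ≠ X.WV := fun e => hf₀W (by
      rw [← X.card_WV.2]
      intro w hw
      exact hperp₀ w (e ▸ hw))
    have h64' : Nat.card I ≠ 64 := fun e =>
      hne (AddSubgroup.eq_of_le_of_card_ge hIW (by rw [e, X.card_WV.1]; norm_num))
    rw [hjI] at hI32 h64 h64' ⊢
    interval_cases j <;> omega
  have hBc : Nat.card (X.imT A) = 16 := by
    have : Nat.card ↥(A ⊓ EE z) * Nat.card (X.imT A) ≤ 64 * Nat.card (X.imT A) :=
      Nat.mul_le_mul_right _ (by omega)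
    omega
  have hBE : X.imT A = X.S.E := eq_of_le_of_card_ge hsub (by rw [hBc, X.S.card_E X.hcard])
  -- the orthogonal of `I`
  have hperp : ∀ v ∈ perp hJ I, v ∈ X.WV ∨ v + vk z f₀ ∈ X.WV := by
    intro v hv
    by_contra hcon
    push Not at hcon
    have hp := card_mul_card_perp hJ I
    rw [hI32'] at hp
    let h : Fin 3 → VV z := ![0, v, vk z f₀]
    let g : ↥X.WV × Fin 3 → ↥(perp hJ I) := fun q => ⟨(q.1 : VV z) + h q.2, add_mem
      (fun w hw => X.BB_WV q.1.2 (hIW hw)) (by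
        obtain ⟨-, i⟩ := q
        fin_cases i
        exacts [zero_mem _, hv, hperp₀])⟩
    have hg : Function.Injective g := by
      rintro ⟨a, i⟩ ⟨b, j⟩ e
      have e' : (a : VV z) + h i = b + h j := congrArg Subtype.val e
      have e2 : h i + h j = (a : VV z) + b := VV.eq_of_add hJ (by
        calc h i + h j + ((a : VV z) + b) = (a + h i) + (b + h j) := by abel
          _ = 0 := by rw [e', VV.two hJ])
      have hmem : h i + h j ∈ X.WV := e2 ▸ add_mem a.2 b.2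
      have hij : i = j := by
        fin_cases i <;> fin_cases j <;> simp only [h] at hmem ⊢ <;> first
          | rfl
          | (exfalso; simp at hmem; first
              | exact hcon.1 hmem
              | exact hf₀W hmem
              | exact hcon.2 hmem
              | exact hcon.2 (add_comm (vk z f₀) v ▸ hmem))
      subst hij
      exact Prod.ext (Subtype.ext (add_right_cancel e')) rfl
    have := Nat.card_le_card_of_injective g hg
    rw [Nat.card_prod, X.card_WV.1, Nat.card_fin] at this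
    omega
  -- so all lifts fix `f₀`
  have hfix : ∀ l ∈ X.LE, act z l (vk z f₀) = vk z f₀ := by
    have h₀ : act z c₀ (vk z f₀) = vk z f₀ := by
      have hsq := hA.sq a₀ ha₀
      have hcc := hc₀.2.2
      have hH := (X.LE_le_CC hc₀).1
      rw [act_vk hH hf₀]
      have e : c₀ * f₀ * c₀⁻¹ = f₀⁻¹ := eq_inv_of_mul_eq_one_left (by
        rw [inv_eq_of_mul_eq_one_right hcc]
        calc c₀ * f₀ * c₀ * f₀ = (c₀ * f₀) * (c₀ * f₀) := by group
          _ = 1 := by rw [← hac₀, hsq])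
      rw [e, vk_inv hJ hf₀]
    have hA' : ∀ a ∈ A, ∃ c ∈ X.LE, (∀ v, act z c v = act z a v) ∧ act z c (vk z f₀) = vk z f₀ := by
      intro a ha
      obtain ⟨c, hc, f, hf, hac, hperp'⟩ := hdec a ha
      have hcH := (X.LE_le_CC hc).1
      refine ⟨c, hc, fun v => by rw [hac, act_mul_EE hJ hcH hf], ?_⟩
      have hc₀H := (X.LE_le_CC hc₀).1
      have hcom := hA.comm a ha a₀ ha₀
      rw [hac, hac₀] at hcom
      have hv : vk z f + act z c (vk z f₀) = vk z f₀ + act z c₀ (vk z f) := by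
        have e1 : c₀⁻¹ * f * c₀ * f₀ = c⁻¹ * f₀ * c * f := by
          have : c₀ * c * (c₀⁻¹ * f * c₀ * f₀) = c₀ * c * (c⁻¹ * f₀ * c * f) := by
            calc c₀ * c * (c₀⁻¹ * f * c₀ * f₀) = (c₀ * c) * c₀⁻¹ * f * (c₀ * f₀) := by group
              _ = (c * c₀) * c₀⁻¹ * f * (c₀ * f₀) := by rw [X.LE_comm hc₀ hc]
              _ = c * f * (c₀ * f₀) := by group
              _ = c₀ * f₀ * (c * f) := hcom
              _ = _ := by group
          exact mul_left_cancel this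
        have e2 := congrArg (vk z) e1
        rw [vk_mul (conj_mem_EE' hc₀H hf) hf₀, vk_mul (conj_mem_EE' hcH hf₀) hf] at e2
        have a1 := act_vk (inv_mem hc₀H) hf
        have a2 := act_vk (inv_mem hcH) hf₀
        rw [inv_inv] at a1 a2
        rw [← a1, ← a2, eq_inv_of_sq hJ hc₀H (by rw [hc₀.2.2]; exact one_mem _),
          eq_inv_of_sq hJ hcH (by rw [hc.2.2]; exact one_mem _)] at e2
        rw [add_comm (vk z f), ← e2, add_comm]
      have hc₀f : act z c₀ (vk z f) = vk z f := by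
        rcases hperp _ hperp' with h | h
        · exact h c₀ hc₀
        · have := h c₀ hc₀
          rw [map_add, h₀] at this
          exact add_right_cancel this
      rw [hc₀f, add_comm (vk z f₀)] at hv
      exact add_left_cancel hv
    intro l hl
    obtain ⟨⟨a, ha0⟩, haA, hψ⟩ : X.π ⟨l, X.LE_le_CC hl⟩ ∈ X.imT A := hBE.symm ▸ hl.2.1
    obtain ⟨c, hc, hact, hfx⟩ := hA' a haA
    exact ((X.ker_eq_lift hA haA ha0 (X.LE_le_CC hl) hl.2.2 hψ.symm _).symm.trans (hact _).symm).trans hfx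
  exact hf₀W hfix

/-- With `t` in the image, it is the subgroup of an octad subgroup. -/
theorem eq_ten (ht : X.S.t ∈ X.imT A) : ∃ B, ∃ h : X.Oct B, B = X.imT A ∧ A = h.ten := by
  classical
  have hJ := X.L.J
  set I := imgV z (A ⊓ EE z) with hI
  set B := X.imT A with hB
  have h0 := X.ten_le_H0 hA ht
  have hinter : ∀ b ∈ B, b ∈ X.S.E → b = 1 ∨ b = X.S.t := fun b hb hbE => by
    by_contra hcon
    push Not at hcon
    exact X.no_pair hA ht hb hbE hcon.1 hcon.2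
  have hBne : Nat.card B ≠ 16 := fun e => by
    obtain ⟨u, hu, huE, hu1, hut⟩ := exists_mem_inter X.hcard X.S e (X.imT_sq hA) ht
    exact X.no_pair hA ht hu huE hu1 hut
  have h1 := X.card_inner_le hA
  rw [inf_eq_left.2 h0, hA.card] at h1
  have hB16 : Nat.card B ≤ 16 := J4Local.rank_le X.hcard _ (X.imT_sq hA)
  have hBd : ∃ j, Nat.card B = 2 ^ j := by
    have hp : IsPGroup 2 B := fun b => ⟨1, Subtype.ext (by rw [pow_one, pow_two]; exact X.imT_sq hA b b.2)⟩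
    exact IsPGroup.iff_card.1 hp
  have h2 := X.ten_card_inf_le hA
  have h3 := card_le_two_mul hJ (S := A ⊓ EE z) inf_le_right
  rw [← hI] at h3
  have hiso : ∀ v ∈ I, ∀ w ∈ I, BB z v w = 0 := fun v hv w hw => X.ten_isotropic hA hv hw
  have h4 := card_isotropic hJ (W := I) hiso
  have hB8 : Nat.card B = 8 := by
    obtain ⟨j, hj⟩ := hBd
    have : Nat.card ↥(A ⊓ EE z) * Nat.card B ≤ 128 * Nat.card B := Nat.mul_le_mul_right _ h2
    rw [hj] at hB16 hBne this ⊢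
    have hj4 : j ≤ 4 := by
      by_contra h
      have : 2 ^ 5 ≤ 2 ^ j := Nat.pow_le_pow_right (by norm_num) (by omega)
      omega
    have h1' : 2 ^ 10 ≤ Nat.card ↥(A ⊓ EE z) * 2 ^ j := hj ▸ h1
    interval_cases j <;> omega
  have hAE : Nat.card ↥(A ⊓ EE z) = 128 := by
    rw [hB8] at h1
    omega
  have hI64 : Nat.card I = 64 := by omega
  have hIperp : perp hJ I = I := by
    have hle : I ≤ perp hJ I := fun v hv w hw => hiso v hv w hw
    refine (AddSubgroup.eq_of_le_of_card_ge hle ?_).symm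
    have := card_mul_card_perp hJ I
    rw [hI64] at this
    omega
  have hBC : B ≤ centralizer ({X.S.t} : Set ↥Cfsg.Spor.M22) := fun b hb =>
    mem_centralizer_singleton_iff.2 (comm_of_sq (X.imT_sq hA) hb ht)
  obtain ⟨x, hxB, hxE⟩ : ∃ x ∈ B, x ∉ X.S.E := by
    by_contra hcon
    push Not at hcon
    have hsub : (B : Set ↥Cfsg.Spor.M22) ⊆ {1, X.S.t} := fun b hb => hinter b hb (hcon b hb)
    have hn := (Set.ncard_le_ncard hsub).trans (Set.ncard_insert_le _ _)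
    rw [Set.ncard_singleton, ← Nat.card_coe_set_eq, SetLike.coe_sort_coe, hB8] at hn
    omega
  have hlift : ∀ b ∈ B, ∃ c, ∃ hc : c ∈ CC z P, c * c = 1 ∧ X.π ⟨c, hc⟩ = b ∧
      (∀ w ∈ X.spanI A, act z c w = w) ∧ ∀ v, nil z c v ∈ I := by
    intro b hb
    obtain ⟨⟨a, ha0⟩, haA, hψ⟩ := id hb
    obtain ⟨c, hc, hc2, e, -, -⟩ := X.exists_lift_of_mem hA haA ha0
    have hfix : ∀ w ∈ X.spanI A, act z c w = w := fun w hw => X.imT_fix hA hb hc hc2 (e.trans hψ) hw
    exact ⟨c, hc, hc2, e.trans hψ, hfix,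
      fun v => X.nil_mem_self hIperp hc.1 (fun w hw => hfix w (AddSubgroup.mem_sup_left hw)) v⟩
  obtain ⟨ct, hctC, hct2, ect, hctfix, hctnil⟩ := hlift _ ht
  have hRI : X.RR X.S.t ≤ I := by
    rw [X.RR_lift X.tE hctC hct2 ect]
    rintro _ ⟨v, rfl⟩
    exact hctnil v
  have hIW : ∀ w ∈ I, w ∈ X.WV → w ∈ X.RR X.S.t := by
    obtain ⟨c, hc, hc2, e, hfix, -⟩ := hlift x hxB
    -- the fixed vectors of this lift in the fixed space of the hexad group
    set U := X.WV ⊓ X.spanI A with hU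
    intro w hw hwW
    by_contra hwt
    have hRU : X.RR X.S.t ≤ U := le_inf (X.RR_le_WV X.tE) (hRI.trans le_sup_left)
    have h16 : 16 < Nat.card U := by
      rw [← X.card_RR X.tE X.t1]
      refine lt_of_le_of_ne (AddSubgroup.card_le_of_le hRU) fun e => hwt ?_
      rw [AddSubgroup.eq_of_le_of_card_ge hRU e.ge]
      exact ⟨hwW, AddSubgroup.mem_sup_left hw⟩
    have hU64 : Nat.card U ≤ 64 := (AddSubgroup.card_le_of_le inf_le_left).trans X.card_WV.1.le
    obtain ⟨k, hk1, hk2, hk⟩ := X.card_four_pow X.pp_mem X.pp_ne (U := U)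
      (fun v hv => ⟨X.act_P_WV X.pp_mem hv.1, X.spanI_P hA hv.2⟩) (a := 2) (b := 3)
      (by norm_num; omega) (by norm_num; omega)
    have hUW : U = X.WV := AddSubgroup.eq_of_le_of_card_ge inf_le_left (by
      rw [hk, X.card_WV.1]
      rw [hk] at h16
      interval_cases k <;> omega)
    exact hxE (e ▸ X.pi_mem_E hc fun v hv => hfix v (hUW.symm.le hv).2)
  have hOct : X.Oct B := by
    refine ⟨fun b hb => ?_, X.imT_sq hA, hB8, ht, hinter⟩
    obtain ⟨c, hc, hc2, e, hfix, hnil⟩ := hlift b hb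
    refine X.mem_R_of_fix (hBC hb) hc e (fun w hw => hfix w (AddSubgroup.mem_sup_left (hRI hw))) fun w hw => ?_
    refine hIW _ (hnil w) ?_
    rw [nil_apply]
    exact add_mem (X.WV_invariant hc (e ▸ X.C_le_NS (hBC hb)) hw) hw
  refine ⟨B, hOct, rfl, ?_⟩
  have hIle : I ≤ X.WW hOct := fun w hw c hc =>
    X.imT_fix hA hc.2.1 hc.1 hc.2.2 rfl (AddSubgroup.mem_sup_left hw)
  have hIWW : I = X.WW hOct := AddSubgroup.eq_of_le_of_card_ge hIle (by rw [hOct.WW_spec.1, hI64])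
  refine eq_of_le_of_card_ge (fun a ha => ?_) (by rw [hOct.card_ten, hA.card])
  obtain ⟨c, hc, hc2, e, hact, f, hf, hac⟩ := X.exists_lift_of_mem hA ha (h0 ha)
  have hcl : c ∈ X.lft hOct.sq := ⟨hc, e ▸ ⟨⟨a, h0 ha⟩, ha, rfl⟩, hc2⟩
  have hfW : f ∈ preV hJ (X.WW hOct) := ⟨hf, by
    rw [← hIWW, ← hIperp]
    rintro _ ⟨y, hy, hyE, rfl⟩
    rw [BB_vk hJ hf hyE, cm_eq_zero]
    have h2 := hA.comm a ha y hy.1
    rw [hac, ← mul_assoc y, ← hOct.lft_preV_comm hcl ⟨hyE, hIle (vk_mem_imgV hy hyE)⟩, mul_assoc,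
      mul_assoc] at h2
    exact mul_left_cancel h2⟩
  rw [hac]
  exact mul_mem (hOct.lft_le_ten hcl) (hOct.preV_le_ten hfW)

/-- All are conjugate under `C` to subgroups with `t` in the image. -/
theorem exists_move : ∃ d ∈ CC z P, X.S.t ∈ (cjS d A |>.subgroupOf (H0 z P)).map X.psi := by
  obtain ⟨a, haA, ha0, haE⟩ := X.exists_inner hA
  have hb1 : X.psi ⟨a, ha0⟩ ≠ 1 := fun e => haE (X.mem_EE_of_psi_one ha0 (hA.sq a haA) e)
  have hb2 : X.psi ⟨a, ha0⟩ * X.psi ⟨a, ha0⟩ = 1 := X.imT_sq hA _ ⟨⟨a, ha0⟩, haA, rfl⟩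
  obtain ⟨g, hg⟩ := isConj_iff.1 (M22Order.isConj_involution X.hcard
    (orderOf_eq_prime (by rw [pow_two]; exact hb2) hb1) X.S.ht)
  obtain ⟨⟨d, hd⟩, hdg⟩ := X.surj g
  have hd0 := CC_le_H0 z P hd
  refine ⟨d, hd, ⟨d, hd0⟩ * ⟨a, ha0⟩ * ⟨d, hd0⟩⁻¹, ⟨a, haA, rfl⟩, ?_⟩
  rw [map_mul, map_mul, map_inv, X.psi_CC hd hd0, hdg, hg]

end

end Chart

end Cfsg.Agent.J4Eleven
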