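import Cfsg.Agent.Lib.J4Ten.Lift

/-!
# Janko four type: the core of the centraliser of `t` in M22 and the line of `t`
-/

set_option autoImplicit false
set_option linter.style.haveILetI false
set_option linter.unusedSectionVars false

namespace Cfsg.Agent.J4Eleven.Chart

open Subgroup
open Cfsg.Agent.J4Local
open Cfsg.Agent.M22Order (Setup fourGroup exists_four)

universe u

variable {G : Type u} [Group G] [Finite G] {z : G} {P : Subgroup G} (X : Chart z P)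

theorem tE : X.S.t ∈ X.S.E := X.S.D_le X.hcard (X.S.t_mem_D X.hcard)

theorem t1 : X.S.t ≠ 1 := X.S.t_ne X.hcard

theorem E_le_R' : X.S.E ≤ X.S.R := X.S.E_le_R X.hcard

theorem R_le_C : X.S.R ≤ centralizer ({X.S.t} : Set ↥Cfsg.Spor.M22) := X.S.hR.le

theorem R_le_NS : X.S.R ≤ X.NS := X.R_le_C.trans (X.S.C_le X.hcard)

theorem C_le_NS : centralizer ({X.S.t} : Set ↥Cfsg.Spor.M22) ≤ X.NS := X.S.C_le X.hcard

theorem R_pow {g : ↥Cfsg.Spor.M22} (hg : g ∈ X.S.R) : g ^ 64 = 1 := by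
  have h : ((⟨g, hg⟩ : ↥X.S.R) ^ Nat.card ↥X.S.R : ↥X.S.R) = 1 := pow_card_eq_one'
  rw [X.S.hR.card] at h
  exact congrArg Subtype.val h

theorem R_conj {g x : ↥Cfsg.Spor.M22} (hg : Commute g X.S.t) (hx : x ∈ X.S.R) : g * x * g⁻¹ ∈ X.S.R :=
  X.S.hR.conj g hg x hx

theorem r_R {x : ↥Cfsg.Spor.M22} (hx : x ∈ X.S.R) : X.S.r * x * X.S.r⁻¹ ∈ X.S.R := X.R_conj X.S.hrt hx

theorem r_NS : X.S.r ∈ X.NS := X.C_le_NS (mem_centralizer_singleton_iff.2 X.S.hrt)

theorem mem_D_of_r {y : ↥Cfsg.Spor.M22} (hy : y ∈ X.S.R) (hc : Commute y X.S.r) : y ∈ X.S.D :=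
  (exists_four X.hcard X.S.hr).2.2 y (mem_centralizer_singleton_iff.2 hc) 6
    (by simpa using X.R_pow hy)

/-- `r` fixes no coset of `E` in the core but `E`. -/
theorem coset_free {x : ↥Cfsg.Spor.M22} (hx : x ∈ X.S.R) (hxE : x ∉ X.S.E) :
    X.S.r * x * X.S.r⁻¹ * x⁻¹ ∉ X.S.E := by
  intro hfix
  set Y : Set ↥Cfsg.Spor.M22 := (fun e => e * x) '' (X.S.E : Set ↥Cfsg.Spor.M22) with hY
  have hr : ∀ y ∈ Y, X.S.r * y * X.S.r⁻¹ ∈ Y := by
    rintro _ ⟨e, he, rfl⟩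
    refine ⟨X.S.r * e * X.S.r⁻¹ * (X.S.r * x * X.S.r⁻¹ * x⁻¹),
      mul_mem (M22Order.conj_mem_of_mem_normalizer X.r_NS he) hfix, ?_⟩
    group
  have hrn : ∀ n : ℕ, ∀ y ∈ Y, X.S.r ^ n * y * (X.S.r ^ n)⁻¹ ∈ Y := by
    intro n
    induction n with
    | zero => intro y hy; simpa using hy
    | succ n ih =>
      intro y hy
      rw [pow_succ' X.S.r n,
        show X.S.r * X.S.r ^ n * y * (X.S.r * X.S.r ^ n)⁻¹ = X.S.r * (X.S.r ^ n * y * (X.S.r ^ n)⁻¹) * X.S.r⁻¹ by group]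
      exact hr _ (ih y hy)
  have h := M22Order.dvd_card_of_free_conj (zpowers X.S.r) Y (fun q hq y hy => by
    obtain ⟨n, rfl⟩ := mem_powers_iff_mem_zpowers.2 hq
    exact hrn n y hy) (fun q hq y hy hcomm => by
    by_contra hq1
    have hgen : X.S.r ∈ zpowers q := by
      have hd : orderOf q ∣ 3 := by
        have := (zpowers X.S.r).orderOf_dvd_natCard hq
        rwa [Nat.card_zpowers, X.S.hr] at this
      have ho := ((Nat.dvd_prime Nat.prime_three).1 hd).resolve_left fun e => hq1 (orderOf_eq_one_iff.1 e)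
      have e : zpowers q = zpowers X.S.r := eq_of_le_of_card_ge (zpowers_le.2 hq)
        (by rw [Nat.card_zpowers, Nat.card_zpowers, ho, X.S.hr])
      exact e ▸ mem_zpowers _
    obtain ⟨n, hn⟩ := mem_zpowers_iff.1 hgen
    have hc : Commute y X.S.r :=
      hn ▸ (((show Commute q y from mul_inv_eq_iff_eq_mul.1 hcomm).zpow_left n).symm)
    obtain ⟨e, he, rfl⟩ := hy
    refine hxE ?_
    have := mul_mem (inv_mem he) (X.S.D_le X.hcard (X.mem_D_of_r (mul_mem (X.E_le_R' he) hx) hc))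
    simpa using this)
  rw [Nat.card_zpowers, X.S.hr, hY, Set.ncard_image_of_injective _ (mul_left_injective x), ← Nat.card_coe_set_eq,
    SetLike.coe_sort_coe, X.S.card_E X.hcard] at h
  norm_num at h

theorem C_RR {g : ↥Cfsg.Spor.M22} (hg : g ∈ centralizer ({X.S.t} : Set ↥Cfsg.Spor.M22)) {d : G} (hd : d ∈ CC z P)
    (e : X.π ⟨d, hd⟩ = g) {w : VV z} (hw : w ∈ X.RR X.S.t) : act z d w ∈ X.RR X.S.t := by
  have h := X.RR_conj hd (e ▸ X.C_le_NS hg) X.tE hw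
  rwa [e, mem_centralizer_singleton_iff.1 hg, mul_inv_cancel_right] at h

theorem C_five {g : ↥Cfsg.Spor.M22} (hg : g ∈ centralizer ({X.S.t} : Set ↥Cfsg.Spor.M22)) {d : G} (hd : d ∈ CC z P)
    (e : X.π ⟨d, hd⟩ = g) {w : VV z} (hw : w ∈ X.five) : act z d w ∈ X.five :=
  X.five_conj (X.mem_NC.2 ⟨hd, e ▸ X.C_le_NS hg⟩) hw

/-- Two points of degree five span the line of `t`. -/
theorem exists_five_span : ∃ w₁ ∈ X.five, ∃ w₂ ∈ X.five, w₁ ∈ X.RR X.S.t ∧ w₂ ∈ X.RR X.S.t ∧ w₂ ∉ X.ln w₁ ∧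
    X.ln w₁ ⊔ X.ln w₂ = X.RR X.S.t := by
  have hne : {w | w ∈ X.RR X.S.t ∧ w ∈ X.five}.Nonempty := by
    apply Set.nonempty_of_ncard_ne_zero
    rw [X.five_on_line X.tE X.t1]
    norm_num
  obtain ⟨w₁, h₁t, h₁⟩ := hne
  obtain ⟨w₂, h₂, h₂t, hne, -⟩ := X.two_points X.tE X.t1 h₁ h₁t
  refine ⟨w₁, h₁, w₂, h₂, h₁t, h₂t, hne, ?_⟩
  have hle : X.ln w₁ ⊔ X.ln w₂ ≤ X.RR X.S.t := sup_le (X.ln_le (fun x hx => X.RR_act_P X.tE hx) h₁t)
    (X.ln_le (fun x hx => X.RR_act_P X.tE hx) h₂t)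
  let f : ↥(X.ln w₁) × ↥(X.ln w₂) → ↥(X.ln w₁ ⊔ X.ln w₂) := fun q =>
    ⟨(q.1 : VV z) + q.2, add_mem (AddSubgroup.mem_sup_left q.1.2) (AddSubgroup.mem_sup_right q.2.2)⟩
  have hinj : Function.Injective f := by
    rintro ⟨a, b⟩ ⟨a', b'⟩ e
    have e' : (a : VV z) + b = a' + b' := congrArg Subtype.val e
    have h1 : (a : VV z) + a' = b + b' := VV.eq_of_add X.L.J (by
      calc (a : VV z) + a' + (b + b') = (a + b) + (a' + b') := by abel
        _ = 0 := by rw [e', VV.two X.L.J])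
    have hzero : (a : VV z) + a' = 0 := by
      by_contra h0
      refine hne ?_
      have e2 : X.ln w₁ = X.ln w₂ := (X.ln_eq (add_mem a.2 a'.2) h0).symm.trans
        (X.ln_eq (h1 ▸ add_mem b.2 b'.2) h0)
      exact e2 ▸ self_mem_line _ _ _
    exact Prod.ext (Subtype.ext (VV.eq_of_add X.L.J hzero)) (Subtype.ext (VV.eq_of_add X.L.J (h1 ▸ hzero)))
  have h := Nat.card_le_card_of_injective f hinj
  rw [Nat.card_prod, X.card_ln h₁.2.1, X.card_ln h₂.2.1] at h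
  exact AddSubgroup.eq_of_le_of_card_ge hle (by rw [X.card_RR X.tE X.t1]; omega)

theorem R_St {w : VV z} (hw : w ∈ X.five) (hwt : w ∈ X.RR X.S.t) : X.S.R ≤ X.St w := by
  have hw0 := hw.2.1
  obtain ⟨w', hw', -, hne', hall⟩ := X.two_points X.tE X.t1 hw hwt
  -- two elements moving the point move it to the same point
  have hprod : ∀ g ∈ centralizer ({X.S.t} : Set ↥Cfsg.Spor.M22), g ∉ X.St w →
      ∀ h ∈ centralizer ({X.S.t} : Set ↥Cfsg.Spor.M22), h ∉ X.St w → g⁻¹ * h ∈ X.St w := by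
    intro g hg hgn h hh hhn
    obtain ⟨⟨c, hc⟩, ec⟩ := X.surj g
    obtain ⟨⟨d, hd⟩, ed⟩ := X.surj h
    have key : ∀ (d : G) (hd : d ∈ CC z P), X.π ⟨d, hd⟩ ∈ centralizer ({X.S.t} : Set ↥Cfsg.Spor.M22) →
        X.π ⟨d, hd⟩ ∉ X.St w → act z d w ∈ X.ln w' := fun d hd h1 h2 =>
      (hall _ (X.C_five h1 hd rfl hw) (X.C_RR h1 hd rfl hwt)).resolve_left
        fun h => h2 ((X.mem_St hw0 hd).2 h)
    have h1 := key c hc (ec ▸ hg) (ec ▸ hgn)
    have h2 := key d hd (ed ▸ hh) (ed ▸ hhn)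
    have hcw : act z c w ≠ 0 := fun e => hw0 (act_injective hc.1 (e.trans (map_zero _).symm))
    have h3 : act z d w ∈ X.ln (act z c w) := by rw [X.ln_eq h1 hcw]; exact h2
    have h4 := X.act_ln (inv_mem hc : c⁻¹ ∈ CC z P) h3
    rw [act_inv_act hc.1, ← act_mul (inv_mem hc.1) hd.1] at h4
    have h5 := (X.mem_St hw0 (mul_mem (inv_mem hc) hd)).2 h4
    rwa [show (⟨c⁻¹ * d, mul_mem (inv_mem hc) hd⟩ : ↥(CC z P)) = ⟨c, hc⟩⁻¹ * ⟨d, hd⟩ from rfl, map_mul,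
      map_inv, ec, ed] at h5
  -- `E` fixes the point
  have hE : X.S.E ≤ X.St w := fun m hm => by
    obtain ⟨c, hc, e⟩ := X.exists_lift hm
    rw [← e, X.mem_St hw0 (X.LE_le_CC hc), hw.1 c hc]
    exact self_mem_line _ _ _
  have hrC : X.S.r ∈ centralizer ({X.S.t} : Set ↥Cfsg.Spor.M22) := mem_centralizer_singleton_iff.2 X.S.hrt
  have hr : X.S.r ∈ X.St w := by
    by_contra hn
    have h3 : X.S.r * X.S.r * X.S.r = 1 := by rw [← pow_three', ← X.S.hr, pow_orderOf_eq_one]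
    have hn' : X.S.r⁻¹ ∉ X.St w := fun h => hn ((X.St w).inv_mem_iff.1 h)
    have h := hprod _ (inv_mem hrC) hn' _ hrC hn
    rw [inv_inv] at h
    refine hn' ?_
    rwa [← eq_inv_of_mul_eq_one_left h3] at *
  by_contra hnot
  obtain ⟨g₀, hg₀, hg₀n⟩ := SetLike.not_le_iff_exists.1 hnot
  set K := X.S.R ⊓ X.St w with hK
  have hEK : X.S.E ≤ K := le_inf X.E_le_R' hE
  have hle : Nat.card ↥X.S.R ≤ Nat.card K * 2 := by
    classical
    refine (card_le_stab_mul X.S.R K (fun a => decide ((a : ↥Cfsg.Spor.M22) ∈ X.St w)) fun a b e => ?_).trans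
      (by rw [show Nat.card Bool = 2 by simp])
    refine mem_inf.2 ⟨mul_mem (inv_mem a.2) b.2, ?_⟩
    by_cases ha : (a : ↥Cfsg.Spor.M22) ∈ X.St w
    · exact mul_mem (inv_mem ha) (by simpa [ha] using e)
    · exact hprod _ (X.R_le_C a.2) ha _ (X.R_le_C b.2) (by simpa [ha] using e)
  have hlt : Nat.card K < 64 := by
    rw [← X.S.hR.card]
    refine lt_of_le_of_ne (Subgroup.card_le_of_le inf_le_left) fun e => hg₀n ?_
    exact (show X.S.R ≤ X.St w from (eq_of_le_of_card_ge inf_le_left e.ge) ▸ inf_le_right) hg₀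
  have hd : Nat.card K ∣ 2 ^ 6 := (show (2 : ℕ) ^ 6 = Nat.card ↥X.S.R by rw [X.S.hR.card]; norm_num) ▸
    card_dvd_of_le inf_le_left
  rw [X.S.hR.card] at hle
  obtain ⟨j, hj, hjK⟩ := (Nat.dvd_prime_pow Nat.prime_two).1 hd
  have hj5 : j = 5 := by
    rw [hjK] at hle hlt
    interval_cases j <;> omega
  haveI : Fact (Nat.Prime 3) := ⟨Nat.prime_three⟩
  have hrK : X.S.r ∈ normalizer (K : Set ↥Cfsg.Spor.M22) := M22Order.mem_normalizer_of_conj fun x hx =>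
    ⟨X.r_R hx.1, (X.St w).mul_mem ((X.St w).mul_mem hr hx.2) ((X.St w).inv_mem hr)⟩
  have hmod := M12Order.card_fixed_mod X.S.hr K hrK
  have hD : K ⊓ centralizer ({X.S.r} : Set ↥Cfsg.Spor.M22) = X.S.D := le_antisymm
    (fun y hy => X.mem_D_of_r hy.1.1 (mem_centralizer_singleton_iff.1 hy.2))
    (le_inf ((X.S.D_le X.hcard).trans hEK) (M22Order.four_le _))
  rw [hD, X.S.card_D X.hcard, hjK, hj5] at hmod
  norm_num at hmod

/-- A lift of two-power order of an element of the core fixes the line of `t`. -/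
theorem R_fix {g : ↥Cfsg.Spor.M22} (hg : g ∈ X.S.R) {d : G} (hd : d ∈ CC z P) (e : X.π ⟨d, hd⟩ = g) {n : ℕ}
    (h2 : d ^ (2 ^ n) ∈ zpowers z) {w : VV z} (hw : w ∈ X.RR X.S.t) : act z d w = w := by
  obtain ⟨w₁, h₁, w₂, h₂, h₁t, h₂t, -, hsp⟩ := X.exists_five_span
  have key : ∀ u, u ∈ X.five → u ∈ X.RR X.S.t → ∀ v ∈ X.ln u, act z d v = v := by
    intro u hu hut v hv
    have hm : act z d u ∈ X.ln u := (X.mem_St hu.2.1 hd).1 (e ▸ X.R_St hu hut hg)
    obtain ⟨q, hq, hqe⟩ := X.exists_P_of_mem_ln hm (fun e => hu.2.1 (act_injective hd.1 (e.trans (map_zero _).symm)))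
    have hfix := X.fix_of_line hd h2 hq hqe.symm
    have hp := act_inner X.L.J (CC_le_H0 z P hd) X.pp_mem u
    rcases (mem_line X.L.J).1 hv with rfl | rfl | rfl | rfl
    · exact map_zero _
    · exact hfix
    · rw [hp, hfix]
    · rw [map_add, hfix, hp, hfix]
  rw [← hsp, AddSubgroup.mem_sup] at hw
  obtain ⟨a, ha, b, hb, rfl⟩ := hw
  rw [map_add, key w₁ h₁ h₁t a ha, key w₂ h₂ h₂t b hb]

/-- Such a lift moves the fixed space of the hexad group into the line of `t`. -/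
theorem R_nil {g : ↥Cfsg.Spor.M22} (hg : g ∈ X.S.R) {d : G} (hd : d ∈ CC z P) (e : X.π ⟨d, hd⟩ = g) {n : ℕ}
    (h2 : d ^ (2 ^ n) ∈ zpowers z) {w : VV z} (hw : w ∈ X.WV) : nil z d w ∈ X.RR X.S.t := by
  have hJ := X.L.J
  have hfix : ∀ u ∈ X.RR X.S.t, act z d u = u := fun u hu => X.R_fix hg hd e h2 hu
  by_cases hwt : w ∈ X.RR X.S.t
  · rw [nil_apply, hfix w hwt, VV.two hJ]
    exact zero_mem _
  have hdw : act z d w ∈ X.WV := X.WV_invariant hd (e ▸ X.R_le_NS hg) hw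
  have hw0 : w ≠ 0 := fun e => hwt (e ▸ zero_mem _)
  -- every vector is in the span of the line of `t` and the point of `w`
  let f : ↥(X.ln w) × ↥(X.RR X.S.t) → ↥X.WV := fun q =>
    ⟨(q.1 : VV z) + q.2, add_mem (X.ln_le (fun x hx => X.act_P_WV X.pp_mem hx) hw q.1.2) (X.RR_le_WV X.tE q.2.2)⟩
  have hinj : Function.Injective f := by
    rintro ⟨a, b⟩ ⟨a', b'⟩ e
    have e' : (a : VV z) + b = a' + b' := congrArg Subtype.val e
    have h1 : (a : VV z) + a' = b + b' := VV.eq_of_add hJ (by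
      calc (a : VV z) + a' + (b + b') = (a + b) + (a' + b') := by abel
        _ = 0 := by rw [e', VV.two hJ])
    have hzero : (a : VV z) + a' = 0 := by
      by_contra h0
      refine hwt ?_
      have hle : X.ln ((a : VV z) + a') ≤ X.RR X.S.t :=
        X.ln_le (fun x hx => X.RR_act_P X.tE hx) (h1 ▸ add_mem b.2 b'.2)
      rw [X.ln_eq (add_mem a.2 a'.2) h0] at hle
      exact hle (self_mem_line _ _ _)
    exact Prod.ext (Subtype.ext (VV.eq_of_add hJ hzero)) (Subtype.ext (VV.eq_of_add hJ (h1 ▸ hzero)))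
  obtain ⟨⟨⟨a, ha⟩, ⟨s, hs⟩⟩, hf⟩ := ((Nat.bijective_iff_injective_and_card f).2 ⟨hinj, by
    rw [Nat.card_prod, X.card_ln hw0, X.card_RR X.tE X.t1, X.card_WV.1]; norm_num⟩).2 ⟨act z d w, hdw⟩
  have hf' : a + s = act z d w := congrArg Subtype.val hf
  have ha0 : a ≠ 0 := fun e => hwt (by
    rw [e, zero_add] at hf'
    have : w = s := act_injective hd.1 (by rw [← hf', hfix s hs])
    exact this ▸ hs)
  obtain ⟨q, hq, hqa⟩ := X.exists_P_of_mem_ln ha ha0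
  have hqH := hJ.P_le_HH hq
  -- iterate on the quotient
  have key : ∀ k : ℕ, act z (d ^ k) w + act z (q ^ k) w ∈ X.RR X.S.t := fun k => by
    induction k with
    | zero => rw [pow_zero, pow_zero, VV.two hJ]; exact zero_mem _
    | succ k ih =>
      have hk : act z d (act z (d ^ k) w + act z (q ^ k) w) = act z (d ^ k) w + act z (q ^ k) w := hfix _ ih
      rw [map_add, ← act_mul hd.1 (pow_mem hd.1 k), ← pow_succ', ← act_mul hd.1 (pow_mem hqH k),
        commute_CC_P hd (pow_mem hq k), act_mul (pow_mem hqH k) hd.1, ← hf', map_add, ← hqa,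
        ← act_mul (pow_mem hqH k) hqH, ← pow_succ] at hk
      have hs' : act z (q ^ k) s ∈ X.RR X.S.t := by
        have : ∀ k : ℕ, ∀ s ∈ X.RR X.S.t, act z (q ^ k) s ∈ X.RR X.S.t := by
          intro k
          induction k with
          | zero => intro s hs; rwa [pow_zero, act_one]
          | succ k ihk =>
            intro s hs
            rw [pow_succ', act_mul hqH (pow_mem hqH k)]
            exact X.ln_le (fun x hx => X.RR_act_P X.tE hx) (ihk s hs) (X.act_P_cases hq _)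
        exact this k s hs
      have e3 : act z (d ^ (k + 1)) w + act z (q ^ (k + 1)) w =
          (act z (d ^ k) w + act z (q ^ k) w) + act z (q ^ k) s := by
        rw [← hk]
        calc act z (d ^ (k + 1)) w + act z (q ^ (k + 1)) w
            = act z (d ^ (k + 1)) w + act z (q ^ (k + 1)) w + (act z (q ^ k) s + act z (q ^ k) s) := by
              rw [VV.two hJ, add_zero]
          _ = _ := by abel
      rw [e3]
      exact add_mem ih hs'
  have h := key (2 ^ n)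
  rw [act_EE hJ (zpowers_le.2 X.z_mem_EE h2)] at h
  have hq1 : q = 1 := by
    have hqn : q ^ (2 ^ n) = 1 := by
      by_contra hne
      refine hwt ?_
      have hmem : w + act z (q ^ (2 ^ n)) w ∈ X.ln w := add_mem (self_mem_line _ _ _) (X.act_P_cases (pow_mem hq _) _)
      have h0 : w + act z (q ^ (2 ^ n)) w ≠ 0 := fun e0 =>
        hw0 (act_fpf hJ (pow_mem hq _) hne (VV.eq_of_add hJ e0).symm)
      have hle : X.ln (w + act z (q ^ (2 ^ n)) w) ≤ X.RR X.S.t := X.ln_le (fun x hx => X.RR_act_P X.tE hx) h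
      rw [X.ln_eq hmem h0] at hle
      exact hle (self_mem_line _ _ _)
    refine orderOf_eq_one_iff.1 (Nat.eq_one_of_dvd_coprimes (a := 3) (b := 2 ^ n) ?_ ?_ ?_)
    · exact Nat.Coprime.pow_right n (by norm_num)
    · exact orderOf_dvd_of_pow_eq_one (pow_three_eq_one hJ hq)
    · exact orderOf_dvd_of_pow_eq_one hqn
  rw [nil_apply, ← hf', ← hqa, hq1, act_one, add_comm, ← add_assoc, VV.two hJ, zero_add]
  exact hs

/-- The squares of the core lie in `E`. -/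
theorem R_sq {g : ↥Cfsg.Spor.M22} (hg : g ∈ X.S.R) : g * g ∈ X.S.E := by
  obtain ⟨d, hd, e, h2⟩ := X.exists_two_lift (X.R_pow hg)
  rw [← e, ← map_mul]
  refine X.pi_mem_E (mul_mem hd hd) fun w hw => ?_
  have h1 := X.R_nil hg hd e h2 hw
  have h3 := X.R_fix hg hd e h2 h1
  rw [nil_apply, map_add] at h3
  rw [act_mul hd.1 hd.1]
  have h4 : act z d (act z d w) + act z d w = act z d w + w := h3
  exact add_right_cancel (h4.trans (add_comm _ _))

theorem R_commutator {a b : ↥Cfsg.Spor.M22} (ha : a ∈ X.S.R) (hb : b ∈ X.S.R) : a * b * a⁻¹ * b⁻¹ ∈ X.S.E := by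
  have h1 := X.R_sq (mul_mem ha hb)
  have h2 := inv_mem (X.R_sq hb)
  have h3 := inv_mem (X.R_sq ha)
  have hN : ∀ {g e : ↥Cfsg.Spor.M22}, g ∈ X.S.R → e ∈ X.S.E → g * e * g⁻¹ ∈ X.S.E := fun hg he =>
    M22Order.conj_mem_of_mem_normalizer (X.R_le_NS hg) he
  rw [show a * b * a⁻¹ * b⁻¹ = (a * b * (a * b)) * (b⁻¹ * (a * a)⁻¹ * b⁻¹⁻¹) * (b * b)⁻¹ by group]
  exact mul_mem (mul_mem h1 (hN (inv_mem hb) h3)) h2

/-- An element of the centraliser of `t` with such a lift lies in the core. -/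
theorem mem_R_of_fix {g : ↥Cfsg.Spor.M22} (hg : g ∈ centralizer ({X.S.t} : Set ↥Cfsg.Spor.M22)) {d : G}
    (hd : d ∈ CC z P) (e : X.π ⟨d, hd⟩ = g) (hfix : ∀ w ∈ X.RR X.S.t, act z d w = w)
    (hnil : ∀ w ∈ X.WV, nil z d w ∈ X.RR X.S.t) : g ∈ X.S.R := by
  classical
  have hJ := X.L.J
  let Dm : Submonoid G :=
    { carrier := {d | (∃ hd : d ∈ CC z P, X.π ⟨d, hd⟩ ∈ centralizer ({X.S.t} : Set ↥Cfsg.Spor.M22)) ∧
          (∀ w ∈ X.RR X.S.t, act z d w = w) ∧ ∀ w ∈ X.WV, nil z d w ∈ X.RR X.S.t}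
      one_mem' := ⟨⟨one_mem _, by
          rw [show (⟨1, one_mem _⟩ : ↥(CC z P)) = 1 from rfl, map_one]; exact one_mem _⟩,
        fun w _ => act_one w, fun w _ => by rw [nil_apply, act_one, VV.two hJ]; exact zero_mem _⟩
      mul_mem' := by
        rintro a b ⟨⟨ha, hat⟩, haf, han⟩ ⟨⟨hb, hbt⟩, hbf, hbn⟩
        refine ⟨⟨mul_mem ha hb, ?_⟩, fun w hw => by rw [act_mul ha.1 hb.1, hbf w hw, haf w hw], fun w hw => ?_⟩
        · rw [show (⟨a * b, mul_mem ha hb⟩ : ↥(CC z P)) = ⟨a, ha⟩ * ⟨b, hb⟩ from rfl, map_mul]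
          exact mul_mem hat hbt
        · have e : nil z (a * b) w = nil z a w + act z a (nil z b w) := by
            rw [nil_apply, nil_apply, nil_apply, map_add, act_mul ha.1 hb.1]
            calc act z a (act z b w) + w = act z a (act z b w) + w + (act z a w + act z a w) := by
                  rw [VV.two hJ, add_zero]
              _ = _ := by abel
          rw [e, haf _ (hbn w hw)]
          exact add_mem (han w hw) (hbn w hw) }
  let D : Subgroup G :=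
    { Dm with
      inv_mem' := fun {c} hc => by
        have e : c⁻¹ = c ^ (orderOf c - 1) := inv_eq_of_mul_eq_one_right (by
          rw [← pow_succ', Nat.sub_add_cancel (orderOf_pos c), pow_orderOf_eq_one])
        rw [e]
        exact Dm.pow_mem hc _ }
  set T := (D.subgroupOf (CC z P)).map X.π with hT
  have hTC : T ≤ centralizer ({X.S.t} : Set ↥Cfsg.Spor.M22) := by
    rintro _ ⟨⟨c, hc⟩, hcD, rfl⟩
    exact (mem_subgroupOf.1 hcD).1.2
  have hT4 : ∀ x ∈ T, x ^ 4 = 1 := by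
    rintro _ ⟨⟨c, hc⟩, hcD, rfl⟩
    obtain ⟨-, hcf, hcn⟩ := mem_subgroupOf.1 hcD
    have hE : X.π (⟨c, hc⟩ * ⟨c, hc⟩) ∈ X.S.E := X.pi_mem_E (mul_mem hc hc) fun w hw => by
      have h3 := hcf _ (hcn w hw)
      rw [nil_apply, map_add] at h3
      rw [act_mul hc.1 hc.1]
      exact add_right_cancel (h3.trans (add_comm _ _))
    rw [show (4 : ℕ) = 2 + 2 from rfl, pow_add, pow_two, ← map_mul]
    exact X.S.sq X.hcard hE
  have hT2 : IsPGroup 2 T := fun x => ⟨2, Subtype.ext (by simpa using hT4 x x.2)⟩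
  have hrn : ∀ x ∈ T, X.S.r * x * X.S.r⁻¹ ∈ T := by
    obtain ⟨⟨ρ, hρ⟩, eρ⟩ := X.surj X.S.r
    have hrC : X.S.r ∈ centralizer ({X.S.t} : Set ↥Cfsg.Spor.M22) := mem_centralizer_singleton_iff.2 X.S.hrt
    have hρi : X.π ⟨ρ⁻¹, inv_mem hρ⟩ = X.S.r⁻¹ := (map_inv X.π ⟨ρ, hρ⟩).trans (by rw [eρ])
    rintro _ ⟨⟨c, hc⟩, hcD, rfl⟩
    obtain ⟨⟨_, hct⟩, hcf, hcn⟩ := mem_subgroupOf.1 hcD
    refine ⟨⟨ρ, hρ⟩ * ⟨c, hc⟩ * ⟨ρ, hρ⟩⁻¹, mem_subgroupOf.2 ⟨⟨(⟨ρ, hρ⟩ * ⟨c, hc⟩ * ⟨ρ, hρ⟩⁻¹ : ↥(CC z P)).2, ?_⟩, fun w hw => ?_, fun w hw => ?_⟩, ?_⟩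
    · rw [Subtype.coe_eta, map_mul, map_mul, map_inv, eρ]
      exact mul_mem (mul_mem hrC hct) (inv_mem hrC)
    · show act z (ρ * c * ρ⁻¹) w = w
      have hw' := X.C_RR (inv_mem hrC) (inv_mem hρ) hρi hw
      have h := act_conj hρ.1 hc.1 (act z ρ⁻¹ w)
      rwa [act_act_inv hρ.1, hcf _ hw', act_act_inv hρ.1] at h
    · show nil z (ρ * c * ρ⁻¹) w ∈ _
      have hw' : act z ρ⁻¹ w ∈ X.WV := X.WV_invariant (inv_mem hρ) (hρi ▸ inv_mem X.r_NS) hw
      have h := act_conj hρ.1 hc.1 (act z ρ⁻¹ w)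
      rw [act_act_inv hρ.1] at h
      have h5 := X.C_RR hrC hρ eρ (hcn _ hw')
      rwa [nil_apply, map_add, ← h, act_act_inv hρ.1, ← nil_apply] at h5
    · rw [map_mul, map_mul, map_inv, eρ]
  exact X.S.hR.absorb X.S.r X.S.hr X.S.hrt T hTC hT2 hrn
    (e ▸ ⟨⟨d, hd⟩, mem_subgroupOf.2 ⟨⟨hd, e ▸ hg⟩, hfix, hnil⟩, rfl⟩)

end Cfsg.Agent.J4Eleven.Chart
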