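import Cfsg.Agent.Lib.J4Ten.Parts
import Cfsg.Agent.Lib.J4V.Classify

/-!
# Janko four type: the two orbits of the normaliser on the subgroup of order `2 ^ 10`

There are 155 conjugates of `z` and one orbit of 868 others.
-/

set_option autoImplicit false
set_option linter.style.haveILetI false
set_option linter.unusedSectionVars false

namespace Cfsg.Agent.J4Eleven.Chart

open Subgroup
open Cfsg.Agent.J4Local
open Cfsg.Agent.M22Order (Setup)

universe u

variable {G : Type u} [Group G] [Finite G] {z : G} {P : Subgroup G} {X : Chart z P}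
  {B : Subgroup ↥Cfsg.Spor.M22}

theorem ten_params_arith (b : Bool) {i n : ℕ} (hi : i ≤ 3) (hn : n = 1 + 42 * i + 7 * (16 + bif b then 96 else 0))
    (hd : n * (2 ^ 6 * 1008) ∣ 1023 * 1022 * 1020 * 1016 * 1008 * 992 * 960 * 896 * 768 * 512) :
    n = 155 ∧ b = false := by
  subst hn
  revert hd
  interval_cases i <;> cases b <;> decide

theorem ten_others_arith (b : Bool) {i n : ℕ} (hi : i ≤ 3) (hn : n = 42 * i + 7 * (16 + bif b then 96 else 0))
    (hd : n ∣ 9999360) : n = 868 ∨ n = 112 ∧ b = false := by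
  subst hn
  revert hd
  interval_cases i <;> cases b <;> decide

theorem ten_rest_arith {i : ℕ} (hi : i ≤ 3) (hd : 42 * i + 672 ∣ 9999360) : i = 0 := by
  revert hd
  interval_cases i <;> decide

/-- The orbit of an element under the normaliser. -/
def Oct.orb (h : X.Oct B) (a : G) : Set G := {v | ∃ n ∈ normalizer (h.ten : Set G), n * a * n⁻¹ = v}

theorem Oct.mem_orb_self (h : X.Oct B) (a : G) : a ∈ h.orb a := ⟨1, one_mem _, by group⟩

theorem Oct.orb_le (h : X.Oct B) {a : G} (ha : a ∈ h.ten) : h.orb a ⊆ h.ten := by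
  rintro _ ⟨n, hn, rfl⟩
  exact M22Order.conj_mem_of_mem_normalizer hn ha

theorem Oct.orb_trans (h : X.Oct B) {a b : G} (hb : b ∈ h.orb a) : h.orb b = h.orb a := by
  obtain ⟨n, hn, rfl⟩ := hb
  ext v
  constructor
  · rintro ⟨m, hm, rfl⟩
    exact ⟨m * n, mul_mem hm hn, by group⟩
  · rintro ⟨m, hm, rfl⟩
    exact ⟨m * n⁻¹, mul_mem hm (inv_mem hn), by group⟩

theorem Oct.inv_orb (h : X.Oct B) (a : G) : h.Inv (· ∈ h.orb a) := by
  intro n hn b hb
  constructor
  · rintro ⟨m, hm, e⟩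
    refine ⟨n⁻¹ * m, mul_mem (inv_mem hn.1) hm, ?_⟩
    calc n⁻¹ * m * a * (n⁻¹ * m)⁻¹ = n⁻¹ * (m * a * m⁻¹) * n := by group
      _ = b := by rw [e]; group
  · rintro ⟨m, hm, rfl⟩
    exact ⟨n * m, mul_mem hn.1 hm, by group⟩

theorem Oct.inv_zt (h : X.Oct B) : h.Inv (IsConj z) := fun n _ _ _ =>
  ⟨fun hc => hc.trans (isConj_iff.2 ⟨n, rfl⟩).symm, fun hc => hc.trans (isConj_iff.2 ⟨n, rfl⟩)⟩

theorem Oct.orb_z (h : X.Oct B) : h.orb z = {v | v ∈ h.ten ∧ IsConj z v} := by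
  refine Set.Subset.antisymm ?_ fun v hv => h.fusion hv.1 hv.2
  rintro _ ⟨n, hn, rfl⟩
  exact ⟨M22Order.conj_mem_of_mem_normalizer hn h.z_mem_ten, isConj_iff.2 ⟨n, rfl⟩⟩

theorem Oct.exists_off_range (h : X.Oct B) {c : G} (hc : c ∈ X.lft h.sq) (hcE : c ∉ EE z) :
    ∃ y ∈ preV X.L.J (X.WW h), vk z y ∉ (nil z c).range := by
  have hR16 : Nat.card (nil z c).range = 16 :=
    (card_range_inner X.L (CC_le_H0 z P hc.1) hcE (by rw [hc.2.2]; exact one_mem _)).trans (by norm_num)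
  obtain ⟨w, hw, hwR⟩ : ∃ w ∈ X.WW h, w ∉ (nil z c).range := by
    by_contra hcon
    push Not at hcon
    have := AddSubgroup.card_le_of_le (K := (nil z c).range) hcon
    rw [h.WW_spec.1, hR16] at this
    norm_num at this
  exact ⟨rep z w, ⟨rep_mem w, by rw [vk_rep]; exact hw⟩, by rw [vk_rep]; exact hwR⟩

/-- The order of the normaliser divides that of the holomorph. -/
theorem Oct.card_normalizer_dvd (h : X.Oct B) :
    Nat.card ↥(normalizer (h.ten : Set G)) ∣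
      2 ^ 10 * (1023 * 1022 * 1020 * 1016 * 1008 * 992 * 960 * 896 * 768 * 512) := by
  haveI : Fact (Nat.Prime 2) := ⟨Nat.prime_two⟩
  set V := h.ten with hVdef
  letI : CommGroup ↥V :=
    { (inferInstance : Group ↥V) with mul_comm := fun a b => Subtype.ext (h.ten_comm a a.2 b b.2) }
  have hA : Nat.card (MulAut ↥V) = ∏ i ∈ Finset.range 10, (2 ^ 10 - 2 ^ i) :=
    GroupStructure3.FrattiniAut.card_mulAut_elementary (p := 2) (r := 10) h.card_ten
      fun x => Subtype.ext (by rw [pow_two]; exact h.ten_sq x x.2)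
  set f := V.normalizerMonoidHom
  have hk : Nat.card f.ker = 2 ^ 10 := by
    rw [normalizerMonoidHom_ker, Nat.card_congr (subgroupOfEquivOfLe (centralizer_le_normalizer ..)).toEquiv,
      hVdef, h.centralizer_ten, h.card_ten]
  have h1 := f.ker.card_mul_index
  rw [Subgroup.index_ker, hk] at h1
  rw [← h1, show (1023 * 1022 * 1020 * 1016 * 1008 * 992 * 960 * 896 * 768 * 512 : ℕ) =
    ∏ i ∈ Finset.range 10, ((2 : ℕ) ^ 10 - 2 ^ i) by simp [Finset.prod_range_succ], ← hA]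
  exact Nat.mul_dvd_mul_left _ (Subgroup.card_subgroup_dvd_card _)

/-- A set closed under an element of prime order meets its centraliser in its size modulo the prime. -/
theorem mod_inter_centralizer {p : ℕ} [Fact p.Prime] {x : G} (ho : orderOf x = p) {s : Set G}
    (hs : ∀ q ∈ zpowers x, ∀ v ∈ s, q * v * q⁻¹ ∈ s) :
    s.ncard % p ≤ (s ∩ (centralizer ({x} : Set G) : Set G)).ncard := by
  have hfix : ∀ v : G, x * v * x⁻¹ = v ↔ v ∈ centralizer ({x} : Set G) := fun v => by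
    rw [mem_centralizer_singleton_iff, mul_inv_eq_iff_eq_mul]
    exact eq_comm
  have hgen : ∀ q ∈ zpowers x, q ≠ 1 → x ∈ zpowers q := fun q hq hq1 => by
    have hd : orderOf q ∣ p := ho ▸ (Nat.card_zpowers x ▸ (zpowers x).orderOf_dvd_natCard hq)
    have hop := ((Nat.dvd_prime (Fact.out : p.Prime)).1 hd).resolve_left fun e => hq1 (orderOf_eq_one_iff.1 e)
    have e : zpowers q = zpowers x := eq_of_le_of_card_ge (zpowers_le.2 hq)
      (by rw [Nat.card_zpowers, Nat.card_zpowers, hop, ho])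
    exact e ▸ mem_zpowers x
  have hcom : ∀ q ∈ zpowers x, ∀ v ∈ centralizer ({x} : Set G), q * v * q⁻¹ = v := fun q hq v hv => by
    obtain ⟨n, rfl⟩ := mem_zpowers_iff.1 hq
    rw [((show Commute x v from (mem_centralizer_singleton_iff.1 hv).symm).zpow_left n).eq, mul_inv_cancel_right]
  have hdvd := M22Order.dvd_card_of_free_conj (zpowers x) (s \ (centralizer ({x} : Set G) : Set G))
    (fun q hq v hv => ⟨hs q hq v hv.1, fun hc => hv.2 (by
      have e := hcom q⁻¹ (inv_mem hq) _ hc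
      have e' : v = q * v * q⁻¹ := by rw [← e]; group
      exact e'.symm ▸ hc)⟩)
    fun q hq v hv e => by
      by_contra hq1
      refine hv.2 ((hfix v).1 ?_)
      obtain ⟨n, rfl⟩ := mem_zpowers_iff.1 (hgen q hq hq1)
      rw [((show Commute q v from mul_inv_eq_iff_eq_mul.1 e).zpow_left n).eq, mul_inv_cancel_right]
  rw [Nat.card_zpowers, ho] at hdvd
  have h := Set.ncard_inter_add_ncard_sdiff_eq_ncard s (centralizer ({x} : Set G) : Set G)
  obtain ⟨k, hk⟩ := hdvd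
  rw [← h, hk, Nat.add_mul_mod_self_left]
  exact Nat.mod_le _ _

variable [IsSimpleGroup G] (hG : ¬ IsMulCommutative G)

include hG in
theorem Oct.exists_frame (h : X.Oct B) :
    ∃ c y0, ∃ hc : c ∈ X.lft h.sq, X.π ⟨c, hc.1⟩ = X.S.t ∧ y0 ∈ preV X.L.J (X.WW h) ∧
      vk z y0 ∉ (nil z c).range ∧ IsConj z c ∧ ¬ IsConj z (c * z) := by
  have hL := X.zl_mem X.tE
  have hπ := X.zl_pi X.tE (h := X.LE_le_CC hL)
  have hc : X.zl X.S.t ∈ X.lft h.sq := ⟨X.LE_le_CC hL, by rw [hπ]; exact h.tmem, hL.2.2⟩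
  obtain ⟨y0, hy0, hy0R⟩ := h.exists_off_range hc (X.not_mem_EE hc.1 (by rw [hπ]; exact X.t1))
  exact ⟨_, y0, hc, hπ, hy0, hy0R, X.zl_zt hG X.tE X.t1, ((X.params hG).2.2.2.2 X.S.t X.tE X.t1).1⟩

include hG in
theorem Oct.ten_params (h : X.Oct B) :
    (h.orb z).ncard = 155 ∧ Nat.card ↥(normalizer (h.ten : Set G)) = 2 ^ 10 * 9999360 ∧
      ∀ (c y0 : G) (hc : c ∈ X.lft h.sq), X.π ⟨c, hc.1⟩ = X.S.t → y0 ∈ preV X.L.J (X.WW h) →
        vk z y0 ∉ (nil z c).range → IsConj z c → ¬ IsConj z (c * z) → ¬ IsConj z (c * y0) := by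
  classical
  have key : ∀ (c y0 : G) (hc : c ∈ X.lft h.sq), X.π ⟨c, hc.1⟩ = X.S.t → y0 ∈ preV X.L.J (X.WW h) →
      vk z y0 ∉ (nil z c).range → IsConj z c → ¬ IsConj z (c * z) →
      (h.orb z).ncard = 155 ∧ ¬ IsConj z (c * y0) := by
    intro c y0 hc hπ hy0 hy0R hzc hzcz
    obtain ⟨i, hi, hm⟩ := h.count_inv hc hπ hy0 hy0R h.inv_zt
    have h1 : ¬ IsConj z (1 : G) := fun e => X.L.J.ctr.ne_one (isConj_one_left.1 e)
    rw [if_neg h1, if_pos (IsConj.refl z), if_pos hzc, if_neg hzcz, ← h.orb_z] at hm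
    have horb := M22Order.ncard_conj_orbit (normalizer (h.ten : Set G)) (le_normalizer h.z_mem_ten : z ∈ _)
    rw [show {x | ∃ k ∈ normalizer (h.ten : Set G), k * z * k⁻¹ = x} = h.orb z from rfl,
      show (centralizer ({z} : Set G) ⊓ normalizer (h.ten : Set G) : Subgroup G) =
        normalizer (h.ten : Set G) ⊓ HH z from inf_comm _ _, h.card_normalizer_HH] at horb
    have hd := h.card_normalizer_dvd
    rw [← horb, show (h.orb z).ncard * (2 ^ 16 * 1008) = 2 ^ 10 * ((h.orb z).ncard * (2 ^ 6 * 1008)) by ring] at hd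
    have hd' := Nat.dvd_of_mul_dvd_mul_left (by norm_num : 0 < 2 ^ 10) hd
    obtain ⟨e1, e2⟩ := ten_params_arith (decide (IsConj z (c * y0))) hi
      (by rw [hm]; simp only [Bool.cond_decide]) hd'
    exact ⟨e1, by simpa using e2⟩
  obtain ⟨c, y0, hc, hπ, hy0, hy0R, hzc, hzcz⟩ := h.exists_frame hG
  have h155 := (key c y0 hc hπ hy0 hy0R hzc hzcz).1
  refine ⟨h155, ?_, fun c y0 hc a b d e f => (key c y0 hc a b d e f).2⟩
  have horb := M22Order.ncard_conj_orbit (normalizer (h.ten : Set G)) (le_normalizer h.z_mem_ten : z ∈ _)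
  rw [show {x | ∃ k ∈ normalizer (h.ten : Set G), k * z * k⁻¹ = x} = h.orb z from rfl,
    show (centralizer ({z} : Set G) ⊓ normalizer (h.ten : Set G) : Subgroup G) =
      normalizer (h.ten : Set G) ⊓ HH z from inf_comm _ _, h.card_normalizer_HH, h155] at horb
  rw [← horb]
  norm_num

include hG in
theorem Oct.orb_dvd (h : X.Oct B) {a : G} (ha : a ∈ h.ten) : (h.orb a).ncard ∣ 9999360 := by
  have horb := M22Order.ncard_conj_orbit (normalizer (h.ten : Set G)) (le_normalizer ha : a ∈ _)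
  rw [show {x | ∃ k ∈ normalizer (h.ten : Set G), k * a * k⁻¹ = x} = h.orb a from rfl,
    (h.ten_params hG).2.1] at horb
  have hle : h.ten ≤ centralizer ({a} : Set G) ⊓ normalizer (h.ten : Set G) :=
    le_inf (fun b hb => mem_centralizer_singleton_iff.2 (h.ten_comm b hb a ha)) le_normalizer
  obtain ⟨k, hk⟩ := card_dvd_of_le hle
  rw [hk, h.card_ten] at horb
  exact ⟨k, Nat.eq_of_mul_eq_mul_left (by norm_num : 0 < 2 ^ 10) (by rw [← horb]; ring)⟩

include hG in
/-- The non-identity elements other than the conjugates of `z` form one orbit. -/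
theorem Oct.exists_others (h : X.Oct B) : ∃ b ∈ h.ten, (h.orb b).ncard = 868 ∧
    h.orb b = {v | v ∈ h.ten ∧ v ≠ 1 ∧ ¬ IsConj z v} := by
  classical
  have hJ := X.L.J
  obtain ⟨h155, hN, hcy⟩ := h.ten_params hG
  obtain ⟨c, y0, hc, hπ, hy0, hy0R, hzc, hzcz⟩ := h.exists_frame hG
  have hzcy := hcy c y0 hc hπ hy0 hy0R hzc hzcz
  have hcT := h.lft_le_ten hc
  have hczT : c * z ∈ h.ten := mul_mem hcT h.z_mem_ten
  have hcyT : c * y0 ∈ h.ten := mul_mem hcT (h.preV_le_ten hy0)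
  have h1z : ¬ IsConj z (1 : G) := fun e => hJ.ctr.ne_one (isConj_one_left.1 e)
  set S := {v | v ∈ h.ten ∧ v ≠ 1 ∧ ¬ IsConj z v} with hS
  have hS868 : S.ncard = 868 := by
    have hd : Disjoint ({1} : Set G) (h.orb z) := by
      rw [h.orb_z]
      exact Set.disjoint_singleton_left.2 fun e => h1z e.2
    have e : S = (h.ten : Set G) \ ({1} ∪ h.orb z) := by
      rw [h.orb_z]; ext v
      simp only [hS, Set.mem_ofPred_eq, Set.mem_sdiff, SetLike.mem_coe, Set.mem_union, Set.mem_singleton_iff]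
      tauto
    rw [e, Set.ncard_sdiff (Set.union_subset (Set.singleton_subset_iff.2 (one_mem _)) (h.orb_le h.z_mem_ten)),
      ← Nat.card_coe_set_eq, SetLike.coe_sort_coe, h.card_ten, Set.ncard_union_eq hd, Set.ncard_singleton, h155]
    norm_num
  have hsub : ∀ {a}, a ∈ S → h.orb a ⊆ S := by
    rintro a ⟨ha, ha1, hza⟩ _ ⟨n, hn, rfl⟩
    exact ⟨M22Order.conj_mem_of_mem_normalizer hn ha, fun e => ha1 (conj_eq_one_iff.1 e),
      fun e => hza (e.trans (isConj_iff.2 ⟨n, rfl⟩).symm)⟩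
  have hz1 : ∀ {a}, a ∈ S → (1 : G) ∉ h.orb a ∧ z ∉ h.orb a ∧ c ∉ h.orb a := fun ha =>
    ⟨fun e => (hsub ha e).2.1 rfl, fun e => (hsub ha e).2.2 (IsConj.refl z), fun e => (hsub ha e).2.2 hzc⟩
  have hcount : ∀ {a}, a ∈ S → ∃ i ≤ 3, (h.orb a).ncard = 42 * i +
      7 * ((if c * z ∈ h.orb a then 16 else 0) + (if c * y0 ∈ h.orb a then 96 else 0)) := by
    intro a ha
    obtain ⟨i, hi, hm⟩ := h.count_inv hc hπ hy0 hy0R (h.inv_orb a)
    obtain ⟨n1, n2, n3⟩ := hz1 ha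
    rw [if_neg n1, if_neg n2, if_neg n3, show {v | v ∈ h.ten ∧ v ∈ h.orb a} = h.orb a from
      Set.ext fun v => ⟨fun e => e.2, fun e => ⟨h.orb_le ha.1 e, e⟩⟩] at hm
    exact ⟨i, hi, by rw [hm]; ring⟩
  have hczS : c * z ∈ S := ⟨hczT, fun e => X.not_mem_EE hc.1 (hπ ▸ X.t1) (by rw [eq_inv_of_mul_eq_one_left e]; exact inv_mem X.z_mem_EE), hzcz⟩
  have hcyS : c * y0 ∈ S := ⟨hcyT, fun e => X.not_mem_EE hc.1 (by rw [hπ]; exact X.t1)
    (by rw [eq_inv_of_mul_eq_one_left e]; exact inv_mem hy0.1), hzcy⟩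
  obtain ⟨i, hi, hm⟩ := hcount hczS
  rw [if_pos (h.mem_orb_self _)] at hm
  rcases ten_others_arith (decide (c * y0 ∈ h.orb (c * z))) hi
    (by rw [hm]; simp only [Bool.cond_decide]) (h.orb_dvd hG hczT) with e1 | ⟨e1, e2⟩
  · exact ⟨c * z, hczT, e1, Set.eq_of_subset_of_ncard_le (hsub hczS) (by rw [hS868, e1])⟩
  exfalso
  have e2' : c * y0 ∉ h.orb (c * z) := by simpa using e2
  obtain ⟨j, hj, hm2⟩ := hcount hcyS
  rw [if_pos (h.mem_orb_self _), if_neg (fun e : c * z ∈ h.orb (c * y0) => e2' ((h.orb_trans e).symm ▸ h.mem_orb_self _))] at hm2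
  obtain rfl := ten_rest_arith hj (by
    have := h.orb_dvd hG hcyT
    rw [hm2] at this
    simpa using this)
  simp only [mul_zero, zero_add] at hm2
  -- an element of order 31
  haveI : Fact (Nat.Prime 31) := ⟨by norm_num⟩
  set N := normalizer (h.ten : Set G) with hNdef
  obtain ⟨⟨x, hxN⟩, hx⟩ := exists_prime_orderOf_dvd_card' (G := ↥N) 31 (by rw [hN]; norm_num)
  rw [Subgroup.orderOf_mk] at hx
  set F := h.ten ⊓ centralizer ({x} : Set G) with hF
  have hF32 : Nat.card F ≤ 32 := by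
    obtain ⟨k, hk, hkF⟩ := (Nat.dvd_prime_pow Nat.prime_two).1 (h.card_ten ▸ card_dvd_of_le (inf_le_left : F ≤ h.ten))
    have hk10 : k ≠ 10 := fun e => by
      have eF : F = h.ten := eq_of_le_of_card_ge inf_le_left (by rw [hkF, e, h.card_ten])
      have hxT : x ∈ h.ten := by
        rw [← h.centralizer_ten, mem_centralizer_iff]
        exact fun a ha => mem_centralizer_singleton_iff.1 (eF.symm.le ha).2
      have h2 := orderOf_dvd_of_pow_eq_one (show x ^ 2 = 1 by rw [pow_two]; exact h.ten_sq x hxT)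
      rw [hx] at h2
      norm_num at h2
    have hm31 := M12Order.card_fixed_mod hx h.ten hxN
    rw [h.card_ten, ← hF, hkF] at hm31
    rw [hkF]
    interval_cases k <;> omega
  have hclosed : ∀ a : G, ∀ q ∈ zpowers x, ∀ v ∈ h.orb a, q * v * q⁻¹ ∈ h.orb a := by
    rintro a q hq _ ⟨n, hn, rfl⟩
    exact ⟨q * n, mul_mem (zpowers_le.2 hxN hq) hn, by group⟩
  set S3 := S \ (h.orb (c * z) ∪ h.orb (c * y0)) with hS3def
  have hd12 : Disjoint (h.orb (c * z)) (h.orb (c * y0)) := Set.disjoint_left.2 fun v hv1 hv2 =>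
    e2' (h.orb_trans hv1 ▸ (h.orb_trans hv2).symm ▸ h.mem_orb_self _)
  have hS3 : S3.ncard = 84 := by
    rw [hS3def, Set.ncard_sdiff (Set.union_subset (hsub hczS) (hsub hcyS)), Set.ncard_union_eq hd12, hS868, e1, hm2]
  have hclosed3 : ∀ q ∈ zpowers x, ∀ v ∈ S3, q * v * q⁻¹ ∈ S3 := by
    intro q hq v hv
    refine ⟨hsub hv.1 ⟨q, zpowers_le.2 hxN hq, rfl⟩, fun e => hv.2 ?_⟩
    have key : ∀ a, q * v * q⁻¹ ∈ h.orb a → v ∈ h.orb a := fun a ha => by
      have := hclosed a q⁻¹ (inv_mem hq) _ ha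
      simpa [mul_assoc] using this
    exact e.imp (key _) (key _)
  have t1 := mod_inter_centralizer hx (hclosed (c * z))
  have t2 := mod_inter_centralizer hx (hclosed (c * y0))
  have t3 := mod_inter_centralizer hx hclosed3
  rw [e1] at t1
  rw [hm2] at t2
  rw [hS3] at t3
  set C : Set G := (centralizer ({x} : Set G) : Set G)
  have hle : ((h.orb (c * z) ∩ C) ∪ (h.orb (c * y0) ∩ C) ∪ (S3 ∩ C)).ncard ≤ Nat.card F := by
    rw [← SetLike.coe_sort_coe, Nat.card_coe_set_eq]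
    refine Set.ncard_le_ncard ?_
    rintro v ((hv | hv) | hv)
    exacts [⟨h.orb_le hczT hv.1, hv.2⟩, ⟨h.orb_le hcyT hv.1, hv.2⟩, ⟨hv.1.1.1, hv.2⟩]
  rw [Set.ncard_union_eq, Set.ncard_union_eq] at hle
  · omega
  · exact hd12.mono Set.inter_subset_left Set.inter_subset_left
  · exact Set.disjoint_left.2 fun v hv hv' => hv'.1.2 (hv.imp And.left And.left)

end Cfsg.Agent.J4Eleven.Chart
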