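import Cfsg.Agent.Lib.J4Ten.Count

/-!
# Janko four type: the normaliser orbits on every self-centralising elementary abelian subgroup of order `2 ^ 10`
-/

set_option autoImplicit false
set_option linter.style.haveILetI false
set_option linter.unusedSectionVars false

namespace Cfsg.Agent.J4Eleven.Chart

open Subgroup
open Cfsg.Agent.J4Local

universe u

variable {G : Type u} [Group G] [Finite G] {z : G} {P : Subgroup G} (X : Chart z P)
  [IsSimpleGroup G] (hG : ¬ IsMulCommutative G)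

/-- The orbit under the normaliser. -/
def nOrb (A : Subgroup G) (a : G) : Set G := {v | ∃ n ∈ normalizer (A : Set G), n * a * n⁻¹ = v}

include X hG in
theorem ten_facts {A : Subgroup G} (hA : Cfsg.IsElementaryAbelian 2 A) (hc : Nat.card A = 2 ^ 10)
    (hself : centralizer (A : Set G) = A) :
    Nat.card ↥(normalizer (A : Set G)) = 2 ^ 10 * 9999360 ∧ {v | v ∈ A ∧ IsConj z v}.ncard = 155 ∧
    (∀ v ∈ A, IsConj z v → (nOrb A v).ncard = 155) ∧
    ∀ v ∈ A, v ≠ 1 → ¬ IsConj z v → (nOrb A v).ncard = 868 := by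
  classical
  obtain ⟨g, hg⟩ := X.exists_conj_base_global hA hc hself
  obtain ⟨B, hB⟩ := X.exists_oct
  obtain ⟨g', hg'⟩ := X.exists_conj_base_global (A := hB.ten)
    ⟨⟨⟨fun a b => Subtype.ext (hB.ten_comm a a.2 b b.2)⟩⟩, fun a ha => by rw [pow_two]; exact hB.ten_sq a ha⟩
    hB.card_ten hB.centralizer_ten
  set k := g⁻¹ * g' with hk
  have hcj : cjS k hB.ten = A := by
    have e : cjS g A = cjS g' hB.ten := hg.trans hg'.symm
    ext a
    have := SetLike.ext_iff.1 e (g * a * g⁻¹)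
    simp only [mem_cjS] at this ⊢
    simpa [hk, mul_assoc] using this.symm
  have hmem : ∀ v : G, k * v * k⁻¹ ∈ A ↔ v ∈ hB.ten := fun v => by
    rw [← hcj, mem_cjS]; simp [mul_assoc]
  have hY : ∀ n : G, k * n * k⁻¹ ∈ normalizer (A : Set G) ↔ n ∈ normalizer (hB.ten : Set G) := fun n => by
    rw [← hcj, ← cjS_normalizer, mem_cjS]; simp [mul_assoc]
  have hinj : Function.Injective fun w : G => k * w * k⁻¹ := fun a b e => mul_left_cancel (mul_right_cancel e)
  have horb : ∀ v : G, nOrb A (k * v * k⁻¹) = (fun w => k * w * k⁻¹) '' hB.orb v := by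
    intro v
    ext w
    constructor
    · rintro ⟨n, hn, rfl⟩
      refine ⟨k⁻¹ * n * k * v * (k⁻¹ * n * k)⁻¹, ⟨k⁻¹ * n * k, (hY _).1 ?_, rfl⟩, by group⟩
      simpa [mul_assoc] using hn
    · rintro ⟨_, ⟨n, hn, rfl⟩, rfl⟩
      exact ⟨k * n * k⁻¹, (hY n).2 hn, by group⟩
  have hback : ∀ v ∈ A, ∃ u ∈ hB.ten, k * u * k⁻¹ = v := fun v hv =>
    ⟨k⁻¹ * v * k, (hmem _).1 (by simpa [mul_assoc] using hv), by group⟩
  have hz : ∀ u : G, IsConj z (k * u * k⁻¹) ↔ IsConj z u := fun u =>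
    ⟨fun h => h.trans (isConj_iff.2 ⟨k, rfl⟩).symm, fun h => h.trans (isConj_iff.2 ⟨k, rfl⟩)⟩
  obtain ⟨h155, hN, -⟩ := hB.ten_params hG
  refine ⟨?_, ?_, ?_, ?_⟩
  · rw [← hN, ← hcj, ← cjS_normalizer, card_cjS]
  · rw [← h155, hB.orb_z]
    refine Eq.trans ?_ (Set.ncard_image_of_injective _ hinj)
    congr 1
    ext v
    constructor
    · rintro ⟨hv, hvz⟩
      obtain ⟨u, hu, rfl⟩ := hback v hv
      exact ⟨u, ⟨hu, (hz u).1 hvz⟩, rfl⟩
    · rintro ⟨u, ⟨hu, huz⟩, rfl⟩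
      exact ⟨(hmem u).2 hu, (hz u).2 huz⟩
  · intro v hv hvz
    obtain ⟨u, hu, rfl⟩ := hback v hv
    obtain ⟨n, hn, e⟩ := hB.fusion hu ((hz u).1 hvz)
    rw [horb, Set.ncard_image_of_injective _ hinj, hB.orb_trans ⟨n, hn, e⟩, h155]
  · intro v hv hv1 hvz
    obtain ⟨u, hu, rfl⟩ := hback v hv
    obtain ⟨b, -, hb868, hbS⟩ := hB.exists_others hG
    have hub : u ∈ hB.orb b := by
      rw [hbS]
      exact ⟨hu, fun e => hv1 (by rw [e, mul_one, mul_inv_cancel]), fun e => hvz ((hz u).2 e)⟩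
    rw [horb, Set.ncard_image_of_injective _ hinj, hB.orb_trans hub, hb868]

include X hG in
/-- No proper non-trivial invariant subgroup. -/
theorem ten_irreducible {A : Subgroup G} (hA : Cfsg.IsElementaryAbelian 2 A) (hc : Nat.card A = 2 ^ 10)
    (hself : centralizer (A : Set G) = A) {W : Subgroup G} (hW : W ≤ A)
    (hn : normalizer (A : Set G) ≤ normalizer (W : Set G)) : W = ⊥ ∨ W = A := by
  classical
  obtain ⟨-, hZc, hzo, hno⟩ := X.ten_facts hG hA hc hself
  set S := {v | v ∈ A ∧ v ≠ 1 ∧ ¬ IsConj z v} with hS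
  set Z := {v | v ∈ A ∧ IsConj z v} with hZ
  have h1z : ¬ IsConj z (1 : G) := fun e => X.L.J.ctr.ne_one (isConj_one_left.1 e)
  have horbW : ∀ w ∈ W, nOrb A w ⊆ W := by
    rintro w hw _ ⟨n, hn', rfl⟩
    exact M22Order.conj_mem_of_mem_normalizer (hn hn') hw
  have hZorb : ∀ w ∈ Z, nOrb A w = Z := fun w hw => Set.eq_of_subset_of_ncard_le (by
    rintro _ ⟨n, hn', rfl⟩
    exact ⟨M22Order.conj_mem_of_mem_normalizer hn' hw.1, hw.2.trans (isConj_iff.2 ⟨n, rfl⟩)⟩)
    (by rw [hzo w hw.1 hw.2, hZc])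
  have hS868 : S.ncard = 868 := by
    have hd : Disjoint ({1} : Set G) Z := Set.disjoint_singleton_left.2 fun e => h1z e.2
    rw [show S = (A : Set G) \ ({1} ∪ Z) by
      ext v
      simp only [hS, hZ, Set.mem_ofPred_eq, Set.mem_sdiff, SetLike.mem_coe, Set.mem_union, Set.mem_singleton_iff]
      tauto, Set.ncard_sdiff (Set.union_subset (Set.singleton_subset_iff.2 (one_mem _)) fun v hv => hv.1),
      ← Nat.card_coe_set_eq, SetLike.coe_sort_coe, hc, Set.ncard_union_eq hd, Set.ncard_singleton, hZc]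
    norm_num
  have hSorb : ∀ w ∈ S, nOrb A w = S := fun w hw => Set.eq_of_subset_of_ncard_le (by
    rintro _ ⟨n, hn', rfl⟩
    exact ⟨M22Order.conj_mem_of_mem_normalizer hn' hw.1, fun e => hw.2.1 (conj_eq_one_iff.1 e),
      fun e => hw.2.2 (e.trans (isConj_iff.2 ⟨n, rfl⟩).symm)⟩)
    (by rw [hno w hw.1 hw.2.1 hw.2.2, hS868])
  obtain ⟨j, -, hj⟩ := (Nat.dvd_prime_pow Nat.prime_two).1 (hc ▸ card_dvd_of_le hW)
  by_cases hz : ∃ w ∈ W, IsConj z w <;> by_cases hs : ∃ w ∈ W, w ∈ S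
  · obtain ⟨w, hw, hwz⟩ := hz
    obtain ⟨s, hs, hsS⟩ := hs
    refine Or.inr (le_antisymm hW fun v hv => ?_)
    by_cases hv1 : v = 1
    · rw [hv1]; exact one_mem _
    by_cases hvz : IsConj z v
    · exact horbW w hw ((hZorb w ⟨hW hw, hwz⟩).symm ▸ (⟨hv, hvz⟩ : v ∈ Z))
    · exact horbW s hs ((hSorb s hsS).symm ▸ (⟨hv, hv1, hvz⟩ : v ∈ S))
  · exfalso
    obtain ⟨w, hw, hwz⟩ := hz
    have e : (W : Set G) = insert 1 Z := by
      refine Set.Subset.antisymm (fun v hv => ?_) (Set.insert_subset (one_mem _) ?_)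
      · by_cases hv1 : v = 1
        · exact Or.inl hv1
        · exact Or.inr ⟨hW hv, by_contra fun h => hs ⟨v, hv, hW hv, hv1, h⟩⟩
      · rw [← hZorb w ⟨hW hw, hwz⟩]; exact horbW w hw
    have hn := congrArg Set.ncard e
    rw [Set.ncard_insert_of_notMem (fun h => h1z h.2), ← Nat.card_coe_set_eq, SetLike.coe_sort_coe, hj, hZc] at hn
    rcases Nat.lt_or_ge j 8 with h | h
    · interval_cases j <;> omega
    · have := Nat.pow_le_pow_right (show 1 ≤ 2 by norm_num) h; omega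
  · exfalso
    obtain ⟨s, hs, hsS⟩ := hs
    have e : (W : Set G) = insert 1 S := by
      refine Set.Subset.antisymm (fun v hv => ?_) (Set.insert_subset (one_mem _) ?_)
      · by_cases hv1 : v = 1
        · exact Or.inl hv1
        · exact Or.inr ⟨hW hv, hv1, fun h => hz ⟨v, hv, h⟩⟩
      · rw [← hSorb s hsS]; exact horbW s hs
    have hn := congrArg Set.ncard e
    rw [Set.ncard_insert_of_notMem (fun h => h.2.1 rfl), ← Nat.card_coe_set_eq, SetLike.coe_sort_coe, hj, hS868] at hn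
    rcases Nat.lt_or_ge j 10 with h | h
    · interval_cases j <;> omega
    · have := Nat.pow_le_pow_right (show 1 ≤ 2 by norm_num) h; omega
  · exact Or.inl ((eq_bot_iff_forall _).2 fun v hv =>
      by_contra fun hv1 => hs ⟨v, hv, hW hv, hv1, fun h => hz ⟨v, hv, h⟩⟩)

end Cfsg.Agent.J4Eleven.Chart
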