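import Cfsg.Agent.Lib.J4Ten.PlaneData
import Mathlib

/-!
# Linear symmetries of the decomposable bivectors in dimension five over two elements

Such a symmetry permutes the thirty-one stars as a linear map of the five-dimensional space.
-/

set_option autoImplicit false
set_option maxRecDepth 20000

namespace Cfsg.Agent.J4Ten

/-- Decomposability. -/
def isZ (n : ℕ) : Bool := zMask.testBit n

/-- The exclusive or on numbers below 1024. -/
def xr (a b : Fin 1024) : Fin 1024 := ⟨a.1 ^^^ b.1, Nat.xor_lt_two_pow (n := 10) a.2 b.2⟩

/-- The subgroup spanned by a list. -/
def spanL : List ℕ → List ℕ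
  | [] => [0]
  | b :: bs => spanL bs ++ (spanL bs).map (fun x => b ^^^ x)

/-- The star of a nonzero vector. -/
def starL (u : ℕ) : List ℕ := spanL (starGens.getD (u - 1) [])

/-- Membership in a star. -/
def inStar (u n : ℕ) : Bool := (starL u).contains n

/-- The indices of the stars. -/
def stars : List ℕ := (List.range 31).map (· + 1)

/-- The stars through a bivector. -/
def starsOf (x : ℕ) : List ℕ := stars.filter fun u => inStar u x

/-- Points of the count are decomposable. -/
def starOK : Bool :=
  stars.all fun u => (starL u).all (fun n => decide (n < 1024) && (n == 0 || isZ n) &&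
    (starL u).all fun m => inStar u (n ^^^ m)) && decide (starL u).Nodup && ((starL u).length == 16)

/-- Two stars share one non-zero bivector. -/
def meetOK : Bool :=
  stars.all fun u => stars.all fun v => u == v || ((starL u).filter fun n => inStar v n).length == 2

/-- Three stars pass through a bivector, on a line. -/
def lineOK : Bool :=
  (List.range 1024).all fun x => !isZ x ||
    match starsOf x with
    | [a, b, c] => a ^^^ b ^^^ c == 0
    | _ => false

/-- All bivectors are sums of two decomposable ones. -/
def sumOK : Bool :=
  (List.range 1024).all fun n => n == 0 || isZ n || (List.range 1024).any fun x => isZ x && isZ (n ^^^ x)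

/-- The decomposable ones that may follow a basis. -/
def nextOK (S : List ℕ) (v : ℕ) : Bool := S.all fun k => isZ (v ^^^ k) && decide (v < v ^^^ k)

/-- A decomposable subgroup of order 16 is a star. -/
def classOK : Bool :=
  let Z := (List.range 1024).filter isZ
  Z.all fun x =>
    let Nx := Z.filter fun y => decide (x < y) && nextOK [x] y
    Nx.all fun y =>
      let Nxy := Nx.filter fun w => decide (y < w) && nextOK [x, y, x ^^^ y] w
      Nxy.all fun w => Nxy.all fun v =>
        !(decide (w < v) && nextOK [x, y, x ^^^ y, w, x ^^^ w, y ^^^ w, x ^^^ y ^^^ w] v) ||
          (starsOf x).any fun u => inStar u y && inStar u w && inStar u v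

theorem starOK_eq : starOK = true := by decide +kernel
theorem meetOK_eq : meetOK = true := by decide +kernel
theorem lineOK_eq : lineOK = true := by decide +kernel
theorem sumOK_eq : sumOK = true := by decide +kernel
theorem classOK_eq : classOK = true := by decide +kernel

end Cfsg.Agent.J4Ten
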