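import Cfsg.Agent.Lib.J4Ten.OctadData
import Cfsg.Agent.Lib.J4Ten.Plane
import Cfsg.Agent.Lib.M24Module.Basic
import Cfsg.Agent.Lib.Golay.OctadStab

/-!
# The translations of the standard octad and the even sets of its points in the cocode
-/

set_option autoImplicit false
set_option maxRecDepth 20000

namespace Cfsg.Agent.J4Ten

open Cfsg
open Cfsg.Agent.Golay.Basic Cfsg.Agent.Golay.Perm Cfsg.Agent.Golay.M24 Cfsg.Agent.Golay.Cert
  Cfsg.Agent.Golay.Coset Cfsg.Agent.Golay.OctadStab Cfsg.Agent.M24Module.Basic Cfsg.Agent.Golay.Trans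
  Cfsg.Agent.Golay.M24Data Cfsg.Agent.Golay.Design
open scoped Pointwise

local notation "pG" => Equiv.Perm GolayPt

/-- The table of a translation. -/
def rTab (a : ℕ) : ℕ := rTabs.getD a idTab

/-- A translation. -/
noncomputable def rP (a : ℕ) : pG := tabPerm (rTab a)

/-- The point outside the octad of a translation. -/
def qIx (a : ℕ) : ℕ := tabAt (rTab a) 5

/-- The mask of an even subset of the octad. -/
def sM (w : ℕ) : ℕ := enc sList w

/-- Its word. -/
def sW (w : ℕ) : GolayPt → ZMod 2 := word (maskSet (sM w))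

/-- The base point outside and its image. -/
def uM (b : ℕ) : ℕ := 2 ^ 5 ^^^ 2 ^ qIx b

/-- Its word. -/
def uW (b : ℕ) : GolayPt → ZMod 2 := word (maskSet (uM b))

/-- The Pluecker coordinates of two vectors of dimension four. -/
def plk (a b : ℕ) : ℕ :=
  [(0, 1), (0, 2), (0, 3), (1, 2), (1, 3), (2, 3)].foldr
    (fun ij r => 2 * r + ((if a.testBit ij.1 && b.testBit ij.2 then 1 else 0) +
      (if a.testBit ij.2 && b.testBit ij.1 then 1 else 0)) % 2) 0

theorem checks_tab : (∀ a < 16, tabOK (rTab a) = true ∧ qIx a < 24 ∧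
    (∀ b < 16, ∀ i < 24, tabAt (rTab a) (tabAt (rTab b) i) = tabAt (rTab (a ^^^ b)) i) ∧
    (∀ b < 16, qIx a = qIx b → a = b) ∧
    ∀ i < 24, baseOctad.testBit i = true → tabAt (rTab a) i = i) := by decide +kernel

theorem checks_sM : ∀ w < 64, sM w < 2 ^ 24 ∧ sM w &&& baseOctad = sM w ∧ pc (sM w) % 2 = 0 ∧
    (w ≠ 0 → isCode (sM w) = false) ∧
    ∀ a < 16, a ≠ 0 → isCode (uM a ^^^ sM w) = false := by decide +kernel

theorem checks_conj : ∀ a < 16, ∀ b < 16, uM b < 2 ^ 24 ∧ pc (uM b) % 2 = 0 ∧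
    isCode (uM b ^^^ imgTab (rTab a) (uM b) ^^^ sM (plk a b)) = true ∧ plk a b < 64 ∧
    (plk a b ≠ 0 → pc (uM b ^^^ imgTab (rTab a) (uM b)) = 4) := by decide +kernel

theorem checks_fixed : ((List.range 4096).all fun r =>
    pc (r * 4096) % 2 == 1 ||
      ([1, 2, 4, 8].any fun k => !(isCode (imgTab (rTab k) (r * 4096) ^^^ r * 4096))) ||
      (List.range 64).any fun w => isCode (r * 4096 ^^^ sM w)) = true := by decide +kernel

theorem checks_dec : ((List.range 1024).all fun n => !isZ n ||
    if n / 64 = 0 then (List.range 16).any fun a => (List.range 16).any fun b =>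
      plk a b == n % 64 && !(plk a b == 0)
    else (List.range 16).any fun b => n % 64 == plk (n / 64) b) = true := by decide +kernel

theorem checks_count : ((List.range 1024).filter isZ).length = 155 := by decide +kernel

theorem checks_seven : tabOK seven = true ∧ imgTab seven baseOctad = baseOctad ∧ tabAt seven 5 = 5 ∧
    tabAt seven (qIx 1) = qIx 1 ∧ (∃ i < 24, tabAt seven i ≠ i) ∧
    ∀ i < 24, (fun j => tabAt seven j)^[7] i = i := by decide +kernel

theorem checks_move : ∀ a < 16, a ≠ 0 → tabOK (moveTabs.getD (a - 1) idTab) = true ∧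
    imgTab (moveTabs.getD (a - 1) idTab) baseOctad = baseOctad ∧
    tabAt (moveTabs.getD (a - 1) idTab) 5 = 5 ∧
    tabAt (moveTabs.getD (a - 1) idTab) (qIx 1) = qIx a := by decide +kernel

theorem checks_even : ((List.range 5280).all fun m => !(m &&& baseOctad == m) || pc m % 2 == 1 ||
    (List.range 64).any fun w => isCode (m ^^^ sM w)) = true := by decide +kernel

theorem checks_out : ∀ i < 24, baseOctad.testBit i = false → ∃ b < 16, qIx b = i := by decide +kernel

theorem oct_mem : maskSet baseOctad ∈ octads := mem_octads_iff.2 (by decide +kernel)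

theorem p_out : pt 5 ∉ maskSet baseOctad := by decide +kernel

theorem isTab_rP {a : ℕ} (ha : a < 16) : IsTab (rTab a) (rP a) := isTab_tabPerm (checks_tab a ha).1

theorem rP_mem {a : ℕ} (ha : a < 16) : rP a ∈ M24 := tabPerm_mem (checks_tab a ha).1

theorem rP_pt {a : ℕ} (ha : a < 16) : rP a (pt 5) = pt (qIx a) := by
  refine ix_injective ?_
  rw [isTab_rP ha, ix_pt (by norm_num), ix_pt (checks_tab a ha).2.1]
  rfl

theorem rP_mul {a b : ℕ} (ha : a < 16) (hb : b < 16) : rP (a ^^^ b) = rP a * rP b := by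
  refine Equiv.ext fun p => ix_injective ?_
  rw [Equiv.Perm.mul_apply, isTab_rP ha, isTab_rP hb,
    isTab_rP (Nat.xor_lt_two_pow (n := 4) ha hb), (checks_tab a ha).2.2.1 b hb _ (ix_lt p)]

theorem rP_mem_FK {a : ℕ} (ha : a < 16) : rP a ∈ FK (maskSet baseOctad) :=
  mem_FK.2 ⟨rP_mem ha, fun p hp => ix_injective (by
    rw [isTab_rP ha, (checks_tab a ha).2.2.2.2 _ (ix_lt p) (mem_maskSet.1 hp)])⟩

theorem rP_injective {a b : ℕ} (ha : a < 16) (hb : b < 16) (h : rP a = rP b) : a = b := by
  refine (checks_tab a ha).2.2.2.1 b hb ?_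
  have := congrArg (fun g : pG => ix (g (pt 5))) h
  simp only [rP_pt ha, rP_pt hb, ix_pt (checks_tab a ha).2.1, ix_pt (checks_tab b hb).2.1] at this
  exact this

theorem rP_zero : rP 0 = 1 := by
  have h := rP_mul (a := 0) (b := 0) (by norm_num) (by norm_num)
  rw [Nat.xor_self] at h
  exact mul_eq_left.1 h.symm

theorem exists_rP {g : pG} (hg : g ∈ FK (maskSet baseOctad)) : ∃ a < 16, rP a = g := by
  have hq : g (pt 5) ∉ maskSet baseOctad := fun h => p_out (by
    have e := (mem_FK.1 hg).2 _ h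
    exact g.injective e ▸ h)
  rw [mem_maskSet, Bool.not_eq_true] at hq
  obtain ⟨a, ha, e⟩ := checks_out _ (ix_lt _) hq
  refine ⟨a, ha, ?_⟩
  have h1 : (rP a)⁻¹ * g = 1 := by
    refine fix_eq_one oct_mem p_out (mul_mem (inv_mem (rP_mem_FK ha)) hg) ?_
    rw [Equiv.Perm.mul_apply, Equiv.Perm.inv_eq_iff_eq, rP_pt ha, e, pt_ix]
  exact inv_mul_eq_one.1 h1

theorem smul_maskSet {t m : ℕ} {g : pG} (ht : IsTab t g) (hm : m < 2 ^ 24) :
    g • maskSet m = maskSet (imgTab t m) := by
  conv_rhs => rw [← mask_maskSet hm]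
  rw [imgTab_mask ht, maskSet_mask]

theorem word_xor (m n : ℕ) : word (maskSet (m ^^^ n)) = word (maskSet m) + word (maskSet n) := by
  rw [mask_maskSet_xor, word_symmDiff]

theorem word_maskSet_code {m : ℕ} (hm : m < 2 ^ 24) : word (maskSet m) ∈ golayCode ↔ isCode m = true := by
  rw [mem_code_iff, support₂_word, mask_maskSet hm]

theorem even_word {m : ℕ} (h : pc m % 2 = 0) : ∑ p, word (maskSet m) p = 0 := by
  rw [sum_word, card_maskSet, ← ZMod.natCast_mod, h]; rfl

theorem sW_even {w : ℕ} (hw : w < 64) : ∑ p, sW w p = 0 := even_word (checks_sM w hw).2.2.1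

theorem uW_even {b : ℕ} (hb : b < 16) : ∑ p, uW b p = 0 := even_word (checks_conj 0 (by norm_num) b hb).2.1

theorem sW_xor {v w : ℕ} : sW (v ^^^ w) = sW v + sW w := by
  rw [sW, sW, sW, sM, sM, sM, enc_xor, word_xor]

theorem sM_sub {w : ℕ} (hw : w < 64) : maskSet (sM w) ⊆ maskSet baseOctad := by
  rw [subset_iff_mask, mask_maskSet (checks_sM w hw).1, mask_maskSet (by decide +kernel)]
  exact (checks_sM w hw).2.1

theorem sW_fix {g : pG} (hg : g ∈ FK (maskSet baseOctad)) {w : ℕ} (hw : w < 64) : permW g (sW w) = sW w := by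
  rw [sW, permW_word]
  congr 1
  rw [smul_finset_def]
  conv_rhs => rw [← Finset.image_id (s := maskSet (sM w))]
  exact Finset.image_congr fun p hp => (mem_FK.1 hg).2 p (sM_sub hw hp)

theorem sW_code {w : ℕ} (hw : w < 64) (h : sW w ∈ golayCode) : w = 0 := by
  by_contra h0
  rw [sW, word_maskSet_code (checks_sM w hw).1, (checks_sM w hw).2.2.2.1 h0] at h
  cases h

theorem u_sW_code {a w : ℕ} (ha : a < 16) (hw : w < 64) (h : uW a + sW w ∈ golayCode) : a = 0 := by
  by_contra h0
  rw [uW, sW, ← word_xor, word_maskSet_code (Nat.xor_lt_two_pow (checks_conj 0 (by norm_num) a ha).1 (checks_sM w hw).1),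
    (checks_sM w hw).2.2.2.2 a ha h0] at h
  cases h

theorem u_conj {a b : ℕ} (ha : a < 16) (hb : b < 16) :
    uW b + permW (rP a) (uW b) + sW (plk a b) ∈ golayCode := by
  obtain ⟨hu, -, hc, hp, -⟩ := checks_conj a ha b hb
  have e : word (maskSet (uM b ^^^ imgTab (rTab a) (uM b) ^^^ sM (plk a b))) ∈ golayCode :=
    word_maskSet_mem_of_isCode hc
  rwa [word_xor, word_xor, ← smul_maskSet (isTab_rP ha) hu, ← permW_word] at e

theorem plk_lt {a b : ℕ} (ha : a < 16) (hb : b < 16) : plk a b < 64 := (checks_conj a ha b hb).2.2.2.1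

/-- A decomposable vector of the Pluecker part is a four-set, so never a pair. -/
theorem plk_not_pair {a b : ℕ} (ha : a < 16) (hb : b < 16) (h0 : plk a b ≠ 0) {s : Finset GolayPt}
    (hs : s.card = 2) : sW (plk a b) + word s ∉ golayCode := by
  intro h
  obtain ⟨hu, -, -, -, h4⟩ := checks_conj a ha b hb
  set m := uM b ^^^ imgTab (rTab a) (uM b) with hm
  have hlt : m < 2 ^ 24 := Nat.xor_lt_two_pow hu (by
    rw [← mask_maskSet hu, imgTab_mask (isTab_rP ha)]; exact mask_lt _)
  have h1 := u_conj ha hb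
  rw [uW, permW_word, smul_maskSet (isTab_rP ha) hu, ← word_xor, ← hm] at h1
  have h2 := add_mem h1 h
  have e : word (maskSet m) + sW (plk a b) + (sW (plk a b) + word s) = word (symmDiff (maskSet m) s) := by
    rw [word_symmDiff, add_assoc, ← add_assoc (sW _) (sW _), add_self_word, zero_add]
  rw [e, word_mem_code] at h2
  have hw := weights_supports h2
  have he := card_symmDiff_eq (maskSet m) s
  rw [card_maskSet, h4 h0, hs] at he
  have hle : (maskSet m ∩ s).card ≤ 2 := hs ▸ Finset.card_le_card Finset.inter_subset_right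
  omega

theorem exists_reduce {m : ℕ} (hm : m < 2 ^ 24) : ∃ r < 4096, isCode (m ^^^ r * 4096) = true := by
  have hcm : isCode (enc basisMasks m) = true := by simp [isCode, enc_idem]
  have henc_lt : enc basisMasks m < 2 ^ 24 :=
    of_decide_eq_true (forall_code (P := fun x => decide (x < 2 ^ 24)) (by decide +kernel) hcm)
  obtain ⟨m', hm'⟩ : ∃ m', m' = m ^^^ enc basisMasks m := ⟨_, rfl⟩
  have hlt : m' < 2 ^ 24 := hm' ▸ Nat.xor_lt_two_pow hm henc_lt
  have hlow : m' % 2 ^ 12 = 0 := by
    rw [hm', Nat.xor_mod_two_pow]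
    have hs : ((List.range 4096).all fun a => enc basisMasks a % 4096 == a) = true := by decide +kernel
    have h' : enc basisMasks (m % 4096) % 4096 = m % 4096 := by
      simpa using List.all_eq_true.1 hs (m % 4096) (List.mem_range.2 (Nat.mod_lt _ (by norm_num)))
    rw [show 4096 = 2 ^ basisMasks.length by rfl, enc_mod] at h'
    rw [show (2 : ℕ) ^ 12 = 2 ^ basisMasks.length by rfl, h', Nat.xor_self]
  refine ⟨m' / 4096, Nat.div_lt_of_lt_mul (by simpa using hlt), ?_⟩
  have e := Nat.div_add_mod m' (2 ^ 12)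
  rw [hlow, add_zero, mul_comm] at e
  rw [show m' / 4096 * 4096 = m' by simpa using e, hm', ← Nat.xor_assoc, Nat.xor_self, Nat.zero_xor]
  exact hcm

/-- An even word fixed by the translations modulo the code is an even set of points of the octad. -/
theorem exists_sW_of_fixed {w : GolayPt → ZMod 2} (hw : ∑ p, w p = 0)
    (hfix : ∀ a < 16, permW (rP a) w + w ∈ golayCode) : ∃ v < 64, w + sW v ∈ golayCode := by
  obtain ⟨r, hr, hc⟩ := exists_reduce (mask_lt (support₂ w))
  have hr24 : r * 4096 < 2 ^ 24 := by omega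
  have hwr : w + word (maskSet (r * 4096)) ∈ golayCode := by
    have := word_maskSet_mem_of_isCode hc
    rwa [word_xor, maskSet_mask, word_support₂] at this
  have hreven : ¬ pc (r * 4096) % 2 = 1 := fun e => by
    have h1 : ∑ p, (w + word (maskSet (r * 4096))) p = 0 := code_le_even hwr
    simp only [Pi.add_apply, Finset.sum_add_distrib, hw, zero_add, sum_word, card_maskSet] at h1
    rw [← ZMod.natCast_mod, e] at h1
    exact absurd h1 (by decide)
  have h := checks_fixed
  simp only [List.all_eq_true, List.mem_range, Bool.or_eq_true, beq_iff_eq, List.any_eq_true,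
    Bool.not_eq_true'] at h
  rcases h r hr with (e | ⟨k, hk, hkc⟩) | ⟨v, hv, hvc⟩
  · exact absurd e hreven
  · exfalso
    have hk16 : k < 16 := by simp only [List.mem_cons, List.not_mem_nil, or_false] at hk; omega
    have h1 : permW (rP k) (w + word (maskSet (r * 4096))) ∈ golayCode := permW_mem_code (rP_mem hk16) hwr
    have h2 := add_mem (add_mem h1 hwr) (hfix k hk16)
    have e : permW (rP k) (w + word (maskSet (r * 4096))) + (w + word (maskSet (r * 4096))) + (permW (rP k) w + w)
        = word (maskSet (imgTab (rTab k) (r * 4096) ^^^ r * 4096)) := by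
      rw [word_xor, ← smul_maskSet (isTab_rP hk16) hr24, ← permW_word]
      have h2 : ∀ a : ZMod 2, a + a = 0 := by decide
      funext p
      simp only [Pi.add_apply, permW]
      linear_combination h2 (w ((rP k).symm p)) + h2 (w p)
    rw [e, word_maskSet_code (Nat.xor_lt_two_pow
      (by rw [← mask_maskSet hr24, imgTab_mask (isTab_rP hk16)]; exact mask_lt _) hr24), hkc] at h2
    cases h2
  · refine ⟨v, hv, ?_⟩
    have h1 := add_mem hwr (word_maskSet_mem_of_isCode hvc)
    rwa [word_xor, add_assoc, ← add_assoc (word _) (word _), add_self_word, zero_add] at h1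

theorem exists_sW_of_subset {s : Finset GolayPt} (hs : s ⊆ maskSet baseOctad) (he : s.card % 2 = 0) :
    ∃ v < 64, word s + sW v ∈ golayCode := by
  have hm : mask s &&& baseOctad = mask s := by
    have := subset_iff_mask.1 hs
    rwa [mask_maskSet (by decide +kernel)] at this
  have hlt : mask s < 5280 := Nat.lt_succ_of_le (hm ▸ Nat.and_le_right)
  have h := checks_even
  simp only [List.all_eq_true, List.mem_range, Bool.or_eq_true, Bool.not_eq_true', beq_eq_false_iff_ne,
    beq_iff_eq, List.any_eq_true] at h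
  rcases h _ hlt with (e | e) | e
  · exact absurd hm e
  · rw [← card_eq_pc] at e; omega
  obtain ⟨v, hv, hc⟩ := e
  refine ⟨v, hv, ?_⟩
  have := word_maskSet_mem_of_isCode hc
  rwa [word_xor, maskSet_mask] at this

theorem permW_sW {g : pG} (hg : g ∈ OK (maskSet baseOctad)) {w : ℕ} (hw : w < 64) :
    ∃ v < 64, permW g (sW w) + sW v ∈ golayCode := by
  rw [sW, permW_word]
  have hgo : g • maskSet baseOctad = maskSet baseOctad := hg.2
  refine exists_sW_of_subset ?_ (by rw [Finset.card_smul_finset, card_maskSet]; exact (checks_sM w hw).2.2.1)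
  rw [← hgo]
  exact Finset.smul_finset_subset_smul_finset (sM_sub hw)

theorem exists_uW {g : pG} (hg : g ∈ OK (maskSet baseOctad)) :
    ∃ b < 16, word {pt 5} + permW g (word {pt 5}) = uW b := by
  have hgo : g • maskSet baseOctad = maskSet baseOctad := hg.2
  have hq : g (pt 5) ∉ maskSet baseOctad := fun h => p_out (by
    rwa [← hgo, mem_smul_iff] at h)
  rw [mem_maskSet, Bool.not_eq_true] at hq
  obtain ⟨b, hb, e⟩ := checks_out _ (ix_lt _) hq
  refine ⟨b, hb, ?_⟩
  have hs : ∀ i < 24, maskSet (2 ^ i) = {pt i} := by decide +kernel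
  rw [uW, uM, word_xor, hs 5 (by norm_num), hs _ (checks_tab b hb).2.1, e, pt_ix, permW_word,
    smul_finset_def, Finset.image_singleton]

theorem tab_OK {t : ℕ} (h : tabOK t = true) (ho : imgTab t baseOctad = baseOctad) :
    tabPerm t ∈ OK (maskSet baseOctad) :=
  ⟨tabPerm_mem h, by
    show tabPerm t • maskSet baseOctad = maskSet baseOctad
    rw [smul_maskSet (isTab_tabPerm h) (by decide +kernel), ho]⟩

theorem conj_rP {g : pG} (hg : g ∈ OK (maskSet baseOctad)) {a : ℕ} (ha : a < 16) :
    g * rP a * g⁻¹ ∈ FK (maskSet baseOctad) := by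
  have := (mem_FK_conj (o := maskSet baseOctad) hg.1 (rP a)).1 (rP_mem_FK ha)
  rwa [show g • maskSet baseOctad = maskSet baseOctad from hg.2] at this

theorem conj_eq_of_moves {g : pG} (hg : g ∈ OK (maskSet baseOctad)) {a b : ℕ} (ha : a < 16) (hb : b < 16)
    (hp : g (pt 5) = pt 5) (hq : g (pt (qIx a)) = pt (qIx b)) : g * rP a * g⁻¹ = rP b := by
  obtain ⟨c, hc, e⟩ := exists_rP (conj_rP hg ha)
  have h5 : g⁻¹ (pt 5) = pt 5 := by rw [Equiv.Perm.inv_eq_iff_eq, hp]
  have := congrArg (fun h : pG => ix (h (pt 5))) e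
  simp only [rP_pt hc, Equiv.Perm.mul_apply, h5, rP_pt ha, hq, ix_pt (checks_tab c hc).2.1,
    ix_pt (checks_tab b hb).2.1] at this
  rw [← e, (checks_tab c hc).2.2.2.1 b hb this]

theorem exists_seven_perm : ∃ g ∈ OK (maskSet baseOctad), orderOf g = 7 ∧ g * rP 1 * g⁻¹ = rP 1 := by
  obtain ⟨hok, ho, h5, hq, ⟨i, hi, hne⟩, h7⟩ := checks_seven
  set g := tabPerm seven
  have hT : IsTab seven g := isTab_tabPerm hok
  have hpow : ∀ n p, ix ((g ^ n) p) = (fun j => tabAt seven j)^[n] (ix p) := fun n => by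
    induction n with
    | zero => intro p; rfl
    | succ n ih =>
      intro p
      rw [pow_succ', Equiv.Perm.mul_apply, hT, ih, Function.iterate_succ_apply']
  refine ⟨g, tab_OK hok ho, ?_, conj_eq_of_moves (tab_OK hok ho) (by norm_num) (by norm_num) ?_ ?_⟩
  · haveI : Fact (Nat.Prime 7) := ⟨by norm_num⟩
    refine orderOf_eq_prime (Equiv.ext fun p => ix_injective ?_) fun e => hne ?_
    · rw [hpow, h7 _ (ix_lt p)]; rfl
    · have := hT (pt i)
      rw [e, Equiv.Perm.one_apply, ix_pt hi] at this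
      exact this.symm
  · exact ix_injective (by rw [hT, ix_pt (by norm_num), h5])
  · exact ix_injective (by rw [hT, ix_pt (checks_tab 1 (by norm_num)).2.1, hq])

theorem exists_move_rP {a : ℕ} (ha : a < 16) (ha0 : a ≠ 0) :
    ∃ g ∈ OK (maskSet baseOctad), g * rP 1 * g⁻¹ = rP a := by
  obtain ⟨hok, ho, h5, hq⟩ := checks_move a ha ha0
  have hT := isTab_tabPerm hok
  refine ⟨_, tab_OK hok ho, conj_eq_of_moves (tab_OK hok ho) (by norm_num) ha ?_ ?_⟩
  · exact ix_injective (by rw [hT, ix_pt (by norm_num), h5])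
  · exact ix_injective (by rw [hT, ix_pt (checks_tab 1 (by norm_num)).2.1, hq, ix_pt (checks_tab a ha).2.1])

end Cfsg.Agent.J4Ten
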