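import Cfsg.Agent.Lib.J4Ten.Count
import Cfsg.Agent.Lib.J4Ten.Octad
import Cfsg.Agent.Lib.J4V.Inst

/-!
# Janko four type: coordinates on the normaliser of the subgroup of order `2 ^ 11`

* `VFrame`: `M24` and the even cocode inside the group.
* `VFrame.nonz_iff`: the classes outside that of `z` are those of the pairs.
-/

set_option autoImplicit false
set_option linter.style.haveILetI false
set_option linter.unusedSectionVars false

namespace Cfsg.Agent.J4Eleven.Chart

open Subgroup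
open Cfsg (GolayPt golayCode M24)
open Cfsg.Agent.J4Local
open Cfsg.Agent.Golay.Basic Cfsg.Agent.M24Module.Basic
open scoped Pointwise

universe u

variable {G : Type u} [Group G] [Finite G] {z : G} {P : Subgroup G}

/-- `M24` and the even cocode in the normaliser of the subgroup of order `2 ^ 11`. -/
structure VFrame (X : Chart z P) where
  k : Equiv.Perm GolayPt → G
  e : (GolayPt → ZMod 2) → G
  k_mem : ∀ g ∈ M24, k g ∈ normalizer (X.std : Set G)
  k_mul : ∀ g ∈ M24, ∀ h ∈ M24, k (g * h) = k g * k h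
  k_inj : ∀ g ∈ M24, k g ∈ X.std → g = 1
  k_dec : ∀ n ∈ normalizer (X.std : Set G), ∃ g ∈ M24, (k g)⁻¹ * n ∈ X.std
  e_mem : ∀ w : GolayPt → ZMod 2, ∑ p, w p = 0 → e w ∈ X.std
  e_add : ∀ v w : GolayPt → ZMod 2, ∑ p, v p = 0 → ∑ p, w p = 0 → e (v + w) = e v * e w
  e_surj : ∀ v ∈ X.std, ∃ w : GolayPt → ZMod 2, ∑ p, w p = 0 ∧ e w = v
  e_code : ∀ w ∈ golayCode, e w = 1
  e_conj : ∀ g ∈ M24, ∀ w : GolayPt → ZMod 2, ∑ p, w p = 0 → k g * e w * (k g)⁻¹ = e (permW g w)

variable (X : Chart z P) [IsSimpleGroup G] (hG : ¬ IsMulCommutative G)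

include hG in
theorem exists_vframe : Nonempty (VFrame X) := by
  classical
  obtain ⟨φ, ε, eadd, emem, esur, ecode, econj⟩ := X.exists_phi_eps hG
  obtain ⟨K, hK, hKi, hKs, -⟩ := J4V.Split.exists_complement X φ ε eadd emem esur ecode econj
  let f : ↥K →* ↥M24 := (φ.toMonoidHom.comp (QuotientGroup.mk' (J4V.Split.VN X.std))).comp (inclusion hK)
  have hfin : Function.Bijective f := by
    refine ⟨(injective_iff_map_eq_one f).2 fun a ha => ?_, fun m => ?_⟩
    · have h1 : (QuotientGroup.mk (inclusion hK a) : ↥(J4V.Split.NV X.std) ⧸ J4V.Split.VN X.std) = 1 := φ.injective (ha.trans (map_one φ).symm)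
      rw [QuotientGroup.eq_one_iff, mem_subgroupOf] at h1
      have : (a : G) ∈ K ⊓ X.std := ⟨a.2, h1⟩
      rw [hKi, mem_bot] at this
      exact Subtype.ext this
    · obtain ⟨⟨n, hn⟩, e⟩ := QuotientGroup.mk_surjective (φ.symm m)
      have hn' : n ∈ K ⊔ X.std := by rw [hKs]; exact hn
      obtain ⟨v, hv, a, ha, rfl⟩ := (Cfsg.Agent.Coprime.mem_sup_of_le_normalizer hK).1 (sup_comm K X.std ▸ hn')
      refine ⟨⟨a, ha⟩, ?_⟩
      rw [← φ.apply_symm_apply m, ← e]
      refine congrArg φ (QuotientGroup.eq.2 ?_)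
      rw [mem_subgroupOf]
      simpa [mul_assoc] using M22Order.conj_mem_of_mem_normalizer (inv_mem (hK ha)) hv
  let θ := MulEquiv.ofBijective f hfin
  let k : Equiv.Perm GolayPt → G := fun g => if hg : g ∈ M24 then (θ.symm ⟨g, hg⟩ : G) else 1
  have hk : ∀ g (hg : g ∈ M24), k g = θ.symm ⟨g, hg⟩ := fun g hg => dif_pos hg
  have hφ : ∀ g (hg : g ∈ M24), φ (QuotientGroup.mk (inclusion hK (θ.symm ⟨g, hg⟩))) = ⟨g, hg⟩ :=
    fun g hg => θ.apply_symm_apply ⟨g, hg⟩
  refine ⟨⟨k, fun w => (ε w : G), fun g hg => ?_, fun g hg h hh => ?_, fun g hg hgV => ?_, fun n hn => ?_,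
    fun w hw => mem_subgroupOf.1 (emem w hw), fun v w hv hw => congrArg Subtype.val (eadd v w hv hw),
    fun v hv => ?_, fun w hw => congrArg Subtype.val (ecode w hw), fun g hg w hw => ?_⟩⟩
  · rw [hk g hg]; exact hK (θ.symm ⟨g, hg⟩).2
  · rw [hk g hg, hk h hh, hk _ (mul_mem hg hh), ← coe_mul, ← map_mul]
    rfl
  · rw [hk g hg] at hgV
    have h1 : (θ.symm ⟨g, hg⟩ : G) ∈ K ⊓ X.std := ⟨(θ.symm ⟨g, hg⟩).2, hgV⟩
    rw [hKi, mem_bot] at h1
    have h2 : θ.symm ⟨g, hg⟩ = 1 := Subtype.ext h1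
    have := congrArg θ h2
    rw [θ.apply_symm_apply, map_one] at this
    exact congrArg Subtype.val this
  · refine ⟨φ (QuotientGroup.mk ⟨n, hn⟩), (φ (QuotientGroup.mk ⟨n, hn⟩)).2, ?_⟩
    rw [hk _ (φ (QuotientGroup.mk ⟨n, hn⟩)).2]
    have h1 := φ.injective (hφ _ (φ (QuotientGroup.mk ⟨n, hn⟩)).2)
    rw [QuotientGroup.eq, mem_subgroupOf] at h1
    simpa using h1
  · obtain ⟨w, hw, e⟩ := esur ⟨v, le_normalizer hv⟩ (mem_subgroupOf.2 hv)
    exact ⟨w, hw, congrArg Subtype.val e⟩
  · rw [hk g hg]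
    have := congrArg Subtype.val (econj (inclusion hK (θ.symm ⟨g, hg⟩)) w hw)
    rw [hφ g hg] at this
    exact this

variable {X} (F : VFrame X)

theorem VFrame.k_one : F.k 1 = 1 := by
  have := F.k_mul 1 (one_mem _) 1 (one_mem _)
  rw [one_mul] at this
  exact mul_eq_left.1 this.symm

theorem VFrame.k_inv {g : Equiv.Perm GolayPt} (hg : g ∈ M24) : F.k g⁻¹ = (F.k g)⁻¹ := by
  refine eq_inv_of_mul_eq_one_left ?_
  rw [← F.k_mul _ (inv_mem hg) _ hg, inv_mul_cancel, F.k_one]

theorem VFrame.e_zero : F.e 0 = 1 := F.e_code 0 (zero_mem _)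

theorem VFrame.e_eq_one {w : GolayPt → ZMod 2} (hw : ∑ p, w p = 0) : F.e w = 1 ↔ w ∈ golayCode := by
  refine ⟨fun hw1 => ?_, F.e_code w⟩
  by_contra hwc
  let W : Submodule (ZMod 2) (GolayPt → ZMod 2) :=
    AddSubgroup.toZModSubmodule 2
      { carrier := {v | ∑ p, v p = 0 ∧ F.e v = 1}
        zero_mem' := ⟨by simp, F.e_zero⟩
        add_mem' := fun {a b} ha hb => ⟨by simp [Finset.sum_add_distrib, ha.1, hb.1],
          by rw [F.e_add a b ha.1 hb.1, ha.2, hb.2, one_mul]⟩
        neg_mem' := fun {a} ha => by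
          have : -a = a := funext fun p => by
            have h2 : ∀ x : ZMod 2, -x = x := by decide
            exact h2 _
          rw [this]; exact ha }
  have hW : Invariant W := fun σ hσ v hv => by
    refine ⟨?_, ?_⟩
    · rw [← hv.1]; exact Equiv.sum_comp σ.symm v
    · rw [← F.e_conj σ hσ v hv.1, hv.2, mul_one, mul_inv_cancel]
  have hle := even_le_of_not_code hW (show w ∈ W from ⟨hw, hw1⟩) hwc
  have : Nat.card X.std = 1 := by
    rw [card_eq_one, eq_bot_iff_forall]
    intro v hv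
    obtain ⟨u, hu, rfl⟩ := F.e_surj v hv
    exact (hle (show u ∈ evenSub from hu)).2
  rw [X.std_eleven.card] at this
  norm_num at this

theorem VFrame.e_eq_iff {v w : GolayPt → ZMod 2} (hv : ∑ p, v p = 0) (hw : ∑ p, w p = 0) :
    F.e v = F.e w ↔ v + w ∈ golayCode := by
  rw [← F.e_eq_one (by simp [Finset.sum_add_distrib, hv, hw]), F.e_add v w hv hw]
  have hsq : F.e w * F.e w = 1 := X.std_eleven.sq _ (F.e_mem w hw)
  exact ⟨fun e => by rw [e, hsq], fun e => by rw [eq_inv_of_mul_eq_one_left e, inv_eq_of_mul_eq_one_right hsq]⟩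

/-- The vector of a pair of points. -/
def VFrame.pair (s : Finset GolayPt) : G := F.e (word s)

theorem pair_even {s : Finset GolayPt} (hs : s.card = 2) : ∑ p, word s p = 0 := by
  rw [sum_word, hs]; rfl

theorem VFrame.pair_inj {s t : Finset GolayPt} (hs : s.card = 2) (ht : t.card = 2) (h : F.pair s = F.pair t) :
    s = t := by
  rw [VFrame.pair, VFrame.pair, F.e_eq_iff (pair_even hs) (pair_even ht), ← word_symmDiff, word_mem_code] at h
  rcases Cfsg.Agent.Golay.Coset.eq_or_union_octad (s := s) (t := t) (by omega) (by omega) h with e | e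
  · exact e
  · omega

include hG in
/-- The elements outside the class of `z` are those of the pairs. -/
theorem VFrame.nonz_iff {v : G} : v ∈ X.std ∧ v ≠ 1 ∧ ¬ IsConj z v ↔ ∃ s : Finset GolayPt, s.card = 2 ∧ F.pair s = v := by
  classical
  set S := {v | v ∈ X.std ∧ v ≠ 1 ∧ ¬ IsConj z v} with hS
  set T := F.pair '' {s : Finset GolayPt | s.card = 2} with hT
  have hn : {s : Finset GolayPt | s.card = 2}.ncard = 276 := by
    rw [show {s : Finset GolayPt | s.card = 2} = ↑(Finset.powersetCard 2 (Finset.univ : Finset GolayPt)) by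
      ext s; simp, Set.ncard_coe_finset, Finset.card_powersetCard, Finset.card_univ,
      show Fintype.card GolayPt = 24 by decide]
    rfl
  have hTc : T.ncard = 276 := by
    rw [hT, Set.InjOn.ncard_image (f := F.pair) (s := {s : Finset GolayPt | s.card = 2}) (fun a ha b hb e => F.pair_inj ha hb e), hn]
  have hTS : T ⊆ S := by
    rintro _ ⟨s, hs, rfl⟩
    refine ⟨F.e_mem _ (pair_even hs), fun e => ?_, fun hz => ?_⟩
    · rw [VFrame.pair, F.e_eq_one (pair_even hs), word_mem_code] at e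
      rcases weights_supports e with h | h | h | h | h <;> rw [show s.card = 2 from hs] at h <;> omega
    · have hsub : {x | ∃ n ∈ normalizer (X.std : Set G), n * z * n⁻¹ = x} ⊆ T := by
        intro x hx
        obtain ⟨m, hm, e⟩ : F.pair s ∈ {x | ∃ n ∈ normalizer (X.std : Set G), n * z * n⁻¹ = x} := by
          rw [X.zt_orbit hG]; exact ⟨F.e_mem _ (pair_even hs), hz⟩
        obtain ⟨n, hn, rfl⟩ := hx
        obtain ⟨g, hg, hgn⟩ := F.k_dec (n * m⁻¹) (mul_mem hn (inv_mem hm))
        refine ⟨g • s, by rw [Set.mem_ofPred_eq, Finset.card_smul_finset]; exact hs, ?_⟩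
        rw [VFrame.pair, ← permW_word, ← F.e_conj g hg _ (pair_even hs),
          show n * z * n⁻¹ = n * m⁻¹ * F.pair s * (n * m⁻¹)⁻¹ by rw [← e]; group,
          show n * m⁻¹ = F.k g * ((F.k g)⁻¹ * (n * m⁻¹)) by group]
        set v := (F.k g)⁻¹ * (n * m⁻¹)
        have hc := X.std_eleven.comm v hgn _ (F.e_mem _ (pair_even hs))
        rw [show F.k g * v * F.pair s * (F.k g * v)⁻¹ = F.k g * (v * F.pair s) * v⁻¹ * (F.k g)⁻¹ by group,
          show v * F.pair s = F.pair s * v from hc]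
        unfold VFrame.pair
        group
      have := Set.ncard_le_ncard hsub
      rw [hTc, X.zt_orbit hG, (X.params hG).2.1] at this
      omega
  have e : T = S := Set.eq_of_subset_of_ncard_le hTS (by rw [hS, X.others_ncard hG, hTc])
  exact ⟨fun h => (e.symm.subset h : v ∈ T), fun h => e.subset h⟩

end Cfsg.Agent.J4Eleven.Chart
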