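import Cfsg.Agent.Lib.J4Ten.Classify

/-!
# Janko four type: the self-centralising elementary abelian subgroups of order `2 ^ 10` are conjugate
-/

set_option autoImplicit false
set_option linter.style.haveILetI false
set_option linter.unusedSectionVars false

namespace Cfsg.Agent.J4Eleven.Chart

open Subgroup
open Cfsg.Agent.J4Local
open Cfsg.Agent.M22Order (Setup)

universe u

variable {G : Type u} [Group G] [Finite G] {z : G} {P : Subgroup G} (X : Chart z P)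

theorem imT_ten {B : Subgroup ↥Cfsg.Spor.M22} (h : X.Oct B) : X.imT h.ten = B := by
  refine le_antisymm ?_ fun b hb => ?_
  · rintro _ ⟨⟨a, ha0⟩, ha, rfl⟩
    exact h.psi_ten ha ha0
  · obtain ⟨c, hc, e⟩ := X.exists_lft h.sq hb
    exact ⟨⟨c, CC_le_H0 z P hc.1⟩, h.lft_le_ten hc, (X.psi_CC hc.1 _).trans e⟩

theorem mem_imT_conj {A : Subgroup G} {d : G} (hd : d ∈ CC z P) {m : ↥Cfsg.Spor.M22} :
    m ∈ X.imT (cjS d A) ↔ (X.π ⟨d, hd⟩)⁻¹ * m * X.π ⟨d, hd⟩ ∈ X.imT A := by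
  have hd0 := CC_le_H0 z P hd
  constructor
  · rintro ⟨⟨_, ha0⟩, ⟨a, ha, rfl⟩, rfl⟩
    have ha0' : a ∈ H0 z P := by
      have := mul_mem (mul_mem (inv_mem hd0) ha0) hd0
      simpa [mul_assoc] using this
    refine ⟨⟨a, ha0'⟩, ha, ?_⟩
    have e : (⟨(MulAut.conj d).toMonoidHom a, ha0⟩ : ↥(H0 z P)) = ⟨d, hd0⟩ * ⟨a, ha0'⟩ * ⟨d, hd0⟩⁻¹ :=
      Subtype.ext rfl
    rw [e, map_mul, map_mul, map_inv, X.psi_CC hd hd0]
    group
  · rintro ⟨⟨a, ha0⟩, ha, e⟩
    refine ⟨⟨d, hd0⟩ * ⟨a, ha0⟩ * ⟨d, hd0⟩⁻¹, ⟨a, ha, rfl⟩, ?_⟩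
    rw [map_mul, map_mul, map_inv, X.psi_CC hd hd0, e]
    group

/-- Two such subgroups with `t` in their images are conjugate by a lift from `E`. -/
theorem conj_of_t {A A' : Subgroup G} (hA : Ten z A) (hA' : Ten z A') (ht : X.S.t ∈ X.imT A)
    (ht' : X.S.t ∈ X.imT A') : ∃ l ∈ X.LE, cjS l A = A' := by
  obtain ⟨B, h, hB, rfl⟩ := X.eq_ten hA ht
  obtain ⟨B', h', hB', rfl⟩ := X.eq_ten hA' ht'
  obtain ⟨f, hf, hff⟩ := X.oct_conj h h'
  obtain ⟨l, hl, el⟩ := X.exists_lift hf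
  refine ⟨l, hl, ?_⟩
  have hT := hA.conj (X.LE_le_CC hl).1
  have e : X.imT (cjS l h.ten) = B' := by
    ext m
    rw [X.mem_imT_conj (X.LE_le_CC hl), el, X.imT_ten h, hff]
  obtain ⟨B'', h'', hB'', e''⟩ := X.eq_ten hT (e.symm ▸ h'.tmem)
  rw [e''] at e ⊢
  obtain rfl : B'' = B' := (X.imT_ten h'').symm.trans e
  rfl

theorem exists_base : ∃ B, X.Oct B := X.exists_oct

/-- The distinguished subgroup of order `2 ^ 10`. -/
noncomputable def base : Subgroup G := X.exists_oct.choose_spec.ten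

theorem base_ten : Ten z X.base := X.ten_is X.exists_oct.choose_spec

theorem t_mem_base : X.S.t ∈ X.imT X.base := by
  rw [base, X.imT_ten]
  exact X.exists_oct.choose_spec.tmem

/-- All of those through `z` are conjugate in the centraliser of `z` to the distinguished one. -/
theorem exists_conj_base {A : Subgroup G} (hA : Ten z A) : ∃ d ∈ CC z P, cjS d A = X.base := by
  obtain ⟨d, hd, hdt⟩ := X.exists_move hA
  obtain ⟨l, hl, e⟩ := X.conj_of_t (hA.conj hd.1) X.base_ten hdt X.t_mem_base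
  refine ⟨l * d, mul_mem (X.LE_le_CC hl) hd, ?_⟩
  rw [← e]
  ext a
  simp only [mem_cjS, mul_inv_rev]
  constructor <;> intro h <;> simpa [mul_assoc] using h

include X in
/-- All self-centralising elementary abelian subgroups of order `2 ^ 10` are conjugate to it. -/
theorem exists_conj_base_global {A : Subgroup G} (hE : Cfsg.IsElementaryAbelian 2 A) (hc : Nat.card A = 2 ^ 10)
    (hself : centralizer (A : Set G) = A) : ∃ g : G, cjS g A = X.base := by
  haveI : Fact (Nat.Prime 2) := ⟨Nat.prime_two⟩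
  have hJ := X.L.J
  have hsq : ∀ a ∈ A, a * a = 1 := fun a ha => by rw [← pow_two]; exact hE.2 a ha
  have hp : IsPGroup 2 A := IsPGroup.of_card (n := 10) hc
  obtain ⟨T, hT⟩ := hp.exists_le_sylow
  have hEp : IsPGroup 2 ↥(EE z) := IsPGroup.of_card (n := 13) hJ.cardE
  obtain ⟨Q, hQ⟩ := hEp.exists_le_sylow
  haveI : Nontrivial ↥(Q : Subgroup G) :=
    ⟨⟨⟨z, hQ hJ.ctr.z_mem⟩, 1, fun e => hJ.ctr.ne_one (congrArg Subtype.val e)⟩⟩
  haveI := Q.isPGroup'.center_nontrivial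
  obtain ⟨⟨⟨x, hxQ⟩, hx⟩, hx1⟩ := exists_ne (1 : ↥(center ↥(Q : Subgroup G)))
  have hxz : x = z := by
    have h1 : x ∈ centralizer (EE z : Set G) := mem_centralizer_iff.2 fun e he =>
      congrArg Subtype.val (mem_center_iff.1 hx ⟨e, hQ he⟩)
    rw [hJ.ctr.cent] at h1
    refine (hJ.mem_zpowers h1).resolve_left fun e => hx1 ?_
    subst e
    rfl
  obtain ⟨g, hg⟩ := MulAction.exists_smul_eq G T Q
  have hgT : cjS g (T : Subgroup G) = (Q : Subgroup G) := by rw [← hg]; rfl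
  have hz : g⁻¹ * z * g ∈ A := by
    rw [← hself, mem_centralizer_iff]
    intro a ha
    have hga : g * a * g⁻¹ ∈ (Q : Subgroup G) := hgT ▸ ⟨a, hT ha, rfl⟩
    subst hxz
    have h2 : g * a * g⁻¹ * x = x * (g * a * g⁻¹) := congrArg Subtype.val (mem_center_iff.1 hx ⟨_, hga⟩)
    calc a * (g⁻¹ * x * g) = g⁻¹ * (g * a * g⁻¹ * x) * g := by group
      _ = g⁻¹ * x * g * a := by rw [h2]; group
  have hA' : Ten z (cjS g A) := by
    refine ⟨mem_cjS.2 hz, ?_, ?_, by rw [card_cjS, hc], ?_⟩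
    · rintro _ ⟨a, ha, rfl⟩
      rw [← map_mul, hsq a ha, map_one]
    · rintro _ ⟨a, ha, rfl⟩ _ ⟨b, hb, rfl⟩
      rw [← map_mul, comm_of_sq hsq ha hb, map_mul]
    · rw [← cjS_centralizer, hself]
  obtain ⟨d, -, hd⟩ := X.exists_conj_base hA'
  refine ⟨d * g, ?_⟩
  rw [← hd]
  ext a
  simp only [mem_cjS, mul_inv_rev]
  constructor <;> intro h <;> simpa [mul_assoc] using h

end Cfsg.Agent.J4Eleven.Chart
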