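import Cfsg.Agent.Lib.J4V.Hexad

/-!
# Janko four type: lifts of elementary subgroups of M22 and their action on `E / ⟨z⟩`
-/

set_option autoImplicit false
set_option linter.style.haveILetI false
set_option linter.unusedSectionVars false

namespace Cfsg.Agent.J4Eleven.Chart

open Subgroup
open Cfsg.Agent.J4Local
open Cfsg.Agent.M22Order (Setup)

universe u

variable {G : Type u} [Group G] [Finite G] {z : G} {P : Subgroup G} (X : Chart z P)

theorem comm_of_sq {H : Type*} [Group H] {B : Subgroup H} (hB : ∀ b ∈ B, b * b = 1) {a b : H} (ha : a ∈ B)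
    (hb : b ∈ B) : a * b = b * a :=
  calc a * b = (a * b)⁻¹ := eq_inv_of_mul_eq_one_left (hB _ (mul_mem ha hb))
    _ = b⁻¹ * a⁻¹ := mul_inv_rev a b
    _ = b * a := by rw [inv_eq_of_mul_eq_one_right (hB a ha), inv_eq_of_mul_eq_one_right (hB b hb)]

/-- The involutions in the preimage of an elementary subgroup of M22. -/
def lft {B : Subgroup ↥Cfsg.Spor.M22} (hB : ∀ b ∈ B, b * b = 1) : Subgroup G where
  carrier := {c | ∃ hc : c ∈ CC z P, X.π ⟨c, hc⟩ ∈ B ∧ c * c = 1}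
  one_mem' := ⟨one_mem _, by
    rw [show (⟨1, one_mem _⟩ : ↥(CC z P)) = 1 from rfl, map_one]; exact one_mem _, one_mul 1⟩
  mul_mem' := by
    rintro a b ⟨ha, hπa, ha2⟩ ⟨hb, hπb, hb2⟩
    have hab := mul_mem hπa hπb
    rw [← map_mul] at hab
    refine ⟨mul_mem ha hb, hab, ?_⟩
    have hs6 : a * b * (a * b) ∈ P ⊔ zpowers z :=
      (X.mem_ker_iff (⟨a, ha⟩ * ⟨b, hb⟩ * (⟨a, ha⟩ * ⟨b, hb⟩))).1 (by rw [map_mul]; exact hB _ hab)
    set s := a * b * (a * b) with hs
    have hcen : Commute s a := six_central X.L.J hs6 ha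
    have hinv : s * s = 1 := by
      have h1 : a * s * a = (b * a) * (b * a) := by
        rw [hs]
        calc a * (a * b * (a * b)) * a = (a * a) * b * a * (b * a) := by group
          _ = _ := by rw [ha2, one_mul]
      rw [← hcen.eq, mul_assoc, ha2, mul_one] at h1
      calc s * s = (a * b * (a * b)) * ((b * a) * (b * a)) := by rw [← h1]
        _ = a * b * a * (b * b) * a * b * a := by group
        _ = a * b * (a * a) * b * a := by rw [hb2]; group
        _ = a * (b * b) * a := by rw [ha2]; group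
        _ = 1 := by rw [hb2, mul_one, ha2]
    have hz : s ∈ zpowers z := X.mem_zpowers_of_six hs6 (by rw [hinv]; exact one_mem _)
    exact X.sq_one (mul_mem ha hb) hz
  inv_mem' := by
    rintro a ⟨ha, hπ, h2⟩
    rw [show a⁻¹ = a from inv_eq_of_mul_eq_one_right h2]
    exact ⟨ha, hπ, h2⟩

section Lft

variable {B : Subgroup ↥Cfsg.Spor.M22} (hB : ∀ b ∈ B, b * b = 1)

theorem lft_le_CC : X.lft hB ≤ CC z P := fun _ hc => hc.1

theorem lft_le_HH : X.lft hB ≤ HH z := fun _ hc => hc.1.1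

theorem lft_sq {c : G} (hc : c ∈ X.lft hB) : c * c = 1 := hc.2.2

theorem lft_comm {a b : G} (ha : a ∈ X.lft hB) (hb : b ∈ X.lft hB) : a * b = b * a :=
  comm_of_sq (fun _ h => X.lft_sq hB h) ha hb

theorem lft_pi {c : G} (hc : c ∈ X.lft hB) : X.π ⟨c, hc.1⟩ ∈ B := hc.2.1

theorem z_mem_lft : z ∈ X.lft hB :=
  ⟨X.z_mem_CC, by rw [(X.mem_ker_iff ⟨z, X.z_mem_CC⟩).2 X.z_mem_six]; exact one_mem _, X.zz⟩

theorem exists_lft {m : ↥Cfsg.Spor.M22} (hm : m ∈ B) :
    ∃ c, ∃ hc : c ∈ X.lft hB, X.π ⟨c, X.lft_le_CC hB hc⟩ = m := by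
  by_cases h1 : m = 1
  · refine ⟨1, one_mem _, ?_⟩
    rw [h1]
    exact map_one X.π
  have ho : orderOf m = 2 := orderOf_eq_prime (by rw [pow_two]; exact hB m hm) h1
  obtain ⟨u, hu2, hu⟩ := exists_involution_lift X.L.J X.surj X.ker ho
  have huu : (u : G) * u = 1 := by rw [← pow_two, ← SubmonoidClass.coe_pow, ← hu2, pow_orderOf_eq_one]; rfl
  exact ⟨(u : G), ⟨u.2, by rw [show (⟨(u : G), u.2⟩ : ↥(CC z P)) = u from rfl, hu]; exact hm, huu⟩, hu⟩

theorem lft_inf_EE {c : G} (hc : c ∈ X.lft hB) (hE : c ∈ EE z) : c ∈ zpowers z := X.L.J.CC_inf_EE hc.1 hE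

theorem card_lft : Nat.card (X.lft hB) = 2 * Nat.card B := by
  let g : ↥(X.lft hB) →* ↥Cfsg.Spor.M22 := X.π.comp (inclusion (X.lft_le_CC hB))
  have hrange : g.range = B := by
    refine le_antisymm ?_ ?_
    · rintro _ ⟨⟨c, hc⟩, rfl⟩
      exact hc.2.1
    · intro m hm
      obtain ⟨c, hc, e⟩ := X.exists_lft hB hm
      exact ⟨⟨c, hc⟩, e⟩
  have hker : g.ker = (zpowers z).subgroupOf (X.lft hB) := by
    ext ⟨c, hc⟩
    rw [MonoidHom.mem_ker, mem_subgroupOf]
    show X.π ⟨c, X.lft_le_CC hB hc⟩ = 1 ↔ c ∈ zpowers z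
    rw [X.mem_ker_iff]
    exact ⟨fun h => X.mem_zpowers_of_six h (by rw [hc.2.2]; exact one_mem _), fun h => mem_sup_right h⟩
  have h1 := g.ker.card_mul_index
  rw [Subgroup.index_ker, hrange, hker,
    Nat.card_congr (subgroupOfEquivOfLe (zpowers_le.2 (X.z_mem_lft hB))).toEquiv, Nat.card_zpowers,
    X.L.J.two] at h1
  exact h1.symm

end Lft

/-- An element fixing a self-orthogonal space moves everything into it. -/
theorem nil_mem_self {W : AddSubgroup (VV z)} (hW : perp X.L.J W = W) {c : G} (hc : c ∈ HH z)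
    (hfix : ∀ w ∈ W, act z c w = w) (v : VV z) : nil z c v ∈ W := by
  rw [← hW]
  intro w hw
  rw [nil_apply, BB_add_left X.L.J]
  conv_lhs => enter [1]; rw [← hfix w hw, BB_act X.L.J hc]
  exact CharTwo.add_self_eq_zero _

/-- An element of `C` fixing the fixed space of the hexad group lies over that group. -/
theorem pi_mem_E {c : G} (hc : c ∈ CC z P) (hcW : ∀ w ∈ X.WV, act z c w = w) : X.π ⟨c, hc⟩ ∈ X.S.E := by
  have hJ := X.L.J
  rw [← X.S.centralizer_E X.hcard, mem_centralizer_iff]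
  intro m hm
  obtain ⟨l, hl, el⟩ := X.exists_lift hm
  have hlC := X.LE_le_CC hl
  have hlW : ∀ w ∈ X.WV, act z l w = w := fun w hw => hw l hl
  have hW := X.card_WV.2
  have hcl : ∀ v, act z c (act z l v) = act z l (act z c v) := fun v => by
    have hc' : ∀ y, act z c y = y + (act z c y + y) := fun y => by
      rw [add_comm (act z c y) y, ← add_assoc, VV.two hJ, zero_add]
    have hl' : ∀ y, act z l y = y + (act z l y + y) := fun y => by
      rw [add_comm (act z l y) y, ← add_assoc, VV.two hJ, zero_add]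
    have m1 : act z l v + v ∈ X.WV := X.nil_mem_self hW hlC.1 hlW v
    have m2 : act z c v + v ∈ X.WV := X.nil_mem_self hW hc.1 hcW v
    conv_lhs => rw [hl' v, map_add, hcW _ m1]
    conv_rhs => rw [hc' v, map_add, hlW _ m2]
    abel
  let k : ↥(CC z P) := ⟨c, hc⟩ * ⟨l, hlC⟩ * (⟨l, hlC⟩ * ⟨c, hc⟩)⁻¹
  have hkE : (k : G) ∈ EE z := act_eq_id_mem hJ k.2.1 fun v => by
    show act z (c * l * (l * c)⁻¹) v = v
    have hlc : l * c ∈ HH z := mul_mem hlC.1 hc.1
    rw [act_mul (mul_mem hc.1 hlC.1) (inv_mem hlc), act_mul hc.1 hlC.1, hcl, ← act_mul hlC.1 hc.1,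
      act_act_inv hlc]
  have hk1 : X.π k = 1 := (X.mem_ker_iff k).2 (mem_sup_right (hJ.CC_inf_EE k.2 hkE))
  rw [map_mul, map_inv, mul_inv_eq_one, map_mul, map_mul, el] at hk1
  exact hk1.symm

/-- Two elements of `C` commuting on `E / ⟨z⟩` commute in M22. -/
theorem pi_comm {c d : G} (hc : c ∈ CC z P) (hd : d ∈ CC z P)
    (h : ∀ v, act z c (act z d v) = act z d (act z c v)) :
    X.π ⟨c, hc⟩ * X.π ⟨d, hd⟩ = X.π ⟨d, hd⟩ * X.π ⟨c, hc⟩ := by
  have hJ := X.L.J
  let k : ↥(CC z P) := ⟨c, hc⟩ * ⟨d, hd⟩ * (⟨d, hd⟩ * ⟨c, hc⟩)⁻¹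
  have hkE : (k : G) ∈ EE z := act_eq_id_mem hJ k.2.1 fun v => by
    show act z (c * d * (d * c)⁻¹) v = v
    have hdc : d * c ∈ HH z := mul_mem hd.1 hc.1
    rw [act_mul (mul_mem hc.1 hd.1) (inv_mem hdc), act_mul hc.1 hd.1, h, ← act_mul hd.1 hc.1, act_act_inv hdc]
  have hk1 : X.π k = 1 := (X.mem_ker_iff k).2 (mem_sup_right (hJ.CC_inf_EE k.2 hkE))
  rw [map_mul, map_inv, mul_inv_eq_one, map_mul, map_mul] at hk1
  exact hk1

/-- Two elements acting as the identity plus maps into a space both fix commute there. -/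
theorem act_comm_of_fix {W : AddSubgroup (VV z)} (hW : perp X.L.J W = W) {c d : G} (hc : c ∈ HH z) (hd : d ∈ HH z)
    (hcW : ∀ w ∈ W, act z c w = w) (hdW : ∀ w ∈ W, act z d w = w) (v : VV z) :
    act z c (act z d v) = act z d (act z c v) := by
  have hJ := X.L.J
  have hc' : ∀ y, act z c y = y + (act z c y + y) := fun y => by
    rw [add_comm (act z c y) y, ← add_assoc, VV.two hJ, zero_add]
  have hd' : ∀ y, act z d y = y + (act z d y + y) := fun y => by
    rw [add_comm (act z d y) y, ← add_assoc, VV.two hJ, zero_add]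
  have m1 : act z d v + v ∈ W := X.nil_mem_self hW hd hdW v
  have m2 : act z c v + v ∈ W := X.nil_mem_self hW hc hcW v
  conv_lhs => rw [hd' v, map_add, hcW _ m1]
  conv_rhs => rw [hc' v, map_add, hdW _ m2]
  abel

include X in
/-- An element of `P × ⟨z⟩` fixing a non-zero vector is a power of `z`. -/
theorem six_fix {k : G} (hk : k ∈ P ⊔ zpowers z) {w : VV z} (hw : w ≠ 0) (hfix : act z k w = w) :
    k ∈ zpowers z := by
  have hJ := X.L.J
  have hn : zpowers z ≤ normalizer (P : Set G) := zpowers_le.2 (M22Order.mem_normalizer_of_conj fun q hq => by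
    rw [← mem_HH.1 (hJ.P_le_HH hq), mul_inv_cancel_right]; exact hq)
  obtain ⟨q, hq, t, ht, hqt⟩ := (Coprime.mem_sup_of_le_normalizer hn).1 hk
  have htE : t ∈ EE z := zpowers_le.2 X.z_mem_EE ht
  have hq1 : q = 1 := by
    by_contra hne
    refine hw (act_fpf hJ hq hne ?_)
    rwa [← hqt, act_mul_EE hJ (hJ.P_le_HH hq) htE] at hfix
  rw [← hqt, hq1, one_mul]
  exact ht

theorem exists_P_of_mem_ln {w v : VV z} (hv : v ∈ X.ln w) (hv0 : v ≠ 0) : ∃ q ∈ P, act z q w = v := by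
  have hJ := X.L.J
  rcases (mem_line hJ).1 hv with e | e | e | e
  · exact absurd e hv0
  · exact ⟨1, one_mem _, by rw [act_one, e]⟩
  · exact ⟨X.pp, X.pp_mem, e.symm⟩
  · exact ⟨X.pp * X.pp, mul_mem X.pp_mem X.pp_mem, by
      rw [act_mul (hJ.P_le_HH X.pp_mem) (hJ.P_le_HH X.pp_mem), act_act hJ X.pp_mem X.pp_ne, e]⟩

include X in
/-- A 2-element of `C` fixing a point fixes its vectors. -/
theorem fix_of_line {d : G} (hd : d ∈ CC z P) {n : ℕ} (h2 : d ^ (2 ^ n) ∈ zpowers z) {w : VV z} {q : G}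
    (hq : q ∈ P) (e : act z d w = act z q w) : act z d w = w := by
  have hJ := X.L.J
  by_cases hw : w = 0
  · rw [hw, map_zero]
  have key : ∀ k : ℕ, act z (d ^ k) w = act z (q ^ k) w := fun k => by
    induction k with
    | zero => rw [pow_zero, pow_zero]
    | succ k ih =>
      rw [pow_succ, pow_succ, act_mul (pow_mem hd.1 k) hd.1, e, ← act_mul (pow_mem hd.1 k) (hJ.P_le_HH hq),
        commute_CC_P (pow_mem hd k) hq, act_mul (hJ.P_le_HH hq) (pow_mem hd.1 k), ih,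
        ← act_mul (hJ.P_le_HH hq) (pow_mem (hJ.P_le_HH hq) k), ← pow_succ', ← pow_succ]
  have h := key (2 ^ n)
  rw [act_EE hJ (zpowers_le.2 X.z_mem_EE h2)] at h
  have hq1 : q ^ (2 ^ n) = 1 := by
    by_contra hne
    exact hw (act_fpf hJ (pow_mem hq _) hne h.symm)
  have hq' : q = 1 := by
    refine orderOf_eq_one_iff.1 (Nat.eq_one_of_dvd_coprimes (a := 3) (b := 2 ^ n) ?_ ?_ ?_)
    · exact Nat.Coprime.pow_right n (by norm_num)
    · exact orderOf_dvd_of_pow_eq_one (pow_three_eq_one hJ hq)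
    · exact orderOf_dvd_of_pow_eq_one hq1
  rw [e, hq', act_one]

/-- An element of M22 of two-power order has such a lift. -/
theorem exists_two_lift {g : ↥Cfsg.Spor.M22} (hg : g ^ 64 = 1) :
    ∃ d, ∃ hd : d ∈ CC z P, X.π ⟨d, hd⟩ = g ∧ d ^ (2 ^ 6) ∈ zpowers z := by
  obtain ⟨⟨d, hd⟩, e⟩ := X.surj g
  refine ⟨d ^ 129, pow_mem hd _, ?_, ?_⟩
  · rw [show (⟨d ^ 129, pow_mem hd _⟩ : ↥(CC z P)) = ⟨d, hd⟩ ^ 129 from rfl, map_pow, e,
      show 129 = 64 * 2 + 1 by norm_num, pow_succ, pow_mul, hg, one_pow, one_mul]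
  · have h6 : d ^ 64 ∈ P ⊔ zpowers z := by
      refine (X.mem_ker_iff (⟨d, hd⟩ ^ 64)).1 ?_
      rw [map_pow, e, hg]
    have h3 := six_cube X.L.J h6
    rw [show (d ^ 129) ^ (2 ^ 6) = ((d ^ 64) ^ 3) ^ 43 by rw [← pow_mul, ← pow_mul, ← pow_mul]; norm_num]
    exact pow_mem h3 _

end Cfsg.Agent.J4Eleven.Chart
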