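import Cfsg.Agent.Lib.J4Ten.Plane

/-!
# The five-dimensional representation of the symmetries of the decomposable bivectors

* `exists_rep`: a group acting linearly on the bivectors and preserving decomposability maps to `SL₅(2)`, with
  kernel acting trivially.
-/

set_option autoImplicit false
set_option maxRecDepth 20000
set_option linter.unusedSimpArgs false

namespace Cfsg.Agent.J4Ten

open Finset

theorem xr_self (a : Fin 1024) : xr a a = 0 := Fin.ext (Nat.xor_self _)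

theorem xr_comm (a b : Fin 1024) : xr a b = xr b a := Fin.ext (Nat.xor_comm _ _)

theorem xr_assoc (a b c : Fin 1024) : xr (xr a b) c = xr a (xr b c) := Fin.ext (Nat.xor_assoc _ _ _)

theorem zero_xr (a : Fin 1024) : xr 0 a = a := Fin.ext (Nat.zero_xor _)

theorem xr_cancel (a b : Fin 1024) : xr a (xr a b) = b := by rw [← xr_assoc, xr_self, zero_xr]

theorem xr_right_injective (a : Fin 1024) : Function.Injective (xr a) := fun b c e => by
  rw [← xr_cancel a b, e, xr_cancel]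

theorem isZ_zero : isZ 0 = false := by decide +kernel

theorem mem_stars {u : ℕ} : u ∈ stars ↔ 1 ≤ u ∧ u < 32 := by
  simp only [stars, List.mem_map, List.mem_range]
  exact ⟨by rintro ⟨k, hk, rfl⟩; omega, fun h => ⟨u - 1, by omega, by omega⟩⟩

/-- A star as a finset. -/
def starSet (u : ℕ) : Finset (Fin 1024) := univ.filter fun n => inStar u n.1 = true

theorem mem_starSet {u : ℕ} {n : Fin 1024} : n ∈ starSet u ↔ inStar u n.1 = true := by simp [starSet]

/-- A finset closed under addition with all non-zero members decomposable. -/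
structure Tot (T : Finset (Fin 1024)) : Prop where
  zero : (0 : Fin 1024) ∈ T
  add : ∀ a ∈ T, ∀ b ∈ T, xr a b ∈ T
  dec : ∀ a ∈ T, a ≠ 0 → isZ a.1 = true

theorem star_spec {u : ℕ} (hu : u ∈ stars) : Tot (starSet u) ∧ (starSet u).card = 16 := by
  classical
  have h := starOK_eq
  simp only [starOK, List.all_eq_true, Bool.and_eq_true, decide_eq_true_eq, Bool.or_eq_true,
    beq_iff_eq] at h
  obtain ⟨⟨hall, hnd⟩, hlen⟩ := h u hu
  have hmem : ∀ {n : Fin 1024}, n ∈ starSet u ↔ n.1 ∈ starL u := fun {n} => by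
    rw [mem_starSet, inStar, List.contains_iff_mem]
  have hne : ∃ n, n ∈ starL u := ⟨(starL u).head (fun e => by simp [e] at hlen), List.head_mem _⟩
  refine ⟨⟨?_, fun a ha b hb => mem_starSet.2 ((hall _ (hmem.1 ha)).2 _ (hmem.1 hb)), fun a ha h0 => ?_⟩, ?_⟩
  · obtain ⟨n, hn⟩ := hne
    have h2 := (hall n hn).2 n hn
    rw [Nat.xor_self] at h2
    exact mem_starSet.2 h2
  · rcases (hall _ (hmem.1 ha)).1.2 with e | e
    · exact absurd (Fin.ext e) h0
    · exact e
  · rw [← hlen, ← List.toFinset_card_of_nodup hnd]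
    refine card_bij (fun n _ => n.1) (fun n hn => List.mem_toFinset.2 (hmem.1 hn))
      (fun a _ b _ e => Fin.ext e) fun n hn => ?_
    have hn' := List.mem_toFinset.1 hn
    exact ⟨⟨n, (hall n hn').1.1⟩, hmem.2 hn', rfl⟩

theorem Tot.step {T S : Finset (Fin 1024)} (hT : Tot T) (hS : Tot S) (hST : S ⊆ T)
    (hlt : S.card < T.card) :
    ∃ v ∈ T, v ∉ S ∧ (∀ w ∈ T, w ∉ S → v ≤ w) ∧ isZ v.1 = true ∧
      (∀ k ∈ S, k ≠ 0 → isZ (v.1 ^^^ k.1) = true ∧ v.1 < v.1 ^^^ k.1) ∧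
      Tot (S ∪ S.image (xr v)) ∧ S ∪ S.image (xr v) ⊆ T ∧ (S ∪ S.image (xr v)).card = 2 * S.card := by
  classical
  have hne : (T \ S).Nonempty := by
    rw [← card_pos, card_sdiff_of_subset hST]; omega
  set v := (T \ S).min' hne
  obtain ⟨hvT, hvS⟩ := mem_sdiff.1 ((T \ S).min'_mem hne)
  have hmin : ∀ w ∈ T, w ∉ S → v ≤ w := fun w hw hw' => (T \ S).min'_le w (mem_sdiff.2 ⟨hw, hw'⟩)
  have hout : ∀ k ∈ S, xr v k ∉ S := fun k hk hh => hvS (by
    have := hS.add _ hh _ hk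
    rwa [xr_assoc, xr_self, xr_comm, zero_xr] at this)
  have hz : ∀ w ∈ T, w ∉ S → w ≠ 0 := fun w _ hw e => hw (e ▸ hS.zero)
  have hsub : S ∪ S.image (xr v) ⊆ T := union_subset hST fun a ha => by
    obtain ⟨k, hk, rfl⟩ := mem_image.1 ha
    exact hT.add _ hvT _ (hST hk)
  refine ⟨v, hvT, hvS, hmin, hT.dec v hvT (hz v hvT hvS), fun k hk hk0 => ?_, ⟨?_, ?_, ?_⟩, hsub, ?_⟩
  · have hm := hT.add _ hvT _ (hST hk)
    refine ⟨hT.dec _ hm (hz _ hm (hout k hk)), ?_⟩
    have hle : v.1 ≤ (xr v k).1 := hmin _ hm (hout k hk)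
    have hne' : (xr v k).1 ≠ v.1 := fun e => hk0 (by
      have e' : xr v k = v := Fin.ext e
      have := congrArg (xr v) e'
      rwa [xr_cancel, xr_self] at this)
    exact lt_of_le_of_ne hle (Ne.symm hne')
  · exact mem_union_left _ hS.zero
  · intro a ha b hb
    simp only [mem_union, mem_image] at ha hb ⊢
    rcases ha with ha | ⟨a, ha, rfl⟩ <;> rcases hb with hb | ⟨b, hb, rfl⟩
    · exact Or.inl (hS.add _ ha _ hb)
    · exact Or.inr ⟨_, hS.add _ ha _ hb, by rw [← xr_assoc, xr_comm v a, xr_assoc]⟩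
    · exact Or.inr ⟨_, hS.add _ ha _ hb, by rw [xr_assoc]⟩
    · exact Or.inl (by
        rw [show xr (xr v a) (xr v b) = xr a b by rw [xr_comm v a, xr_assoc, xr_cancel]]
        exact hS.add _ ha _ hb)
  · exact fun a ha h0 => hT.dec a (hsub ha) h0
  · rw [card_union_of_disjoint, card_image_of_injective _ (xr_right_injective v), two_mul]
    refine disjoint_right.2 fun a ha => ?_
    obtain ⟨k, hk, rfl⟩ := mem_image.1 ha
    exact hout k hk

theorem exists_star {T : Finset (Fin 1024)} (hT : Tot T) (hc : T.card = 16) :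
    ∃ u ∈ stars, T = starSet u := by
  classical
  have h0 : Tot ({0} : Finset (Fin 1024)) := ⟨mem_singleton_self _, fun a ha b hb => by
    rw [mem_singleton.1 ha, mem_singleton.1 hb, xr_self]; exact mem_singleton_self _,
    fun a ha h => absurd (mem_singleton.1 ha) h⟩
  obtain ⟨x, hxT, hx0, hxmin, hxZ, -, h1, h1T, c1⟩ := hT.step h0 (singleton_subset_iff.2 hT.zero)
    (by rw [card_singleton, hc]; norm_num)
  rw [card_singleton] at c1
  obtain ⟨y, hyT, hy1, hymin, hyZ, hyk, h2, h2T, c2⟩ := hT.step h1 h1T (by omega)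
  obtain ⟨w, hwT, hw2, hwmin, hwZ, hwk, h3, h3T, c3⟩ := hT.step h2 h2T (by omega)
  obtain ⟨v, hvT, hv3, -, hvZ, hvk, h4, h4T, c4⟩ := hT.step h3 h3T (by omega)
  have hx1 : x ∈ ({0} : Finset (Fin 1024)) ∪ ({0} : Finset (Fin 1024)).image (xr x) :=
    mem_union_right _ (mem_image.2 ⟨0, mem_singleton_self _, by rw [xr_comm, zero_xr]⟩)
  set S1 := ({0} : Finset (Fin 1024)) ∪ ({0} : Finset (Fin 1024)).image (xr x)
  have hy2 : y ∈ S1 ∪ S1.image (xr y) :=
    mem_union_right _ (mem_image.2 ⟨0, h1.zero, by rw [xr_comm, zero_xr]⟩)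
  set S2 := S1 ∪ S1.image (xr y)
  have hw3 : w ∈ S2 ∪ S2.image (xr w) :=
    mem_union_right _ (mem_image.2 ⟨0, h2.zero, by rw [xr_comm, zero_xr]⟩)
  set S3 := S2 ∪ S2.image (xr w)
  have hx2 : x ∈ S2 := mem_union_left _ hx1
  have hxy : xr x y ∈ S2 := h2.add _ hx2 _ hy2
  have hx3 : x ∈ S3 := mem_union_left _ hx2
  have hy3 : y ∈ S3 := mem_union_left _ hy2
  have nz : ∀ {a : Fin 1024}, isZ a.1 = true → a ≠ 0 := fun {a} ha e => by
    rw [e, show ((0 : Fin 1024) : ℕ) = 0 from rfl, isZ_zero] at ha; cases ha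
  have hxy' : x.1 < y.1 := lt_of_le_of_ne (hxmin y hyT fun h => nz hyZ (mem_singleton.1 h))
    fun e => hy1 (Fin.ext e ▸ hx1)
  have hyw' : y.1 < w.1 := lt_of_le_of_ne (hymin w hwT fun h => hw2 (mem_union_left _ h))
    fun e => hw2 (Fin.ext e ▸ hy2)
  have hwv' : w.1 < v.1 := lt_of_le_of_ne (hwmin v hvT fun h => hv3 (mem_union_left _ h))
    fun e => hv3 (Fin.ext e ▸ hw3)
  have Zxy : isZ (x.1 ^^^ y.1) = true := by
    rw [Nat.xor_comm]; exact (hyk x hx1 (nz hxZ)).1
  have e2 : ∀ k ∈ [x.1, y.1, x.1 ^^^ y.1], ∃ a ∈ S2, a ≠ 0 ∧ a.1 = k := by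
    intro k hk
    simp only [List.mem_cons, List.not_mem_nil, or_false] at hk
    rcases hk with rfl | rfl | rfl
    exacts [⟨x, hx2, nz hxZ, rfl⟩, ⟨y, hy2, nz hyZ, rfl⟩, ⟨xr x y, hxy, nz Zxy, rfl⟩]
  have e3 : ∀ k ∈ [x.1, y.1, x.1 ^^^ y.1, w.1, x.1 ^^^ w.1, y.1 ^^^ w.1, x.1 ^^^ y.1 ^^^ w.1],
      ∃ a ∈ S3, a ≠ 0 ∧ a.1 = k := by
    intro k hk
    simp only [List.mem_cons, List.not_mem_nil, or_false] at hk
    have hxyw : xr (xr x y) w ∈ S3 := h3.add _ (mem_union_left _ hxy) _ hw3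
    have Zw : ∀ a ∈ S2, a ≠ 0 → isZ (a.1 ^^^ w.1) = true := fun a ha h => by
      rw [Nat.xor_comm]; exact (hwk a ha h).1
    rcases hk with rfl | rfl | rfl | rfl | rfl | rfl | rfl
    exacts [⟨x, hx3, nz hxZ, rfl⟩, ⟨y, hy3, nz hyZ, rfl⟩, ⟨xr x y, mem_union_left _ hxy, nz Zxy, rfl⟩,
      ⟨w, hw3, nz hwZ, rfl⟩, ⟨xr x w, h3.add _ hx3 _ hw3, nz (Zw x hx2 (nz hxZ)), rfl⟩,
      ⟨xr y w, h3.add _ hy3 _ hw3, nz (Zw y hy2 (nz hyZ)), rfl⟩,
      ⟨xr (xr x y) w, hxyw, nz (Zw (xr x y) hxy (nz Zxy)), rfl⟩]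
  have hk1 : nextOK [x.1] y.1 = true := by
    simp only [nextOK, List.all_eq_true, List.mem_singleton, Bool.and_eq_true, decide_eq_true_eq,
      forall_eq]
    exact hyk x hx1 (nz hxZ)
  have hk2 : nextOK [x.1, y.1, x.1 ^^^ y.1] w.1 = true := by
    simp only [nextOK, List.all_eq_true, Bool.and_eq_true, decide_eq_true_eq]
    intro k hk
    obtain ⟨a, ha, h, rfl⟩ := e2 k hk
    exact hwk a ha h
  have hk3 : nextOK [x.1, y.1, x.1 ^^^ y.1, w.1, x.1 ^^^ w.1, y.1 ^^^ w.1, x.1 ^^^ y.1 ^^^ w.1] v.1 = true := by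
    simp only [nextOK, List.all_eq_true, Bool.and_eq_true, decide_eq_true_eq]
    intro k hk
    obtain ⟨a, ha, h, rfl⟩ := e3 k hk
    exact hvk a ha h
  have mono : ∀ {S S' : List ℕ} {k : ℕ}, nextOK S' k = true → (∀ a ∈ S, a ∈ S') → nextOK S k = true := by
    intro S S' k h hsub
    simp only [nextOK, List.all_eq_true] at h ⊢
    exact fun a ha => h a (hsub a ha)
  have h := classOK_eq
  simp only [classOK, List.all_eq_true, List.mem_filter, List.mem_range, Bool.and_eq_true,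
    decide_eq_true_eq, Bool.or_eq_true, Bool.not_eq_true', List.any_eq_true] at h
  have hh := h x.1 ⟨x.2, hxZ⟩ y.1 ⟨⟨y.2, hyZ⟩, hxy', hk1⟩
    w.1 ⟨⟨⟨w.2, hwZ⟩, hxy'.trans hyw', mono hk2 (by simp)⟩, hyw', hk2⟩
    v.1 ⟨⟨⟨v.2, hvZ⟩, hxy'.trans (hyw'.trans hwv'), mono hk3 (by simp)⟩, hyw'.trans hwv',
      mono hk3 (by simp)⟩
  rcases hh with hh | ⟨u, hu, ⟨hy', hw'⟩, hv'⟩
  · simp [hk3, hwv'] at hh
  obtain ⟨hus, hux⟩ := List.mem_filter.1 hu
  obtain ⟨hU, hUc⟩ := star_spec hus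
  refine ⟨u, hus, ?_⟩
  have grow : ∀ {S : Finset (Fin 1024)} {a : Fin 1024}, S ⊆ starSet u → a ∈ starSet u →
      S ∪ S.image (xr a) ⊆ starSet u := fun hS ha => union_subset hS fun b hb => by
    obtain ⟨k, hk, rfl⟩ := mem_image.1 hb
    exact hU.add _ ha _ (hS hk)
  have hin : S3 ∪ S3.image (xr v) ⊆ starSet u :=
    grow (grow (grow (grow (singleton_subset_iff.2 hU.zero) (mem_starSet.2 hux)) (mem_starSet.2 hy'))
      (mem_starSet.2 hw')) (mem_starSet.2 hv')
  rw [← eq_of_subset_of_card_le h4T (by omega), eq_of_subset_of_card_le hin (by omega)]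

theorem eq_meet {u v : ℕ} (hu : u ∈ stars) (hv : v ∈ stars) (huv : u ≠ v) :
    (starSet u ∩ starSet v).card = 2 := by
  classical
  have h := meetOK_eq
  simp only [meetOK, List.all_eq_true, Bool.or_eq_true, beq_iff_eq] at h
  have h2 := (h u hu v hv).resolve_left huv
  have hsp := starOK_eq
  simp only [starOK, List.all_eq_true, Bool.and_eq_true, decide_eq_true_eq] at hsp
  rw [← h2, ← List.toFinset_card_of_nodup ((hsp u hu).1.2.filter _)]
  refine card_bij (fun n _ => n.1) (fun n hn => ?_) (fun a _ b _ e => Fin.ext e) fun n hn => ?_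
  · rw [mem_inter, mem_starSet, mem_starSet, inStar, List.contains_iff_mem] at hn
    exact List.mem_toFinset.2 (List.mem_filter.2 ⟨hn.1, hn.2⟩)
  · obtain ⟨h1, h1'⟩ := List.mem_filter.1 (List.mem_toFinset.1 hn)
    refine ⟨⟨n, ((hsp u hu).1.1 n h1).1.1⟩, mem_inter.2 ⟨mem_starSet.2 ?_, mem_starSet.2 h1'⟩, rfl⟩
    rw [inStar, List.contains_iff_mem]; exact h1

theorem starSet_injective {u v : ℕ} (hu : u ∈ stars) (hv : v ∈ stars) (h : starSet u = starSet v) :
    u = v := by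
  by_contra hne
  have := eq_meet hu hv hne
  rw [h, inter_self, (star_spec hv).2] at this
  omega

theorem exists_meet {u v : ℕ} (hu : u ∈ stars) (hv : v ∈ stars) (huv : u ≠ v) :
    ∃ x, x ≠ 0 ∧ starSet u ∩ starSet v = {0, x} := by
  classical
  obtain ⟨a, b, hab, e⟩ := card_eq_two.1 (eq_meet hu hv huv)
  have h0 : (0 : Fin 1024) ∈ starSet u ∩ starSet v :=
    mem_inter.2 ⟨(star_spec hu).1.zero, (star_spec hv).1.zero⟩
  rw [e, mem_insert, mem_singleton] at h0
  rcases h0 with rfl | rfl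
  · exact ⟨b, hab.symm, e⟩
  · exact ⟨a, hab, by rw [e, pair_comm]⟩

theorem line_spec {x : Fin 1024} (hx : isZ x.1 = true) :
    ∃ a b c, a ^^^ b ^^^ c = 0 ∧ starsOf x.1 = [a, b, c] := by
  have h := lineOK_eq
  simp only [lineOK, List.all_eq_true, List.mem_range, Bool.or_eq_true, Bool.not_eq_true'] at h
  have h2 := (h x.1 x.2).resolve_left (by simp [hx])
  match hL : starsOf x.1 with
  | [a, b, c] => rw [hL] at h2; exact ⟨a, b, c, by simpa using h2, rfl⟩
  | [] => simp [hL] at h2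
  | [_] => simp [hL] at h2
  | [_, _] => simp [hL] at h2
  | _ :: _ :: _ :: _ :: _ => simp [hL] at h2

theorem mem_starsOf {x : Fin 1024} {u : ℕ} : u ∈ starsOf x.1 ↔ u ∈ stars ∧ x ∈ starSet u := by
  rw [starsOf, List.mem_filter, mem_starSet]

/-- A linear symmetry. -/
structure IsSym (τ : Equiv.Perm (Fin 1024)) : Prop where
  add : ∀ a b, τ (xr a b) = xr (τ a) (τ b)
  dec : ∀ a, isZ (τ a).1 = isZ a.1

theorem IsSym.zero {τ : Equiv.Perm (Fin 1024)} (h : IsSym τ) : τ 0 = 0 := by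
  have := h.add 0 0
  rwa [xr_self, xr_self] at this

theorem exists_image {τ : Equiv.Perm (Fin 1024)} (h : IsSym τ) {u : ℕ} (hu : u ∈ stars) :
    ∃ v ∈ stars, (starSet u).image τ = starSet v := by
  classical
  obtain ⟨hT, hc⟩ := star_spec hu
  refine exists_star ⟨mem_image.2 ⟨0, hT.zero, h.zero⟩, ?_, ?_⟩ (by rw [card_image_of_injective _ τ.injective, hc])
  · intro a ha b hb
    obtain ⟨a, ha', rfl⟩ := mem_image.1 ha
    obtain ⟨b, hb', rfl⟩ := mem_image.1 hb
    exact mem_image.2 ⟨_, hT.add _ ha' _ hb', h.add a b⟩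
  · intro a ha h0
    obtain ⟨a, ha', rfl⟩ := mem_image.1 ha
    rw [h.dec]
    exact hT.dec a ha' fun e => h0 (e ▸ h.zero)

/-- The permutation of the thirty-two vectors. -/
noncomputable def sig (τ : Equiv.Perm (Fin 1024)) (u : ℕ) : ℕ :=
  open Classical in if h : IsSym τ ∧ u ∈ stars then (exists_image h.1 h.2).choose else 0

theorem sig_spec {τ : Equiv.Perm (Fin 1024)} (h : IsSym τ) {u : ℕ} (hu : u ∈ stars) :
    sig τ u ∈ stars ∧ (starSet u).image τ = starSet (sig τ u) := by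
  rw [sig, dif_pos ⟨h, hu⟩]
  exact ⟨(exists_image h hu).choose_spec.1, (exists_image h hu).choose_spec.2⟩

theorem sig_zero (τ : Equiv.Perm (Fin 1024)) : sig τ 0 = 0 := by
  rw [sig, dif_neg fun h => by simpa using (mem_stars.1 h.2).1]

theorem sig_lt {τ : Equiv.Perm (Fin 1024)} (h : IsSym τ) {u : ℕ} (hu : u < 32) : sig τ u < 32 := by
  by_cases hs : u ∈ stars
  · exact (mem_stars.1 (sig_spec h hs).1).2
  · rw [show u = 0 by rw [mem_stars] at hs; omega, sig_zero]; norm_num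

theorem sig_xor {τ : Equiv.Perm (Fin 1024)} (h : IsSym τ) {u v : ℕ} (hu : u < 32) (hv : v < 32) :
    sig τ (u ^^^ v) = sig τ u ^^^ sig τ v := by
  classical
  by_cases hu0 : u = 0
  · subst hu0; simp [sig_zero]
  by_cases hv0 : v = 0
  · subst hv0; simp [sig_zero]
  by_cases huv : u = v
  · subst huv; simp [sig_zero]
  have hus : u ∈ stars := mem_stars.2 ⟨by omega, hu⟩
  have hvs : v ∈ stars := mem_stars.2 ⟨by omega, hv⟩
  obtain ⟨x, hx0, hm⟩ := exists_meet hus hvs huv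
  have hxuv : x ∈ starSet u ∧ x ∈ starSet v := mem_inter.1 (hm ▸ mem_insert_of_mem (mem_singleton_self x))
  have hxZ := (star_spec hus).1.dec x hxuv.1 hx0
  obtain ⟨a, b, c, habc, hL⟩ := line_spec hxZ
  have third : ∀ {a b c u v : ℕ}, a ^^^ b ^^^ c = 0 → u ∈ [a, b, c] → v ∈ [a, b, c] → u ≠ v →
      u ^^^ v ∈ [a, b, c] := by
    intro a b c u v e hu hv hne
    have e1 : a ^^^ b = c := Nat.xor_eq_zero_iff.1 e
    subst e1
    simp only [List.mem_cons, List.not_mem_nil, or_false] at hu hv ⊢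
    rcases hu with rfl | rfl | rfl <;> rcases hv with rfl | rfl | rfl <;>
      simp_all [Nat.xor_comm, Nat.xor_assoc, Nat.xor_left_comm]
  have memL : ∀ {w : ℕ}, w ∈ stars → x ∈ starSet w → w ∈ [a, b, c] := fun hw hxw => hL ▸ mem_starsOf.2 ⟨hw, hxw⟩
  have hw := mem_starsOf.1 (hL.symm ▸ third habc (memL hus hxuv.1) (memL hvs hxuv.2) huv : u ^^^ v ∈ starsOf x.1)
  obtain ⟨a', b', c', habc', hL'⟩ := line_spec (x := τ x) (by rw [h.dec, hxZ])
  have memL' : ∀ {w : ℕ}, w ∈ stars → x ∈ starSet w → sig τ w ∈ [a', b', c'] := fun {w} hw hxw =>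
    hL' ▸ mem_starsOf.2 ⟨(sig_spec h hw).1, (sig_spec h hw).2 ▸ mem_image_of_mem _ hxw⟩
  have inj : ∀ {w w' : ℕ}, w ∈ stars → w' ∈ stars → sig τ w = sig τ w' → w = w' := fun {w w'} hw hw' e =>
    starSet_injective hw hw' (image_injective τ.injective (by rw [(sig_spec h hw).2, (sig_spec h hw').2, e]))
  have hn1 : u ^^^ v ≠ u := fun e => hv0 (by simpa using congrArg (u ^^^ ·) e)
  have hn2 : u ^^^ v ≠ v := fun e => hu0 (by simpa [Nat.xor_assoc] using congrArg (· ^^^ v) e)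
  have m1 := memL' hw.1 hw.2
  have m2 := memL' hus hxuv.1
  have m3 := memL' hvs hxuv.2
  have d1 : sig τ (u ^^^ v) ≠ sig τ u := fun e => hn1 (inj hw.1 hus e)
  have d2 : sig τ (u ^^^ v) ≠ sig τ v := fun e => hn2 (inj hw.1 hvs e)
  have d3 : sig τ u ≠ sig τ v := fun e => huv (inj hus hvs e)
  have e1 : a' ^^^ b' = c' := Nat.xor_eq_zero_iff.1 habc'
  subst e1
  generalize sig τ (u ^^^ v) = p, sig τ u = q, sig τ v = r at m1 m2 m3 d1 d2 d3 ⊢
  simp only [List.mem_cons, List.not_mem_nil, or_false] at m1 m2 m3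
  rcases m1 with rfl | rfl | rfl <;> rcases m2 with rfl | rfl | rfl <;> rcases m3 with rfl | rfl | rfl <;>
    first
      | exact absurd rfl d1
      | exact absurd rfl d2
      | exact absurd rfl d3
      | simp [Nat.xor_comm, Nat.xor_assoc, Nat.xor_left_comm]

theorem sig_mul {τ τ' : Equiv.Perm (Fin 1024)} (h : IsSym τ) (h' : IsSym τ') (h'' : IsSym (τ * τ')) {u : ℕ}
    (hu : u < 32) : sig (τ * τ') u = sig τ (sig τ' u) := by
  classical
  by_cases hs : u ∈ stars
  · obtain ⟨h1, e1⟩ := sig_spec h' hs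
    obtain ⟨h2, e2⟩ := sig_spec h h1
    obtain ⟨h3, e3⟩ := sig_spec h'' hs
    refine starSet_injective h3 h2 ?_
    rw [← e2, ← e1, ← e3, image_image]
    rfl
  · rw [show u = 0 by rw [mem_stars] at hs; omega]; simp [sig_zero]

theorem eq_one_of_sig {τ : Equiv.Perm (Fin 1024)} (h : IsSym τ) (h1 : ∀ u < 32, sig τ u = u) : τ = 1 := by
  classical
  have hfix : ∀ x : Fin 1024, isZ x.1 = true → τ x = x := fun x hx => by
    obtain ⟨a, b, c, habc, hL⟩ := line_spec hx
    obtain ⟨ha, hxa⟩ := mem_starsOf.1 (hL ▸ List.mem_cons_self : a ∈ starsOf x.1)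
    obtain ⟨hb, hxb⟩ := mem_starsOf.1 (hL ▸ List.mem_cons_of_mem _ List.mem_cons_self : b ∈ starsOf x.1)
    obtain ⟨hc, -⟩ := mem_starsOf.1
      (hL ▸ List.mem_cons_of_mem _ (List.mem_cons_of_mem _ List.mem_cons_self) : c ∈ starsOf x.1)
    have hab : a ≠ b := fun e => by
      subst e
      rw [Nat.xor_self, Nat.zero_xor] at habc
      subst habc
      simpa using (mem_stars.1 hc).1
    obtain ⟨m, hm0, hm⟩ := exists_meet ha hb hab
    have key : ∀ {y : Fin 1024}, y ∈ starSet a → y ∈ starSet b → y ≠ 0 → y = m := fun {y} h1 h2 h3 => by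
      have h4 : y ∈ starSet a ∩ starSet b := mem_inter.2 ⟨h1, h2⟩
      rw [hm, mem_insert, mem_singleton] at h4
      exact h4.resolve_left h3
    have hx0 : x ≠ 0 := fun e => by rw [e, show ((0 : Fin 1024) : ℕ) = 0 from rfl, isZ_zero] at hx; cases hx
    rw [key hxa hxb hx0]
    refine key ?_ ?_ fun e => hm0 (τ.injective (e.trans h.zero.symm))
    · have := mem_image_of_mem τ (key hxa hxb hx0 ▸ hxa : m ∈ starSet a)
      rwa [(sig_spec h ha).2, h1 a (mem_stars.1 ha).2] at this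
    · have := mem_image_of_mem τ (key hxa hxb hx0 ▸ hxb : m ∈ starSet b)
      rwa [(sig_spec h hb).2, h1 b (mem_stars.1 hb).2] at this
  refine Equiv.ext fun n => ?_
  show τ n = n
  have hs := sumOK_eq
  simp only [sumOK, List.all_eq_true, List.mem_range, Bool.or_eq_true, beq_iff_eq, List.any_eq_true,
    Bool.and_eq_true] at hs
  rcases hs n.1 n.2 with (e | e) | ⟨x, hx, hxZ, hnx⟩
  · rw [show n = 0 from Fin.ext e, h.zero]
  · exact hfix n e
  · have e' : xr ⟨x, hx⟩ (xr n ⟨x, hx⟩) = n := by rw [xr_comm n, xr_cancel]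
    rw [← e', h.add, hfix _ hxZ, hfix (xr n ⟨x, hx⟩) hnx]

/-- The five binary digits of a number. -/
def vec5 (u : Fin 32) : Fin 5 → ZMod 2 := fun i => if u.1.testBit i.1 then 1 else 0

theorem vec5_bijective : Function.Bijective vec5 := by decide +kernel

theorem vec5_xor (a b : Fin 32) : vec5 ⟨a.1 ^^^ b.1, Nat.xor_lt_two_pow (n := 5) a.2 b.2⟩ = vec5 a + vec5 b := by
  revert a b; decide +kernel

/-- The number of five binary digits. -/
noncomputable def num5 : (Fin 5 → ZMod 2) ≃ Fin 32 := (Equiv.ofBijective vec5 vec5_bijective).symm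

theorem vec5_num5 (v : Fin 5 → ZMod 2) : vec5 (num5 v) = v := (Equiv.ofBijective vec5 vec5_bijective).apply_symm_apply v

theorem num5_vec5 (u : Fin 32) : num5 (vec5 u) = u := (Equiv.ofBijective vec5 vec5_bijective).symm_apply_apply u

theorem num5_add (v w : Fin 5 → ZMod 2) : (num5 (v + w)).1 = (num5 v).1 ^^^ (num5 w).1 := by
  conv_lhs => rw [← vec5_num5 v, ← vec5_num5 w, ← vec5_xor, num5_vec5]

/-- A group of linear symmetries maps to `SL₅(2)` with kernel acting trivially. -/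
theorem exists_rep {M : Type*} [Group M] (ρ : M →* Equiv.Perm (Fin 1024)) (hρ : ∀ g, IsSym (ρ g)) :
    ∃ f : M →* Matrix.SpecialLinearGroup (Fin 5) (ZMod 2), ∀ g, f g = 1 → ρ g = 1 := by
  classical
  let L : M → (Fin 5 → ZMod 2) →ₗ[ZMod 2] (Fin 5 → ZMod 2) := fun g =>
    AddMonoidHom.toZModLinearMap 2 (AddMonoidHom.mk' (fun v => vec5 ⟨sig (ρ g) (num5 v).1, sig_lt (hρ g) (num5 v).2⟩)
      fun v w => by
        rw [← vec5_xor]
        congr 2
        rw [num5_add, sig_xor (hρ g) (num5 v).2 (num5 w).2])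
  have hL : ∀ g v, L g v = vec5 ⟨sig (ρ g) (num5 v).1, sig_lt (hρ g) (num5 v).2⟩ := fun _ _ => rfl
  have h1 : IsSym (1 : Equiv.Perm (Fin 1024)) := ⟨fun _ _ => rfl, fun _ => rfl⟩
  have sig_one : ∀ u < 32, sig (1 : Equiv.Perm (Fin 1024)) u = u := fun u hu => by
    by_cases hs : u ∈ stars
    · obtain ⟨h', e⟩ := sig_spec h1 hs
      refine (starSet_injective hs h' ?_).symm
      rw [← e]; simp
    · rw [show u = 0 by rw [mem_stars] at hs; omega, sig_zero]
  have hmul : ∀ g g', L (g * g') = L g ∘ₗ L g' := fun g g' => LinearMap.ext fun v => by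
    rw [LinearMap.comp_apply, hL, hL, hL, num5_vec5]
    congr 2
    simp only [map_mul]
    exact sig_mul (hρ g) (hρ g') (map_mul ρ g g' ▸ hρ (g * g')) (num5 v).2
  have hone : L 1 = LinearMap.id := LinearMap.ext fun v => by
    rw [hL, LinearMap.id_apply]
    conv_rhs => rw [← vec5_num5 v]
    congr 2
    simp only [map_one]
    exact sig_one _ (num5 v).2
  have hdet : ∀ g, (LinearMap.toMatrix' (L g)).det = 1 := fun g => by
    have key : ∀ a : ZMod 2, a ≠ 0 → a = 1 := by decide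
    refine key _ fun e => ?_
    have := congrArg (fun K => (LinearMap.toMatrix' K).det) (hmul g g⁻¹)
    simp only [mul_inv_cancel, hone, LinearMap.toMatrix'_id, Matrix.det_one, LinearMap.toMatrix'_comp,
      Matrix.det_mul, e, zero_mul] at this
    exact one_ne_zero this
  refine ⟨{ toFun := fun g => ⟨LinearMap.toMatrix' (L g), hdet g⟩
            map_one' := Subtype.ext (by
              show LinearMap.toMatrix' (L 1) = 1
              rw [hone, LinearMap.toMatrix'_id])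
            map_mul' := fun g g' => Subtype.ext (by
              show LinearMap.toMatrix' (L (g * g')) = LinearMap.toMatrix' (L g) * LinearMap.toMatrix' (L g')
              rw [hmul, LinearMap.toMatrix'_comp]) }, fun g hg => eq_one_of_sig (hρ g) fun u hu => ?_⟩
  have hm : LinearMap.toMatrix' (L g) = 1 := congrArg Subtype.val hg
  have hid : L g = LinearMap.id := LinearMap.toMatrix'.injective (hm.trans LinearMap.toMatrix'_id.symm)
  have := congrArg num5 ((hL g (vec5 ⟨u, hu⟩)).symm.trans (by rw [hid, LinearMap.id_apply]))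
  simp only [num5_vec5] at this
  exact congrArg Fin.val this

end Cfsg.Agent.J4Ten
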