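import Cfsg.Agent.Lib.J4Ten.Frame
import Cfsg.Agent.Lib.J4Ten.PlaneSym

/-!
# Janko four type: the subgroup of order `2 ^ 10` of an octad in `2 ^ 11 : M24`

* `VFrame.el`: coordinates; `VFrame.ta`: the subgroup; it is elementary abelian and self-centralising.
* `VFrame.isZ_iff`: the class of `z` is that of the decomposable bivectors.
-/

set_option autoImplicit false
set_option linter.style.haveILetI false
set_option linter.unusedSectionVars false

namespace Cfsg.Agent.J4Eleven.Chart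

open Subgroup
open Cfsg (GolayPt golayCode M24)
open Cfsg.Agent.J4Local
open Cfsg.Agent.J4Ten
open Cfsg.Agent.Golay.Basic Cfsg.Agent.M24Module.Basic Cfsg.Agent.Golay.OctadStab
open Cfsg.Agent.Golay.M24Data (baseOctad)
open scoped Pointwise

universe u

variable {G : Type u} [Group G] [Finite G] {z : G} {P : Subgroup G} {X : Chart z P} [IsSimpleGroup G] (F : VFrame X)

/-- The standard octad. -/
abbrev oct8 : Finset GolayPt := maskSet baseOctad

theorem OK_le_M24 {g : Equiv.Perm GolayPt} (hg : g ∈ OK oct8) : g ∈ M24 := hg.1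

theorem permW_even {g : Equiv.Perm GolayPt} {w : GolayPt → ZMod 2} (hw : ∑ p, w p = 0) :
    ∑ p, permW g w p = 0 := (Equiv.sum_comp g.symm w).trans hw

theorem add_even {v w : GolayPt → ZMod 2} (hv : ∑ p, v p = 0) (hw : ∑ p, w p = 0) : ∑ p, (v + w) p = 0 := by
  simp [Finset.sum_add_distrib, hv, hw]

/-- The element with given coordinates. -/
noncomputable def VFrame.el (n : Fin 1024) : G := F.e (sW (n.1 % 64)) * F.k (rP (n.1 / 64))

theorem lt_of_fin (n : Fin 1024) : n.1 % 64 < 64 ∧ n.1 / 64 < 16 :=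
  ⟨Nat.mod_lt _ (by norm_num), Nat.div_lt_of_lt_mul n.2⟩

theorem VFrame.comm_part {w a : ℕ} (hw : w < 64) (ha : a < 16) :
    F.k (rP a) * F.e (sW w) = F.e (sW w) * F.k (rP a) := by
  have h := F.e_conj _ (rP_mem ha) _ (sW_even hw)
  rw [sW_fix (rP_mem_FK ha) hw, mul_inv_eq_iff_eq_mul] at h
  exact h

theorem VFrame.el_mul (n m : Fin 1024) : F.el (xr n m) = F.el n * F.el m := by
  obtain ⟨hn, hn'⟩ := lt_of_fin n
  obtain ⟨hm, hm'⟩ := lt_of_fin m
  have e1 : (n.1 ^^^ m.1) % 64 = n.1 % 64 ^^^ m.1 % 64 := Nat.xor_mod_two_pow (n := 6)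
  have e2 : (n.1 ^^^ m.1) / 64 = n.1 / 64 ^^^ m.1 / 64 := by
    have h : ∀ k : ℕ, k / 64 = k >>> 6 := fun k => (Nat.shiftRight_eq_div_pow k 6).symm
    rw [h, h, h, Nat.shiftRight_xor_distrib]
  show F.e (sW ((n.1 ^^^ m.1) % 64)) * F.k (rP ((n.1 ^^^ m.1) / 64)) = _
  rw [e1, e2, sW_xor, rP_mul hn' hm', F.e_add _ _ (sW_even hn) (sW_even hm), F.k_mul _ (rP_mem hn') _ (rP_mem hm'),
    VFrame.el, VFrame.el]
  calc F.e (sW (n.1 % 64)) * F.e (sW (m.1 % 64)) * (F.k (rP (n.1 / 64)) * F.k (rP (m.1 / 64))) =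
      F.e (sW (n.1 % 64)) * (F.e (sW (m.1 % 64)) * F.k (rP (n.1 / 64))) * F.k (rP (m.1 / 64)) := by group
    _ = _ := by rw [← F.comm_part hm hn']; group

theorem VFrame.el_zero : F.el 0 = 1 := by
  have := F.el_mul 0 0
  rw [xr_self] at this
  exact left_eq_mul.1 this

theorem VFrame.k_rP_std {a : ℕ} (ha : a < 16) (h : F.k (rP a) ∈ X.std) : a = 0 :=
  rP_injective ha (by norm_num) ((F.k_inj _ (rP_mem ha) h).trans rP_zero.symm)

theorem VFrame.el_eq_one {n : Fin 1024} (h : F.el n = 1) : n = 0 := by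
  obtain ⟨hn, hn'⟩ := lt_of_fin n
  have hk : F.k (rP (n.1 / 64)) ∈ X.std := by
    rw [eq_inv_of_mul_eq_one_right h]; exact inv_mem (F.e_mem _ (sW_even hn))
  have ha := F.k_rP_std hn' hk
  rw [VFrame.el, ha, rP_zero, F.k_one, mul_one, F.e_eq_one (sW_even hn)] at h
  have hw := sW_code hn h
  exact Fin.ext (show n.1 = 0 by omega)

theorem VFrame.el_injective : Function.Injective F.el := fun a b e => by
  have h : F.el (xr a b) = 1 := by
    rw [F.el_mul, e, ← F.el_mul, xr_self, F.el_zero]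
  have := congrArg (xr a) (F.el_eq_one h)
  rw [xr_cancel, xr_comm, zero_xr] at this
  exact this.symm

/-- The subgroup. -/
def VFrame.ta : Subgroup G where
  carrier := Set.range F.el
  one_mem' := ⟨0, F.el_zero⟩
  mul_mem' := by
    rintro _ _ ⟨a, rfl⟩ ⟨b, rfl⟩
    exact ⟨xr a b, F.el_mul a b⟩
  inv_mem' := by
    rintro _ ⟨a, rfl⟩
    exact ⟨a, eq_inv_of_mul_eq_one_left (by rw [← F.el_mul, xr_self, F.el_zero])⟩

theorem VFrame.el_mem (n : Fin 1024) : F.el n ∈ F.ta := ⟨n, rfl⟩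

theorem VFrame.card_ta : Nat.card F.ta = 2 ^ 10 := by
  show Nat.card ↥(Set.range F.el) = _
  rw [Nat.card_range_of_injective F.el_injective, Nat.card_fin]
  norm_num

theorem VFrame.ta_sq : ∀ a ∈ F.ta, a * a = 1 := by
  rintro _ ⟨a, rfl⟩
  rw [← F.el_mul, xr_self, F.el_zero]

theorem VFrame.ta_comm : ∀ a ∈ F.ta, ∀ b ∈ F.ta, a * b = b * a := by
  rintro _ ⟨a, rfl⟩ _ ⟨b, rfl⟩
  rw [← F.el_mul, ← F.el_mul, xr_comm]

theorem VFrame.sW_mem_ta {w : ℕ} (hw : w < 64) : F.e (sW w) ∈ F.ta := by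
  refine ⟨⟨w, by omega⟩, ?_⟩
  rw [VFrame.el, show w % 64 = w by omega, show w / 64 = 0 by omega, rP_zero, F.k_one, mul_one]

theorem VFrame.rP_mem_ta {a : ℕ} (ha : a < 16) : F.k (rP a) ∈ F.ta := by
  refine ⟨⟨64 * a, by omega⟩, ?_⟩
  rw [VFrame.el, show 64 * a % 64 = 0 by omega, show 64 * a / 64 = a by omega,
    show sW 0 = 0 by rw [sW, sM, enc_zero, ← word_empty]; congr 1, F.e_zero, one_mul]

theorem VFrame.subset_mem_ta {s : Finset GolayPt} (hs : s ⊆ oct8) (he : s.card % 2 = 0) : F.e (word s) ∈ F.ta := by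
  obtain ⟨v, hv, hc⟩ := exists_sW_of_subset hs he
  rw [(F.e_eq_iff (by rw [sum_word, ← ZMod.natCast_mod, he]; rfl) (sW_even hv)).2 hc]
  exact F.sW_mem_ta hv

variable (hG : ¬ IsMulCommutative G)

include hG in
theorem VFrame.centralizer_ta : centralizer (F.ta : Set G) = F.ta := by
  classical
  refine le_antisymm (fun x hx => ?_) fun a ha => mem_centralizer_iff.2 fun b hb => F.ta_comm b hb a ha
  have hcom : ∀ a ∈ F.ta, a * x = x * a := fun a ha => mem_centralizer_iff.1 hx a ha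
  have hcard : oct8.card = 8 := by decide +kernel
  have hpair : ∀ {s : Finset GolayPt}, s ⊆ oct8 → s.card = 2 → F.pair s ∈ F.ta := fun hs h2 =>
    F.subset_mem_ta hs (by rw [h2])
  have hxN : x ∈ normalizer (X.std : Set G) := by
    obtain ⟨s, hs, hs2⟩ := Finset.exists_subset_card_eq (s := oct8) (n := 2) (by omega)
    obtain ⟨h1, h2, h3⟩ := (F.nonz_iff hG).2 ⟨s, hs2, rfl⟩
    exact X.centralizer_le_of_not_zt hG h1 h2 h3 (mem_centralizer_singleton_iff.2 (hcom _ (hpair hs hs2)).symm)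
  obtain ⟨g, hg, hgx⟩ := F.k_dec x hxN
  set v := (F.k g)⁻¹ * x with hv
  have hfixpair : ∀ {s : Finset GolayPt}, s ⊆ oct8 → s.card = 2 → g • s = s := fun {s} hs h2 => by
    refine F.pair_inj (by rw [Finset.card_smul_finset, h2]) h2 ?_
    rw [VFrame.pair, ← permW_word, ← F.e_conj g hg _ (pair_even h2)]
    have hc := X.std_eleven.comm v hgx _ (F.e_mem _ (pair_even h2))
    calc F.k g * F.e (word s) * (F.k g)⁻¹ = F.k g * (v * F.e (word s) * v⁻¹) * (F.k g)⁻¹ := by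
          rw [hc, mul_inv_cancel_right]
      _ = x * F.e (word s) * x⁻¹ := by rw [hv]; group
      _ = F.pair s := by
        rw [show F.e (word s) = F.pair s from rfl, ← hcom _ (hpair hs h2), mul_inv_cancel_right]
  have hgF : g ∈ FK oct8 := mem_FK.2 ⟨hg, fun a ha => by
    obtain ⟨b, hb, c, hc, hbc⟩ : ∃ b ∈ oct8.erase a, ∃ c ∈ oct8.erase a, b ≠ c :=
      Finset.one_lt_card.1 (by rw [Finset.card_erase_of_mem ha, hcard]; norm_num)
    obtain ⟨hba, hb⟩ := Finset.mem_erase.1 hb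
    obtain ⟨hca, hc⟩ := Finset.mem_erase.1 hc
    have key : ∀ {y : GolayPt}, y ∈ oct8 → y ≠ a → g a = a ∨ g a = y := fun {y} hy hya => by
      have h := hfixpair (s := {a, y}) (by simp [Finset.insert_subset_iff, ha, hy]) (Finset.card_pair hya.symm)
      have hm : g a ∈ g • ({a, y} : Finset GolayPt) := (Cfsg.Agent.Golay.M24.mem_smul_iff g _ a).2 (by simp)
      rw [h] at hm
      simpa using hm
    rcases key hb hba with e | e
    · exact e
    · rcases key hc hca with e' | e'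
      · exact e'
      · exact absurd (e.symm.trans e') hbc⟩
  obtain ⟨a, ha, rfl⟩ := exists_rP hgF
  obtain ⟨w, hw, ew⟩ := F.e_surj v hgx
  have hfix : ∀ b < 16, permW (rP b) w + w ∈ golayCode := fun b hb => by
    rw [← F.e_eq_iff (permW_even hw) hw, ← F.e_conj _ (rP_mem hb) w hw, ew]
    have h1 := hcom _ (F.rP_mem_ta hb)
    have h2 := F.ta_comm _ (inv_mem (F.rP_mem_ta ha)) _ (F.rP_mem_ta hb)
    rw [hv]
    calc F.k (rP b) * ((F.k (rP a))⁻¹ * x) * (F.k (rP b))⁻¹ =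
        F.k (rP b) * (F.k (rP a))⁻¹ * (x * (F.k (rP b))⁻¹) := by group
      _ = (F.k (rP a))⁻¹ * F.k (rP b) * (x * (F.k (rP b))⁻¹) := by rw [h2]
      _ = (F.k (rP a))⁻¹ * (F.k (rP b) * x) * (F.k (rP b))⁻¹ := by group
      _ = _ := by rw [h1]; group
  obtain ⟨u, hu, huc⟩ := exists_sW_of_fixed hw hfix
  have hx' : x = F.k (rP a) * v := by rw [hv]; group
  rw [hx', ← ew, (F.e_eq_iff hw (sW_even hu)).2 huc]
  exact mul_mem (F.rP_mem_ta ha) (F.sW_mem_ta hu)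

theorem VFrame.ta_isElem : Cfsg.IsElementaryAbelian 2 F.ta :=
  ⟨⟨⟨fun a b => Subtype.ext (F.ta_comm a a.2 b b.2)⟩⟩, fun a ha => by rw [pow_two]; exact F.ta_sq a ha⟩

theorem VFrame.k_normalizes {g : Equiv.Perm GolayPt} (hg : g ∈ OK oct8) :
    F.k g ∈ normalizer (F.ta : Set G) := by
  refine M22Order.mem_normalizer_of_conj ?_
  rintro _ ⟨n, rfl⟩
  obtain ⟨hn, hn'⟩ := lt_of_fin n
  obtain ⟨v, hv, hc⟩ := permW_sW hg hn
  obtain ⟨b, hb, eb⟩ := exists_rP (conj_rP hg hn')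
  have h1 : F.k g * F.e (sW (n.1 % 64)) * (F.k g)⁻¹ = F.e (sW v) := by
    rw [F.e_conj g hg.1 _ (sW_even hn), F.e_eq_iff (permW_even (sW_even hn)) (sW_even hv)]
    exact hc
  have h2 : F.k g * F.k (rP (n.1 / 64)) * (F.k g)⁻¹ = F.k (rP b) := by
    rw [eb, F.k_mul _ (mul_mem hg.1 (rP_mem hn')) _ (inv_mem hg.1), F.k_mul _ hg.1 _ (rP_mem hn'), F.k_inv hg.1]
  rw [VFrame.el, show F.k g * (F.e (sW (n.1 % 64)) * F.k (rP (n.1 / 64))) * (F.k g)⁻¹ =
    (F.k g * F.e (sW (n.1 % 64)) * (F.k g)⁻¹) * (F.k g * F.k (rP (n.1 / 64)) * (F.k g)⁻¹) by group, h1, h2]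
  exact mul_mem (F.sW_mem_ta hv) (F.rP_mem_ta hb)

theorem VFrame.conj_u {a b : ℕ} (ha : a < 16) (hb : b < 16) :
    F.e (uW b) * F.k (rP a) * (F.e (uW b))⁻¹ = F.e (sW (plk a b)) * F.k (rP a) := by
  have hu := uW_even hb
  have hr := permW_even (g := rP a) hu
  have hi : (F.e (uW b))⁻¹ = F.e (uW b) :=
    inv_eq_of_mul_eq_one_right (X.std_eleven.sq _ (F.e_mem _ hu))
  rw [hi, ← (F.e_eq_iff (add_even hu hr) (sW_even (plk_lt ha hb))).2 (u_conj ha hb), F.e_add _ _ hu hr,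
    ← F.e_conj _ (rP_mem ha) _ hu]
  group

theorem VFrame.u_normalizes {b : ℕ} (hb : b < 16) : F.e (uW b) ∈ normalizer (F.ta : Set G) := by
  refine M22Order.mem_normalizer_of_conj ?_
  rintro _ ⟨n, rfl⟩
  obtain ⟨hn, hn'⟩ := lt_of_fin n
  have hc := X.std_eleven.comm _ (F.e_mem _ (uW_even hb)) _ (F.e_mem _ (sW_even hn))
  rw [VFrame.el, show F.e (uW b) * (F.e (sW (n.1 % 64)) * F.k (rP (n.1 / 64))) * (F.e (uW b))⁻¹ =
    (F.e (uW b) * F.e (sW (n.1 % 64))) * F.k (rP (n.1 / 64)) * (F.e (uW b))⁻¹ by group, hc,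
    show F.e (sW (n.1 % 64)) * F.e (uW b) * F.k (rP (n.1 / 64)) * (F.e (uW b))⁻¹ =
      F.e (sW (n.1 % 64)) * (F.e (uW b) * F.k (rP (n.1 / 64)) * (F.e (uW b))⁻¹) by group, F.conj_u hn' hb]
  exact mul_mem (F.sW_mem_ta hn) (mul_mem (F.sW_mem_ta (plk_lt hn' hb)) (F.rP_mem_ta hn'))

end Cfsg.Agent.J4Eleven.Chart
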