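import Cfsg.Agent.Lib.J4Ten.Core

/-!
# Janko four type: the elementary subgroups of order eight in the core of `t` in M22
-/

set_option autoImplicit false
set_option linter.style.haveILetI false
set_option linter.unusedSectionVars false

namespace Cfsg.Agent.J4Eleven.Chart

open Subgroup
open Cfsg.Agent.J4Local
open Cfsg.Agent.M22Order (Setup)

universe u

variable {G : Type u} [Group G] [Finite G] {z : G} {P : Subgroup G} (X : Chart z P)

theorem R_cases {x y : ↥Cfsg.Spor.M22} (hx : x ∈ X.S.R) (hy : y ∈ X.S.R) (hxE : x ∉ X.S.E) (hyE : y ∉ X.S.E)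
    (hxyE : x * y ∉ X.S.E) {g : ↥Cfsg.Spor.M22} (hg : g ∈ X.S.R) :
    ∃ e ∈ X.S.E, g = e ∨ g = e * x ∨ g = e * y ∨ g = e * (x * y) := by
  classical
  let h : Bool × Bool → ↥Cfsg.Spor.M22 := fun q => (bif q.1 then x else 1) * (bif q.2 then y else 1)
  have hR : ∀ q, h q ∈ X.S.R := fun q => by
    rcases q with ⟨_ | _, _ | _⟩ <;> simp only [h, cond_true, cond_false] <;>
      first
        | exact mul_mem (one_mem _) (one_mem _)
        | exact mul_mem hx (one_mem _)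
        | exact mul_mem (one_mem _) hy
        | exact mul_mem hx hy
  have hN : ∀ {a e : ↥Cfsg.Spor.M22}, a ∈ X.S.R → e ∈ X.S.E → a * e * a⁻¹ ∈ X.S.E := fun ha he =>
    M22Order.conj_mem_of_mem_normalizer (X.R_le_NS ha) he
  have hxyi : x * y⁻¹ ∉ X.S.E := fun e => hxyE (by
    have := mul_mem e (X.R_sq hy)
    rwa [show x * y⁻¹ * (y * y) = x * y by group] at this)
  have hyx : y * x⁻¹ ∉ X.S.E := fun e => hxyi (by
    have := inv_mem e
    rwa [show (y * x⁻¹)⁻¹ = x * y⁻¹ by group] at this)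
  have hxyx : x * y * x⁻¹ ∉ X.S.E := fun e => hyE (by
    have := hN (inv_mem hx) e
    rwa [show x⁻¹ * (x * y * x⁻¹) * x⁻¹⁻¹ = y by group] at this)
  have hne : ∀ q q', q ≠ q' → h q * (h q')⁻¹ ∉ X.S.E := by
    have inv' : ∀ {a : ↥Cfsg.Spor.M22}, a ∉ X.S.E → a⁻¹ ∉ X.S.E := fun ha h => ha (by simpa using inv_mem h)
    rintro ⟨_ | _, _ | _⟩ ⟨_ | _, _ | _⟩ hqq <;> simp only [h, cond_true, cond_false, mul_one, one_mul,
      inv_one] at hqq ⊢
    all_goals first
      | exact absurd rfl hqq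
      | exact hyE
      | exact hxE
      | exact hxyE
      | exact inv' hyE
      | exact inv' hxE
      | exact inv' hxyE
      | exact hyx
      | exact hxyi
      | exact hxyx
      | (rw [mul_inv_cancel_right]; exact hxE)
      | (rw [show y * (x * y)⁻¹ = x⁻¹ by group]; exact inv' hxE)
      | (rw [show x * (x * y)⁻¹ = (x * y * x⁻¹)⁻¹ by group]; exact inv' hxyx)
  let f : ↥X.S.E × (Bool × Bool) → ↥X.S.R := fun q => ⟨q.1 * h q.2, mul_mem (X.E_le_R' q.1.2) (hR _)⟩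
  have hinj : Function.Injective f := by
    rintro ⟨e, q⟩ ⟨e', q'⟩ eq
    have eq' : (e : ↥Cfsg.Spor.M22) * h q = e' * h q' := congrArg Subtype.val eq
    have hq : q = q' := by
      by_contra hc
      refine hne q q' hc ?_
      rw [show h q * (h q')⁻¹ = (e : ↥Cfsg.Spor.M22)⁻¹ * ((e : ↥Cfsg.Spor.M22) * h q) * (h q')⁻¹ by group, eq',
        show (e : ↥Cfsg.Spor.M22)⁻¹ * ((e' : ↥Cfsg.Spor.M22) * h q') * (h q')⁻¹ = (e : ↥Cfsg.Spor.M22)⁻¹ * e' by group]
      exact mul_mem (inv_mem e.2) e'.2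
    subst hq
    exact Prod.ext (Subtype.ext (mul_right_cancel eq')) rfl
  obtain ⟨⟨e, q⟩, hq⟩ := ((Nat.bijective_iff_injective_and_card f).2 ⟨hinj, by
    rw [Nat.card_prod, X.S.card_E X.hcard, X.S.hR.card, show Nat.card (Bool × Bool) = 4 by simp]⟩).2 ⟨g, hg⟩
  have hq' : (e : ↥Cfsg.Spor.M22) * h q = g := congrArg Subtype.val hq
  refine ⟨e, e.2, ?_⟩
  rcases q with ⟨_ | _, _ | _⟩ <;> simp only [h, cond_true, cond_false, mul_one, one_mul] at hq'
  exacts [Or.inl hq'.symm, Or.inr (Or.inr (Or.inl hq'.symm)), Or.inr (Or.inl hq'.symm),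
    Or.inr (Or.inr (Or.inr hq'.symm))]

theorem exists_not_E : ∃ x ∈ X.S.R, x ∉ X.S.E := by
  by_contra hcon
  push Not at hcon
  have := Subgroup.card_le_of_le (hcon : X.S.R ≤ X.S.E)
  rw [X.S.hR.card, X.S.card_E X.hcard] at this
  norm_num at this

theorem r_pair {x : ↥Cfsg.Spor.M22} (hx : x ∈ X.S.R) (hxE : x ∉ X.S.E) :
    X.S.r * x * X.S.r⁻¹ ∈ X.S.R ∧ X.S.r * x * X.S.r⁻¹ ∉ X.S.E ∧ x * (X.S.r * x * X.S.r⁻¹) ∉ X.S.E := by
  refine ⟨X.r_R hx, fun h => hxE ?_, fun h => X.coset_free hx hxE ?_⟩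
  · have := M22Order.conj_mem_of_mem_normalizer (inv_mem X.r_NS) h
    rwa [show X.S.r⁻¹ * (X.S.r * x * X.S.r⁻¹) * X.S.r⁻¹⁻¹ = x by group] at this
  · have h1 := mul_mem (inv_mem (X.R_sq hx)) h
    rw [show (x * x)⁻¹ * (x * (X.S.r * x * X.S.r⁻¹)) = x⁻¹ * (X.S.r * x * X.S.r⁻¹) by group] at h1
    have := M22Order.conj_mem_of_mem_normalizer (X.R_le_NS hx) h1
    rwa [show x * (x⁻¹ * (X.S.r * x * X.S.r⁻¹)) * x⁻¹ = X.S.r * x * X.S.r⁻¹ * x⁻¹ by group] at this

/-- Two subgroups of `E` meet in at least a sixteenth of the product of their orders. -/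
theorem card_inf_pair {Y Z : Subgroup ↥Cfsg.Spor.M22} (hY : Y ≤ X.S.E) (hZ : Z ≤ X.S.E) :
    Nat.card Y * Nat.card Z ≤ Nat.card ↥(Y ⊓ Z) * 16 := by
  rw [← X.S.card_E X.hcard, (Z.subgroupOf X.S.E).card_eq_card_quotient_mul_card_subgroup,
    Nat.card_congr (subgroupOfEquivOfLe hZ).toEquiv, ← mul_assoc]
  refine Nat.mul_le_mul_right _ (card_le_stab_mul Y (Y ⊓ Z) (fun a =>
    ((⟨a, hY a.2⟩ : ↥X.S.E) : ↥X.S.E ⧸ Z.subgroupOf X.S.E)) fun a b e => ?_)
  exact ⟨Y.mul_mem (Y.inv_mem a.2) b.2, mem_subgroupOf.1 (QuotientGroup.eq.1 e)⟩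

/-- Only the powers of `t` in `E` centralise the core. -/
theorem E_cent_R {e : ↥Cfsg.Spor.M22} (he : e ∈ X.S.E) (hc : ∀ g ∈ X.S.R, g * e = e * g) : e = 1 ∨ e = X.S.t := by
  classical
  set Y := X.S.E ⊓ centralizer (X.S.R : Set ↥Cfsg.Spor.M22) with hY
  have htY : X.S.t ∈ Y := ⟨X.tE, mem_centralizer_iff.2 fun g hg => (mem_centralizer_singleton_iff.1 (X.R_le_C hg))⟩
  have hinv : ∀ g, Commute g X.S.t → ∀ y ∈ Y, g * y * g⁻¹ ∈ Y := by
    intro g hg y hy
    refine ⟨M22Order.conj_mem_of_mem_normalizer (X.C_le_NS (mem_centralizer_singleton_iff.2 hg)) hy.1,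
      mem_centralizer_iff.2 fun h hh => ?_⟩
    have hh' : g⁻¹ * h * g ∈ X.S.R := by simpa using X.R_conj hg.inv_left hh
    have h2 := mem_centralizer_iff.1 hy.2 _ hh'
    calc h * (g * y * g⁻¹) = g * (g⁻¹ * h * g * y) * g⁻¹ := by group
      _ = g * y * g⁻¹ * h := by rw [h2]; group
  by_contra hcon
  push Not at hcon
  have hge := J4Eleven.eight_le_invariant X.hcard X.S (inf_le_left : Y ≤ X.S.E) htY hinv
    ⟨e, ⟨he, mem_centralizer_iff.2 hc⟩, hcon.1, hcon.2⟩
  set Y' := Y ⊓ X.S.perp X.hcard with hY'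
  have hinv' : ∀ g, Commute g X.S.t → ∀ y ∈ Y', g * y * g⁻¹ ∈ Y' := fun g hg y hy =>
    ⟨hinv g hg y hy.1, (hinv g hg y hy.1).1, by rw [X.S.frm_invariant X.hcard hg rfl]; exact hy.2.2⟩
  have hp8 := X.S.eight_le_perp X.hcard
  -- two subgroups of order at least eight meet in at least four
  have h4 : 4 ≤ Nat.card Y' := by
    have hb : Nat.card Y * Nat.card (X.S.perp X.hcard) ≤ Nat.card Y' * 16 :=
      X.card_inf_pair (Y := Y) inf_le_left (fun y hy => hy.1)
    have : 8 * 8 ≤ Nat.card Y * Nat.card (X.S.perp X.hcard) := Nat.mul_le_mul hge hp8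
    omega
  obtain ⟨u, huY, hu1, hut⟩ : ∃ u ∈ Y', u ≠ 1 ∧ u ≠ X.S.t := by
    by_contra hc'
    push Not at hc'
    have hsub : (Y' : Set ↥Cfsg.Spor.M22) ⊆ {1, X.S.t} := fun u hu => by
      by_cases h1 : u = 1
      · exact Or.inl h1
      · exact Or.inr (hc' u hu h1)
    have hn := (Set.ncard_le_ncard hsub).trans (Set.ncard_insert_le _ _)
    rw [Set.ncard_singleton, ← Nat.card_coe_set_eq, SetLike.coe_sort_coe] at hn
    omega
  have h8' := J4Eleven.eight_le_invariant X.hcard X.S (fun y hy => hy.1.1 : Y' ≤ X.S.E)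
    ⟨htY, X.S.t_mem_perp X.hcard⟩ hinv' ⟨u, huY, hu1, hut⟩
  have hpY : X.S.perp X.hcard ≤ Y := by
    have hpc : Nat.card (X.S.perp X.hcard) ≤ 8 := by
      have hd : Nat.card (X.S.perp X.hcard) ∣ 16 := X.S.card_E X.hcard ▸ card_dvd_of_le fun y hy => hy.1
      have hne : Nat.card (X.S.perp X.hcard) ≠ 16 := fun e16 => by
        obtain ⟨v, hv, hv1, hvt⟩ := X.S.exists_u X.hcard
        have hvp : v ∈ X.S.perp X.hcard := (SetLike.ext_iff.1 (eq_of_le_of_card_ge
          (fun y hy => hy.1 : X.S.perp X.hcard ≤ X.S.E) (by rw [e16, X.S.card_E X.hcard])) v).2 (X.S.D_le X.hcard hv)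
        have := (X.S.frm_coset X.hcard hv hv1 hvt (one_mem X.S.A)).2.2.1
        rw [mul_one, hvp.2] at this
        exact absurd this (by decide)
      obtain ⟨j, hj, e'⟩ := (Nat.dvd_prime_pow Nat.prime_two (m := 4)).1 hd
      rw [e'] at hne ⊢
      interval_cases j <;> omega
    have hle : Y' ≤ X.S.perp X.hcard := inf_le_right
    exact (eq_of_le_of_card_ge hle (by omega)) ▸ inf_le_left
  have hRE : X.S.R ≤ X.S.E := by
    rw [← X.S.centralizer_perp X.hcard]
    exact fun g hg => mem_centralizer_iff.2 fun y hy => (mem_centralizer_iff.1 (hpY hy).2 g hg).symm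
  obtain ⟨x, hx, hxE⟩ := X.exists_not_E
  exact hxE (hRE hx)

theorem t_comm_R {g : ↥Cfsg.Spor.M22} (hg : g ∈ X.S.R) : g * X.S.t = X.S.t * g :=
  mem_centralizer_singleton_iff.1 (X.R_le_C hg)

theorem E_cent_pair {x y : ↥Cfsg.Spor.M22} (hx : x ∈ X.S.R) (hy : y ∈ X.S.R) (hxE : x ∉ X.S.E) (hyE : y ∉ X.S.E)
    (hxyE : x * y ∉ X.S.E) {e : ↥Cfsg.Spor.M22} (he : e ∈ X.S.E) (h1 : Commute x e) (h2 : Commute y e) :
    e = 1 ∨ e = X.S.t := by
  refine X.E_cent_R he fun g hg => ?_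
  obtain ⟨f, hf, h⟩ := X.R_cases hx hy hxE hyE hxyE hg
  have hfe : Commute f e := X.S.comm X.hcard hf he
  rcases h with rfl | rfl | rfl | rfl
  exacts [hfe.eq, (hfe.mul_left h1).eq, (hfe.mul_left h2).eq, (hfe.mul_left (h1.mul_left h2)).eq]

/-- Outside `E` an element of the core centralises a four group of `E`, all of it being commutators. -/
theorem shift {x : ↥Cfsg.Spor.M22} (hx : x ∈ X.S.R) (hxE : x ∉ X.S.E) :
    Nat.card ↥(X.S.E ⊓ centralizer ({x} : Set ↥Cfsg.Spor.M22)) = 4 ∧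
      ∀ c ∈ X.S.E, Commute x c → ∃ e ∈ X.S.E, c = e * (x * e * x⁻¹) := by
  classical
  set T := X.S.E ⊓ centralizer ({x} : Set ↥Cfsg.Spor.M22) with hT
  have hxx := X.R_sq hx
  have hc : ∀ e ∈ X.S.E, x * e * x⁻¹ ∈ X.S.E := fun e he =>
    M22Order.conj_mem_of_mem_normalizer (X.R_le_NS hx) he
  let F : X.S.E →* X.S.E :=
    { toFun := fun e => ⟨(e : ↥Cfsg.Spor.M22) * (x * e * x⁻¹), mul_mem e.2 (hc e e.2)⟩
      map_one' := Subtype.ext (by simp)
      map_mul' := fun a b => Subtype.ext (by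
        show (a : ↥Cfsg.Spor.M22) * b * (x * (a * b) * x⁻¹) = a * (x * a * x⁻¹) * (b * (x * b * x⁻¹))
        rw [show x * ((a : ↥Cfsg.Spor.M22) * b) * x⁻¹ = (x * a * x⁻¹) * (x * b * x⁻¹) by group, mul_assoc,
          ← mul_assoc (b : ↥Cfsg.Spor.M22), (X.S.comm X.hcard b.2 (hc a a.2)).eq]
        group) }
  have hker : F.ker = T.subgroupOf X.S.E := by
    ext ⟨e, he⟩
    rw [MonoidHom.mem_ker, mem_subgroupOf, hT, mem_inf, mem_centralizer_singleton_iff, Subtype.ext_iff]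
    show e * (x * e * x⁻¹) = 1 ↔ e ∈ X.S.E ∧ e * x = x * e
    constructor
    · intro h
      refine ⟨he, ?_⟩
      have := (eq_inv_of_mul_eq_one_right h).trans (inv_eq_of_mul_eq_one_right (X.S.sq X.hcard he))
      exact (mul_inv_eq_iff_eq_mul.1 this).symm
    · rintro ⟨-, h⟩
      rw [← h, mul_inv_cancel_right, X.S.sq X.hcard he]
  have hrange : ∀ y ∈ F.range, (y : ↥Cfsg.Spor.M22) ∈ T := by
    rintro _ ⟨⟨e, he⟩, rfl⟩
    refine mem_inf.2 ⟨mul_mem he (hc e he), mem_centralizer_singleton_iff.2 ?_⟩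
    have h2 : x * (e * (x * e * x⁻¹)) * x⁻¹ = e * (x * e * x⁻¹) := by
      calc x * (e * (x * e * x⁻¹)) * x⁻¹ = (x * e * x⁻¹) * ((x * x) * e * (x * x)⁻¹) := by group
        _ = (x * e * x⁻¹) * e := by rw [(X.S.comm X.hcard hxx he).eq, mul_inv_cancel_right]
        _ = e * (x * e * x⁻¹) := (X.S.comm X.hcard (hc e he) he).eq
    exact (mul_inv_eq_iff_eq_mul.1 h2).symm
  have hmul : Nat.card F.ker * Nat.card F.range = 16 := by
    rw [← X.S.card_E X.hcard, ← F.ker.card_mul_index, index_ker]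
  have hkT : Nat.card F.ker = Nat.card T := by
    rw [hker]; exact Nat.card_congr (subgroupOfEquivOfLe inf_le_left).toEquiv
  have hrle : Nat.card F.range ≤ Nat.card T :=
    Nat.card_le_card_of_injective (fun y : F.range => (⟨(y : X.S.E), hrange y y.2⟩ : T))
      fun y y' e => Subtype.ext (Subtype.ext (congrArg Subtype.val e :))
  rw [hkT] at hmul
  obtain ⟨hyR, hyE, hxyE⟩ := X.r_pair hx hxE
  set y := X.S.r * x * X.S.r⁻¹ with hy
  have hT4 : Nat.card T ≤ 4 := by
    by_contra hgt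
    set T' := T.map (MulAut.conj X.S.r).toMonoidHom with hT'
    have hT'E : T' ≤ X.S.E := by
      rintro _ ⟨a, ha, rfl⟩
      exact M22Order.conj_mem_of_mem_normalizer X.r_NS ha.1
    have hT'c : Nat.card T' = Nat.card T := card_map_of_injective (MulAut.conj X.S.r).injective
    have hb : Nat.card T * Nat.card T' ≤ Nat.card ↥(T ⊓ T') * 16 := X.card_inf_pair (Y := T) inf_le_left hT'E
    rw [hT'c] at hb
    have h25 : 5 * 5 ≤ Nat.card T * Nat.card T := Nat.mul_le_mul (by omega) (by omega)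
    have h3 : (T ⊓ T' : Subgroup ↥Cfsg.Spor.M22) ≤ zpowers X.S.t := by
      rintro a ⟨ha, a', ha', rfl⟩
      have hax : Commute x ((MulAut.conj X.S.r).toMonoidHom a') := (mem_centralizer_singleton_iff.1 ha.2).symm
      have hay : Commute y ((MulAut.conj X.S.r).toMonoidHom a') :=
        M22Order.commute_conj X.S.r (show Commute x a' from (mem_centralizer_singleton_iff.1 ha'.2).symm)
      rcases X.E_cent_pair hx hyR hxE hyE hxyE ha.1 hax hay with e | e <;> rw [e]
      exacts [one_mem _, mem_zpowers _]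
    have h4 := Subgroup.card_le_of_le h3
    rw [Nat.card_zpowers, X.S.ht] at h4
    have hd : Nat.card T ∣ 2 ^ 4 := ⟨Nat.card F.range, by rw [hmul]; norm_num⟩
    obtain ⟨j, hj, hjT⟩ := (Nat.dvd_prime_pow Nat.prime_two).1 hd
    have h8 : 8 * 8 ≤ Nat.card T * Nat.card T := by
      have : 8 ≤ Nat.card T := by
        rw [hjT] at hgt ⊢
        interval_cases j <;> omega
      exact Nat.mul_le_mul this this
    omega
  have hT' : Nat.card T = 4 := by nlinarith [hmul, hrle, hT4]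
  refine ⟨hT', fun c hc' hcx => ?_⟩
  let inc : F.range → T := fun w => ⟨((w : X.S.E) : ↥Cfsg.Spor.M22), hrange (w : X.S.E) w.2⟩
  have hinj : Function.Injective inc := fun w w' e => Subtype.ext (Subtype.ext (congrArg Subtype.val e :))
  obtain ⟨⟨_, ⟨e, rfl⟩⟩, he⟩ := ((Nat.bijective_iff_injective_and_card inc).2 ⟨hinj, by
    rw [hT'] at hmul ⊢; omega⟩).2 ⟨c, hc', mem_centralizer_singleton_iff.2 hcx.symm.eq⟩
  exact ⟨e, e.2, (congrArg Subtype.val he).symm⟩

/-- An elementary subgroup of order eight of the core meeting `E` in the powers of `t`. -/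
structure Oct (B : Subgroup ↥Cfsg.Spor.M22) : Prop where
  le : B ≤ X.S.R
  sq : ∀ b ∈ B, b * b = 1
  card : Nat.card B = 8
  tmem : X.S.t ∈ B
  inter : ∀ b ∈ B, b ∈ X.S.E → b = 1 ∨ b = X.S.t

variable {X}

theorem Oct.comm {B : Subgroup ↥Cfsg.Spor.M22} (h : X.Oct B) {a b : ↥Cfsg.Spor.M22} (ha : a ∈ B) (hb : b ∈ B) :
    a * b = b * a := comm_of_sq h.sq ha hb

theorem Oct.exists_pair {B : Subgroup ↥Cfsg.Spor.M22} (h : X.Oct B) :
    ∃ x ∈ B, ∃ y ∈ B, x ∉ X.S.E ∧ y ∉ X.S.E ∧ x * y ∉ X.S.E := by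
  classical
  obtain ⟨x, hx, hxE⟩ : ∃ x ∈ B, x ∉ X.S.E := by
    by_contra hcon
    push Not at hcon
    have hsub : (B : Set ↥Cfsg.Spor.M22) ⊆ {1, X.S.t} := fun b hb => h.inter b hb (hcon b hb)
    have hn := (Set.ncard_le_ncard hsub).trans (Set.ncard_insert_le _ _)
    rw [Set.ncard_singleton, ← Nat.card_coe_set_eq, SetLike.coe_sort_coe, h.card] at hn
    omega
  by_contra hcon
  push Not at hcon
  have hsub : (B : Set ↥Cfsg.Spor.M22) ⊆ ↑({1, X.S.t, x, X.S.t * x} : Finset ↥Cfsg.Spor.M22) := by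
    intro b hb
    simp only [Finset.coe_insert, Finset.coe_singleton, Set.mem_insert_iff, Set.mem_singleton_iff]
    by_cases hbE : b ∈ X.S.E
    · rcases h.inter b hb hbE with e | e
      exacts [Or.inl e, Or.inr (Or.inl e)]
    · have e0 : b = (x * b) * x := by
        rw [h.comm hx hb, mul_assoc, h.sq x hx, mul_one]
      rcases h.inter _ (mul_mem hx hb) (hcon x hx b hb hxE hbE) with e | e <;> rw [e] at e0
      · exact Or.inr (Or.inr (Or.inl (by rw [e0, one_mul])))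
      · exact Or.inr (Or.inr (Or.inr e0))
  have hn := Set.ncard_le_ncard hsub
  rw [Set.ncard_coe_finset, ← Nat.card_coe_set_eq, SetLike.coe_sort_coe, h.card] at hn
  have hc4 : ({1, X.S.t, x, X.S.t * x} : Finset ↥Cfsg.Spor.M22).card ≤ 4 := Finset.card_le_four
  omega

theorem Oct.mem_of_comm {B : Subgroup ↥Cfsg.Spor.M22} (h : X.Oct B) {x y : ↥Cfsg.Spor.M22} (hx : x ∈ B) (hy : y ∈ B)
    (hxE : x ∉ X.S.E) (hyE : y ∉ X.S.E) (hxyE : x * y ∉ X.S.E) {g : ↥Cfsg.Spor.M22} (hg : g ∈ X.S.R)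
    (hgx : Commute g x) (hgy : Commute g y) : g ∈ B := by
  obtain ⟨e, he, hc⟩ := X.R_cases (h.le hx) (h.le hy) hxE hyE hxyE hg
  have key : ∀ k ∈ B, g = e * k → g ∈ B := fun k hk hgk => by
    have hek : e = g * k⁻¹ := by rw [hgk, mul_inv_cancel_right]
    have h1 : Commute x e := hek ▸ (hgx.symm.mul_right ((show Commute x k from h.comm hx hk).inv_right))
    have h2 : Commute y e := hek ▸ (hgy.symm.mul_right ((show Commute y k from h.comm hy hk).inv_right))
    have heB : e ∈ B := by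
      rcases X.E_cent_pair (h.le hx) (h.le hy) hxE hyE hxyE he h1 h2 with e1 | e1
      · rw [e1]; exact one_mem _
      · rw [e1]; exact h.tmem
    rw [hgk]
    exact mul_mem heB hk
  rcases hc with e1 | e1 | e1 | e1
  · exact key 1 (one_mem _) (by rw [e1, mul_one])
  · exact key x hx e1
  · exact key y hy e1
  · exact key _ (mul_mem hx hy) e1

variable (X)

theorem exists_involution_coset {x : ↥Cfsg.Spor.M22} (hx : x ∈ X.S.R) (hxE : x ∉ X.S.E) :
    ∃ e ∈ X.S.E, (e * x) * (e * x) = 1 := by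
  obtain ⟨e, he, hee⟩ := (X.shift hx hxE).2 (x * x) (X.R_sq hx) (by
    show x * (x * x) = x * x * x
    group)
  refine ⟨e, he, ?_⟩
  calc e * x * (e * x) = e * (x * e * x⁻¹) * (x * x) := by group
    _ = 1 := by rw [← hee, X.S.sq X.hcard (X.R_sq hx)]

theorem exists_oct : ∃ B, X.Oct B := by
  classical
  obtain ⟨x0, hx0, hx0E⟩ := X.exists_not_E
  obtain ⟨e0, he0, hx2⟩ := X.exists_involution_coset hx0 hx0E
  set x := e0 * x0 with hxdef
  have hx : x ∈ X.S.R := mul_mem (X.E_le_R' he0) hx0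
  have hxE : x ∉ X.S.E := fun h => hx0E (by simpa [hxdef] using mul_mem (inv_mem he0) h)
  obtain ⟨hy0, hy0E, hxy0⟩ := X.r_pair hx hxE
  set y0 := X.S.r * x * X.S.r⁻¹ with hy0def
  have hxi : x⁻¹ = x := inv_eq_of_mul_eq_one_right hx2
  have hy02 : y0 * y0 = 1 := by
    rw [hy0def, show X.S.r * x * X.S.r⁻¹ * (X.S.r * x * X.S.r⁻¹) = X.S.r * (x * x) * X.S.r⁻¹ by group, hx2]
    group
  have hy0i : y0⁻¹ = y0 := inv_eq_of_mul_eq_one_right hy02
  set c := x * y0 * x⁻¹ * y0⁻¹ with hc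
  have hcE : c ∈ X.S.E := X.R_commutator hx hy0
  have hcx : Commute x c := by
    have h1 : x * c * x⁻¹ = c := by
      have h2 : x * c * x⁻¹ = c⁻¹ := by
        calc x * c * x⁻¹ = (x * x) * y0 * x⁻¹ * y0⁻¹ * x⁻¹ := by rw [hc]; group
          _ = y0 * x * y0⁻¹ * x⁻¹ := by rw [hx2, hxi]; group
          _ = c⁻¹ := by rw [hc]; group
      rw [h2, inv_eq_of_mul_eq_one_right (X.S.sq X.hcard hcE)]
    exact mul_inv_eq_iff_eq_mul.1 h1
  obtain ⟨e, he, hec⟩ := (X.shift hx hxE).2 c hcE hcx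
  set y1 := e * y0 with hy1def
  have hy1 : y1 ∈ X.S.R := mul_mem (X.E_le_R' he) hy0
  have hy1E : y1 ∉ X.S.E := fun h => hy0E (by simpa [hy1def] using mul_mem (inv_mem he) h)
  have hxy1 : x * y1 ∉ X.S.E := fun h => hxy0 (by
    have hN : x * e⁻¹ * x⁻¹ ∈ X.S.E := M22Order.conj_mem_of_mem_normalizer (X.R_le_NS hx) (inv_mem he)
    have := mul_mem hN h
    rwa [show x * e⁻¹ * x⁻¹ * (x * y1) = x * y0 by rw [hy1def]; group] at this)
  have hxe : x * e * x⁻¹ * c = e := by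
    rw [(X.S.comm X.hcard (M22Order.conj_mem_of_mem_normalizer (X.R_le_NS hx) he) hcE).eq, hec, mul_assoc,
      X.S.sq X.hcard (M22Order.conj_mem_of_mem_normalizer (X.R_le_NS hx) he), mul_one]
  have hcomm : Commute x y1 := by
    refine mul_inv_eq_iff_eq_mul.1 ?_
    calc x * y1 * x⁻¹ = (x * e * x⁻¹) * c * y0 := by rw [hy1def, hc]; group
      _ = y1 := by rw [hxe]
  obtain ⟨y, hy, hyE, hxy, hcy, hy2⟩ : ∃ y ∈ X.S.R, y ∉ X.S.E ∧ x * y ∉ X.S.E ∧ Commute x y ∧ y * y = 1 := by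
    rcases X.E_cent_pair hx hy1 hxE hy1E hxy1 (X.R_sq hy1) (hcomm.mul_right hcomm)
      ((Commute.refl y1).mul_right (Commute.refl y1)) with h1 | h1
    · exact ⟨y1, hy1, hy1E, hxy1, hcomm, h1⟩
    -- an element of `E` commuting with `x` but not with `y1`
    obtain ⟨f, hf, hfy⟩ : ∃ f ∈ X.S.E ⊓ centralizer ({x} : Set ↥Cfsg.Spor.M22), ¬ Commute y1 f := by
      by_contra hno
      push Not at hno
      have hsub : ((X.S.E ⊓ centralizer ({x} : Set ↥Cfsg.Spor.M22) : Subgroup ↥Cfsg.Spor.M22) : Set ↥Cfsg.Spor.M22)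
          ⊆ {1, X.S.t} := fun f hf => X.E_cent_pair hx hy1 hxE hy1E hxy1 hf.1
            (mem_centralizer_singleton_iff.1 hf.2).symm (hno f hf)
      have hn := (Set.ncard_le_ncard hsub).trans (Set.ncard_insert_le _ _)
      rw [Set.ncard_singleton, ← Nat.card_coe_set_eq, SetLike.coe_sort_coe, (X.shift hx hxE).1] at hn
      omega
    have hfx : Commute x f := (mem_centralizer_singleton_iff.1 hf.2).symm
    have hk : f * (y1 * f * y1⁻¹) ∈ X.S.E :=
      mul_mem hf.1 (M22Order.conj_mem_of_mem_normalizer (X.R_le_NS hy1) hf.1)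
    have hky : Commute y1 (f * (y1 * f * y1⁻¹)) := by
      have hcE' := M22Order.conj_mem_of_mem_normalizer (X.R_le_NS hy1) hf.1
      refine mul_inv_eq_iff_eq_mul.1 ?_
      calc y1 * (f * (y1 * f * y1⁻¹)) * y1⁻¹ = (y1 * f * y1⁻¹) * ((y1 * y1) * f * (y1 * y1)⁻¹) := by group
        _ = (y1 * f * y1⁻¹) * f := by rw [(X.S.comm X.hcard (X.R_sq hy1) hf.1).eq, mul_inv_cancel_right]
        _ = _ := (X.S.comm X.hcard hcE' hf.1).eq
    have hkt : f * (y1 * f * y1⁻¹) = X.S.t := by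
      refine (X.E_cent_pair hx hy1 hxE hy1E hxy1 hk
        (hfx.mul_right ((hcomm.mul_right hfx).mul_right hcomm.inv_right)) hky).resolve_left fun h0 => hfy ?_
      have := (eq_inv_of_mul_eq_one_right h0).trans (inv_eq_of_mul_eq_one_right (X.S.sq X.hcard hf.1))
      exact mul_inv_eq_iff_eq_mul.1 this
    refine ⟨f * y1, mul_mem (X.E_le_R' hf.1) hy1, fun h => hy1E ?_, fun h => hxy1 ?_, hfx.mul_right hcomm, ?_⟩
    · simpa using mul_mem (X.S.E.inv_mem hf.1) h
    · have hN : x * f⁻¹ * x⁻¹ ∈ X.S.E := M22Order.conj_mem_of_mem_normalizer (X.R_le_NS hx) (X.S.E.inv_mem hf.1)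
      have := mul_mem hN h
      rwa [show x * f⁻¹ * x⁻¹ * (x * (f * y1)) = x * y1 by group] at this
    · calc f * y1 * (f * y1) = f * (y1 * f * y1⁻¹) * (y1 * y1) := by group
        _ = 1 := by rw [hkt, h1, X.S.sq X.hcard X.tE]
  set B := X.S.R ⊓ centralizer ({x, y} : Set ↥Cfsg.Spor.M22) with hB
  have hBmem : ∀ g, g ∈ B ↔ g ∈ X.S.R ∧ Commute g x ∧ Commute g y := fun g => by
    rw [hB, mem_inf, mem_centralizer_iff]
    refine and_congr_right fun _ => ⟨fun h => ⟨(h x (Or.inl rfl)).symm, (h y (Or.inr rfl)).symm⟩, ?_⟩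
    rintro ⟨h1, h2⟩ k (rfl | rfl)
    exacts [h1.eq.symm, h2.eq.symm]
  have hcases : ∀ g ∈ B, ∃ e, (e = 1 ∨ e = X.S.t) ∧ (g = e ∨ g = e * x ∨ g = e * y ∨ g = e * (x * y)) := by
    intro g hg
    obtain ⟨hgR, hgx, hgy⟩ := (hBmem g).1 hg
    obtain ⟨e, he, hc⟩ := X.R_cases hx hy hxE hyE hxy hgR
    refine ⟨e, ?_, hc⟩
    rcases hc with rfl | rfl | rfl | rfl
    · exact X.E_cent_pair hx hy hxE hyE hxy he hgx.symm hgy.symm
    · exact X.E_cent_pair hx hy hxE hyE hxy he (by simpa using hgx.symm.mul_right (Commute.refl x).inv_right)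
        (by simpa using hgy.symm.mul_right hcy.symm.inv_right)
    · exact X.E_cent_pair hx hy hxE hyE hxy he (by simpa using hgx.symm.mul_right hcy.inv_right)
        (by simpa using hgy.symm.mul_right (Commute.refl y).inv_right)
    · exact X.E_cent_pair hx hy hxE hyE hxy he
        (by simpa [mul_assoc] using hgx.symm.mul_right ((Commute.refl x).mul_right hcy).inv_right)
        (by simpa [mul_assoc] using hgy.symm.mul_right (hcy.symm.mul_right (Commute.refl y)).inv_right)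
  have ht2 : X.S.t * X.S.t = 1 := X.S.sq X.hcard X.tE
  have htc : ∀ g ∈ X.S.R, Commute X.S.t g := fun g hg => (X.t_comm_R hg).symm
  refine ⟨B, inf_le_left, ?_, ?_, (hBmem _).2 ⟨X.E_le_R' X.tE, htc x hx, htc y hy⟩, ?_⟩
  · intro g hg
    obtain ⟨e, he, hc⟩ := hcases g hg
    have heR : ∀ k ∈ X.S.R, k * k = 1 → e * k * (e * k) = 1 := fun k hk hk2 => by
      rcases he with rfl | rfl
      · rw [one_mul, hk2]
      · calc X.S.t * k * (X.S.t * k) = X.S.t * (k * X.S.t) * k := by group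
          _ = (X.S.t * X.S.t) * (k * k) := by rw [X.t_comm_R hk]; group
          _ = 1 := by rw [ht2, hk2, one_mul]
    have hxy2 : x * y * (x * y) = 1 := by
      calc x * y * (x * y) = x * (y * x) * y := by group
        _ = (x * x) * (y * y) := by rw [← hcy.eq]; group
        _ = 1 := by rw [hx2, hy2, one_mul]
    rcases hc with rfl | rfl | rfl | rfl
    · simpa using heR 1 (one_mem _) (one_mul 1)
    · exact heR x hx hx2
    · exact heR y hy hy2
    · exact heR _ (mul_mem hx hy) hxy2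
  · have hxB : x ∈ B := (hBmem _).2 ⟨hx, Commute.refl x, hcy⟩
    have hyB : y ∈ B := (hBmem _).2 ⟨hy, hcy.symm, Commute.refl y⟩
    have htB : X.S.t ∈ B := (hBmem _).2 ⟨X.E_le_R' X.tE, htc x hx, htc y hy⟩
    let f : ↥(zpowers X.S.t) × (Bool × Bool) → ↥B := fun q =>
      ⟨(q.1 : ↥Cfsg.Spor.M22) * ((bif q.2.1 then x else 1) * (bif q.2.2 then y else 1)),
        mul_mem (zpowers_le.2 htB q.1.2) (mul_mem (by cases q.2.1 <;> simp [hxB]) (by cases q.2.2 <;> simp [hyB]))⟩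
    have hbij : Function.Bijective f := by
      refine ⟨?_, ?_⟩
      · rintro ⟨a, b⟩ ⟨a', b'⟩ e
        have e' : (a : ↥Cfsg.Spor.M22) * ((bif b.1 then x else 1) * (bif b.2 then y else 1)) =
            a' * ((bif b'.1 then x else 1) * (bif b'.2 then y else 1)) := congrArg Subtype.val e
        set k := (bif b.1 then x else 1) * (bif b.2 then y else 1) with hk
        set k' := (bif b'.1 then x else 1) * (bif b'.2 then y else 1) with hk'
        have hE : k * k'⁻¹ ∈ X.S.E := by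
          rw [show k * k'⁻¹ = (a : ↥Cfsg.Spor.M22)⁻¹ * a' by
            calc k * k'⁻¹ = (a : ↥Cfsg.Spor.M22)⁻¹ * ((a : ↥Cfsg.Spor.M22) * k) * k'⁻¹ := by group
              _ = _ := by rw [e']; group]
          exact mul_mem (inv_mem (zpowers_le.2 X.tE a.2)) (zpowers_le.2 X.tE a'.2)
        have hb : b = b' := by
          have inv' : ∀ {a : ↥Cfsg.Spor.M22}, a ∉ X.S.E → a⁻¹ ∉ X.S.E := fun ha h => ha (by simpa using inv_mem h)
          have hxi : x⁻¹ = x := inv_eq_of_mul_eq_one_right hx2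
          have hyi : y⁻¹ = y := inv_eq_of_mul_eq_one_right hy2
          rcases b with ⟨_ | _, _ | _⟩ <;> rcases b' with ⟨_ | _, _ | _⟩ <;>
            simp only [hk, hk', cond_true, cond_false, mul_one, one_mul, inv_one, mul_inv_rev, hxi, hyi] at hE ⊢
          all_goals exfalso
          all_goals first
            | exact hxE hE
            | exact hyE hE
            | exact hxy hE
            | (rw [← hcy.eq] at hE; exact hxy hE)
            | (rw [show y * (y * x) = x by rw [← mul_assoc, hy2, one_mul]] at hE; exact hxE hE)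
            | (rw [show x * y * y = x by rw [mul_assoc, hy2, mul_one]] at hE; exact hxE hE)
            | (rw [show x * (y * x) = y by rw [← hcy.eq, ← mul_assoc, hx2, one_mul]] at hE; exact hyE hE)
            | (rw [show x * y * x = y by rw [hcy.eq, mul_assoc, hx2, mul_one]] at hE; exact hyE hE)
        subst hb
        exact Prod.ext (Subtype.ext (mul_right_cancel e')) rfl
      · rintro ⟨g, hg⟩
        obtain ⟨e, he, hc⟩ := hcases g hg
        have hez : e ∈ zpowers X.S.t := by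
          rcases he with rfl | rfl
          exacts [one_mem _, mem_zpowers _]
        rcases hc with h | h | h | h
        · exact ⟨(⟨e, hez⟩, (false, false)), Subtype.ext (by simp [f, h])⟩
        · exact ⟨(⟨e, hez⟩, (true, false)), Subtype.ext (by simp [f, h])⟩
        · exact ⟨(⟨e, hez⟩, (false, true)), Subtype.ext (by simp [f, h])⟩
        · exact ⟨(⟨e, hez⟩, (true, true)), Subtype.ext (by simp [f, h])⟩
    rw [← Nat.card_congr (Equiv.ofBijective f hbij), Nat.card_prod, Nat.card_zpowers, X.S.ht]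
    simp
  · intro g hg hgE
    obtain ⟨-, hgx, hgy⟩ := (hBmem g).1 hg
    exact X.E_cent_pair hx hy hxE hyE hxy hgE hgx.symm hgy.symm

/-- Any two are conjugate under `E`. -/
theorem oct_conj {B B' : Subgroup ↥Cfsg.Spor.M22} (h : X.Oct B) (h' : X.Oct B') :
    ∃ f ∈ X.S.E, ∀ g, g ∈ B' ↔ f⁻¹ * g * f ∈ B := by
  obtain ⟨x', hx', y', hy', hx'E, hy'E, hxy'⟩ := h'.exists_pair
  obtain ⟨x, hx, y, hy, hxE, hyE, hxy⟩ := h.exists_pair
  have hpick : ∀ g ∈ X.S.R, ∃ b ∈ B, g * b ∈ X.S.E := fun g hg => by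
    obtain ⟨e, he, hc⟩ := X.R_cases (h.le hx) (h.le hy) hxE hyE hxy hg
    rcases hc with rfl | rfl | rfl | rfl
    · exact ⟨1, one_mem _, by rw [mul_one]; exact he⟩
    · exact ⟨x, hx, by rw [mul_assoc, h.sq x hx, mul_one]; exact he⟩
    · exact ⟨y, hy, by rw [mul_assoc, h.sq y hy, mul_one]; exact he⟩
    · exact ⟨x * y, mul_mem hx hy, by rw [mul_assoc, h.sq _ (mul_mem hx hy), mul_one]; exact he⟩
  obtain ⟨b, hb, hbE⟩ := hpick x' (h'.le hx')
  have hb2 := h.sq b hb
  have hx'2 := h'.sq x' hx'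
  have hbnE : b ∉ X.S.E := fun hbE' => hx'E (by
    have := mul_mem hbE (inv_mem hbE')
    simpa using this)
  have he2 := X.S.sq X.hcard hbE
  have hcom : Commute b (x' * b) := by
    have hx'i : x'⁻¹ = x' := inv_eq_of_mul_eq_one_right hx'2
    have hbi : b⁻¹ = b := inv_eq_of_mul_eq_one_right hb2
    have h1 : x' * b = b * x' := by
      calc x' * b = (x' * b)⁻¹ := eq_inv_of_mul_eq_one_left he2
        _ = b * x' := by rw [mul_inv_rev, hx'i, hbi]
    show b * (x' * b) = x' * b * b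
    rw [← mul_assoc, ← h1]
  obtain ⟨f, hf, hfc⟩ := (X.shift (h.le hb) hbnE).2 _ hbE hcom
  have hfi : f⁻¹ = f := inv_eq_of_mul_eq_one_right (X.S.sq X.hcard hf)
  have hfx : f⁻¹ * x' * f = b := by
    have e1 : x' = f * b * f⁻¹ := by
      calc x' = x' * b * b := by rw [mul_assoc, hb2, mul_one]
        _ = f * (b * f * b⁻¹) * b := by rw [← hfc]
        _ = f * b * f⁻¹ := by rw [hfi]; group
    rw [e1]
    group
  refine ⟨f, hf, fun g => ?_⟩
  have hmv : ∀ g ∈ X.S.R, f⁻¹ * g * f ∈ X.S.R := fun g hg =>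
    mul_mem (mul_mem (inv_mem (X.E_le_R' hf)) hg) (X.E_le_R' hf)
  set y1 := f⁻¹ * y' * f with hy1
  have hy1R := hmv _ (h'.le hy')
  obtain ⟨b', hb', hb'E⟩ := hpick y1 hy1R
  have hy1E : y1 ∉ X.S.E := fun hE => hy'E (by
    have := mul_mem (mul_mem hf hE) (inv_mem hf)
    rwa [show f * y1 * f⁻¹ = y' by rw [hy1]; group] at this)
  have hby1 : b * y1 ∉ X.S.E := fun hE => hxy' (by
    have := mul_mem (mul_mem hf hE) (inv_mem hf)
    rwa [show f * (b * y1) * f⁻¹ = x' * y' by rw [hy1, ← hfx]; group] at this)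
  have hy1B : y1 ∈ B := by
    have hb'nE : b' ∉ X.S.E := fun hE => hy1E (by simpa using mul_mem hb'E (inv_mem hE))
    have hbb'E : b * b' ∉ X.S.E := fun hE => hby1 (by
      have hb'2 := h.sq b' hb'
      have := mul_mem (M22Order.conj_mem_of_mem_normalizer (X.R_le_NS (h.le hb)) hb'E) hE
      rwa [show b * (y1 * b') * b⁻¹ * (b * b') = b * y1 * (b' * b') by group, hb'2, mul_one] at this)
    have hyb : Commute y1 b := by
      have := M22Order.commute_conj f⁻¹ (show Commute y' x' from h'.comm hy' hx')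
      rwa [inv_inv, hfx] at this
    have hy1b' : Commute y1 b' := by
      have hy12 : y1 * y1 = 1 := by
        rw [hy1, show f⁻¹ * y' * f * (f⁻¹ * y' * f) = f⁻¹ * (y' * y') * f by group, h'.sq y' hy']
        group
      calc y1 * b' = (y1 * b')⁻¹ := eq_inv_of_mul_eq_one_left (X.S.sq X.hcard hb'E)
        _ = b' * y1 := by
          rw [mul_inv_rev, inv_eq_of_mul_eq_one_right (h.sq b' hb'), inv_eq_of_mul_eq_one_right hy12]
    exact h.mem_of_comm hb hb' hbnE hb'nE hbb'E hy1R hyb hy1b'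
  constructor
  · intro hg
    refine h.mem_of_comm hb hy1B hbnE hy1E hby1 (hmv g (h'.le hg)) ?_ ?_
    · have := M22Order.commute_conj f⁻¹ (show Commute g x' from h'.comm hg hx')
      rwa [inv_inv, hfx] at this
    · have := M22Order.commute_conj f⁻¹ (show Commute g y' from h'.comm hg hy')
      rwa [inv_inv, ← hy1] at this
  · intro hg
    have hgR : g ∈ X.S.R := by
      have := mul_mem (mul_mem (X.E_le_R' hf) (h.le hg)) (inv_mem (X.E_le_R' hf))
      rwa [show f * (f⁻¹ * g * f) * f⁻¹ = g by group] at this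
    refine h'.mem_of_comm hx' hy' hx'E hy'E hxy' hgR ?_ ?_
    · have := M22Order.commute_conj f (show Commute (f⁻¹ * g * f) b from h.comm hg hb)
      rwa [show f * (f⁻¹ * g * f) * f⁻¹ = g by group, show f * b * f⁻¹ = x' by rw [← hfx]; group] at this
    · have := M22Order.commute_conj f (show Commute (f⁻¹ * g * f) y1 from h.comm hg hy1B)
      rwa [show f * (f⁻¹ * g * f) * f⁻¹ = g by group, show f * y1 * f⁻¹ = y' by rw [hy1]; group] at this

end Cfsg.Agent.J4Eleven.Chart
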