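/-!
# The translations of an octad of the length 24 code, and symmetries fixing two further points
-/

set_option autoImplicit false

namespace Cfsg.Agent.J4Ten

/-- The sixteen translations, numbered additively. -/
def rTabs : List Nat :=
  [984818244535754528103549039458486304,
   479663310730678034207776437455390752,
   651239579074641248992907580101724192,
   561475773312554808336860583768983584,
   944319304547998642267612847938832416,
   720981692062171673584743151055243296,
   892716570080838209712931004353710112,
   681942991418186671700734416290678816,
   268195153026948482477577069584812064,
   220213109803259289183002082616117280,
   772944516003414818434737759861180448,
   358662142733855540651195105552730144,
   590072960059042287979885064796342304,
   380679813245078647833929983948064800,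
   812852730107173232200347929486133280,
   841384528646309054241536335100872736]

/-- Even subsets of the octad for the six planes. -/
def sList : List Nat := [141, 1155, 1045, 1172, 30, 153]

/-- An element of order seven fixing the octad and two points outside. -/
def seven : Nat := 925059684996764782931469360733171747

/-- Elements fixing the octad and a point outside, moving a second one to each of the fifteen others. -/
def moveTabs : List Nat :=
  [765395140277275738979691051073276295,
   487452595066504927412638565853659178,
   362952004586901680902256627011325058,
   485013803660063846638608548045762690,
   815663974739827811076331146074785793,
   638218034431630372428871711206746241,
   392486786531068652072477833266562432,
   344909474333448763274952210114643267,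
   399144687085120624973516057912377666,
   935078247955075683044690313791711332,
   944372265983626502821045055701520611,
   691333803930055603956402889374662978,
   723784453768338145716420990147234119,
   646976763719740082584927276357789921,
   392722736854374955328958511708147948]

end Cfsg.Agent.J4Ten
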