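import Cfsg.Agent.Lib.J4Ten.Stab
import Cfsg.Agent.Lib.J4V.Orbits

/-!
# Janko four type: the parts of the subgroup of order `2 ^ 10` under the normaliser in `H`

A set invariant under that normaliser meets the subgroup in a number determined by four truth values and a
multiple of 42.
-/

set_option autoImplicit false
set_option linter.style.haveILetI false
set_option linter.unusedSectionVars false

namespace Cfsg.Agent.J4Eleven.Chart

open Subgroup
open Cfsg.Agent.J4Local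
open Cfsg.Agent.M22Order (Setup)

universe u

variable {G : Type u} [Group G] [Finite G] {z : G} {P : Subgroup G} {X : Chart z P}
  {B : Subgroup ↥Cfsg.Spor.M22}

/-- Invariance under the normaliser in `H`. -/
def Oct.Inv (h : X.Oct B) (Q : G → Prop) : Prop :=
  ∀ n ∈ normalizer (h.ten : Set G) ⊓ HH z, ∀ a ∈ h.ten, Q (n * a * n⁻¹) ↔ Q a

theorem Oct.EE_mem_K (h : X.Oct B) {e : G} (he : e ∈ EE z) : e ∈ normalizer (h.ten : Set G) ⊓ HH z :=
  ⟨h.EE_normalizes he, EE_le_HH z he⟩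

theorem Oct.CC_mem_K (h : X.Oct B) {d : G} (hd : d ∈ CC z P)
    (hn : X.π ⟨d, hd⟩ ∈ normalizer (B : Set ↥Cfsg.Spor.M22)) : d ∈ normalizer (h.ten : Set G) ⊓ HH z :=
  ⟨(h.mem_normalizer_CC hd).2 hn, hd.1⟩

theorem Oct.P_mem_K (h : X.Oct B) {q : G} (hq : q ∈ P) : q ∈ normalizer (h.ten : Set G) ⊓ HH z :=
  h.CC_mem_K (X.L.J.P_le_CC hq) (by rw [X.act_P q hq]; exact one_mem _)

theorem Oct.preV_mul_z (h : X.Oct B) {y : G} (hy : y ∈ preV X.L.J (X.WW h)) : y * z ∈ preV X.L.J (X.WW h) :=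
  mul_mem hy ⟨X.z_mem_EE, by rw [vk_z X.L.J]; exact zero_mem _⟩

section Coset

variable (h : X.Oct B) {c : G} (hc : c ∈ X.lft h.sq) {Q : G → Prop} (hQ : h.Inv Q)

include hc hQ

/-- On the range the coset has one vector of each kind over each point. -/
theorem Oct.coset_on {y : G} (hy : y ∈ preV X.L.J (X.WW h)) (hyR : vk z y ∈ (nil z c).range) :
    (Q (c * y) ↔ Q c) ∧ (Q (c * (y * z)) ↔ Q (c * z)) ∨ (Q (c * y) ↔ Q (c * z)) ∧ (Q (c * (y * z)) ↔ Q c) := by
  have hJ := X.L.J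
  obtain ⟨w, hw⟩ := hyR
  obtain ⟨e, he, rfl⟩ := vk_surj w
  obtain ⟨hy'W, hv⟩ := h.lift_conj hc he
  set y' := e * c * e⁻¹ * c⁻¹ with hy'
  have hconj : e * c * e⁻¹ = c * y' := by
    rw [h.lft_preV_comm hc hy'W, hy']
    group
  have heK := h.EE_mem_K he
  have h1 : Q (c * y') ↔ Q c := hconj ▸ hQ e heK c (h.lft_le_ten hc)
  have h2 : Q (c * (y' * z)) ↔ Q (c * z) := by
    have := hQ e heK (c * z) (mul_mem (h.lft_le_ten hc) h.z_mem_ten)
    rwa [show e * (c * z) * e⁻¹ = e * c * e⁻¹ * (e * z * e⁻¹) by group, mem_HH.1 (EE_le_HH z he),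
      mul_inv_cancel_right, hconj, mul_assoc] at this
  rcases (vk_eq_vk_iff hJ hy.1 hy'W.1).1 (hw.symm.trans hv.symm) with e1 | e1
  · exact Or.inl (e1.symm ▸ ⟨h1, h2⟩)
  · refine Or.inr ⟨e1.symm ▸ h2, ?_⟩
    rw [e1, mul_assoc y', X.zz, mul_one]
    exact h1

/-- Off the range the coset is one class. -/
theorem Oct.coset_off (hcE : c ∉ EE z) {y y' : G} (hy : y ∈ preV X.L.J (X.WW h))
    (hy' : y' ∈ preV X.L.J (X.WW h)) (hyR : vk z y ∉ (nil z c).range) (hyR' : vk z y' ∉ (nil z c).range) :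
    Q (c * y) ↔ Q (c * y') := by
  classical
  have hJ := X.L.J
  have hcH := hc.1.1
  have hc0 : c ∈ H0 z P := CC_le_H0 z P hc.1
  have hself := h.WW_spec.2.1
  have hRW : (nil z c).range ≤ X.WW h := by
    rintro _ ⟨v, rfl⟩
    exact X.nil_mem_self hself hcH (fun w hw => hw c hc) v
  have hRP : ∀ x ∈ (nil z c).range, act z X.pp x ∈ (nil z c).range := by
    rintro _ ⟨v, rfl⟩
    exact ⟨act z X.pp v, nil_comm hJ hc0 X.pp_mem v⟩
  have hR16 : Nat.card (nil z c).range = 16 :=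
    (card_range_inner X.L hc0 hcE (by rw [hc.2.2]; exact one_mem _)).trans (by norm_num)
  set r := vk z y with hr
  have hr0 : r ≠ 0 := fun e => hyR (e ▸ zero_mem _)
  let f : ↥(X.ln r) × ↥(nil z c).range → ↥(X.WW h) := fun q =>
    ⟨(q.1 : VV z) + q.2, add_mem (X.ln_le (fun x hx => h.WW_act_P X.pp_mem hx) hy.2 q.1.2) (hRW q.2.2)⟩
  have hinj : Function.Injective f := by
    rintro ⟨a, b⟩ ⟨a', b'⟩ e
    have e' : (a : VV z) + b = a' + b' := congrArg Subtype.val e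
    have h1 : (a : VV z) + a' = b + b' := VV.eq_of_add hJ (by
      calc (a : VV z) + a' + (b + b') = (a + b) + (a' + b') := by abel
        _ = 0 := by rw [e', VV.two hJ])
    have hzero : (a : VV z) + a' = 0 := by
      by_contra h0
      refine hyR ?_
      have hle : X.ln ((a : VV z) + a') ≤ (nil z c).range := X.ln_le hRP (h1 ▸ add_mem b.2 b'.2)
      rw [X.ln_eq (add_mem a.2 a'.2) h0] at hle
      exact hle (self_mem_line _ _ _)
    exact Prod.ext (Subtype.ext (VV.eq_of_add hJ hzero)) (Subtype.ext (VV.eq_of_add hJ (h1 ▸ hzero)))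
  obtain ⟨⟨⟨a, ha⟩, ⟨s, hs⟩⟩, hf⟩ := ((Nat.bijective_iff_injective_and_card f).2 ⟨hinj, by
    rw [Nat.card_prod, X.card_ln hr0, hR16, h.WW_spec.1]⟩).2 ⟨vk z y', hy'.2⟩
  have hf' : a + s = vk z y' := congrArg Subtype.val hf
  have ha0 : a ≠ 0 := fun e => hyR' (by rw [← hf', e, zero_add]; exact hs)
  obtain ⟨q, hq, hqa⟩ := X.exists_P_of_mem_ln ha ha0
  have hcy : ∀ {v : G}, v ∈ preV X.L.J (X.WW h) → c * v ∈ h.ten := fun hv =>
    mul_mem (h.lft_le_ten hc) (h.preV_le_ten hv)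
  -- first move by `P`
  have hqH := hJ.P_le_HH hq
  set y1 := q * y * q⁻¹ with hy1
  have hy1E : y1 ∈ EE z := conj_mem_EE hqH hy.1
  have hy1v : vk z y1 = a := by rw [hy1, ← act_vk hqH hy.1, hqa]
  have hy1W : y1 ∈ preV hJ (X.WW h) := ⟨hy1E, by
    rw [hy1v]; exact X.ln_le (fun x hx => h.WW_act_P X.pp_mem hx) hy.2 ha⟩
  have step1 : Q (c * y1) ↔ Q (c * y) := by
    have := hQ q (h.P_mem_K hq) (c * y) (hcy hy)
    rwa [show q * (c * y) * q⁻¹ = (q * c) * y * q⁻¹ by group, ← commute_CC_P hc.1 hq,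
      show c * q * y * q⁻¹ = c * (q * y * q⁻¹) by group, ← hy1] at this
  -- then by `E`
  obtain ⟨w, hw⟩ := hs
  obtain ⟨e0, he0, rfl⟩ := vk_surj w
  obtain ⟨hy0W, h2⟩ := h.lift_conj hc he0
  set y0 := e0 * c * e0⁻¹ * c⁻¹ with hy0
  have hy2E : e0 * y1 * e0⁻¹ ∈ EE z := conj_mem_EE (EE_le_HH z he0) hy1E
  have hconj : e0 * (c * y1) * e0⁻¹ = c * (y0 * (e0 * y1 * e0⁻¹)) := by
    rw [← mul_assoc c y0, h.lft_preV_comm hc hy0W, hy0]
    group
  set y2 := y0 * (e0 * y1 * e0⁻¹) with hy2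
  have hv2 : vk z y2 = vk z y' := by
    rw [hy2, vk_mul hy0W.1 hy2E, h2, hw, ← act_vk (EE_le_HH z he0) hy1E, act_EE hJ he0, hy1v, ← hf', add_comm]
  have hy2m : y2 ∈ EE z := mul_mem hy0W.1 hy2E
  have hy2W : y2 ∈ preV hJ (X.WW h) := ⟨hy2m, hv2 ▸ hy'.2⟩
  have step2 : Q (c * y2) ↔ Q (c * y1) := hconj ▸ hQ e0 (h.EE_mem_K he0) (c * y1) (hcy hy1W)
  rcases (vk_eq_vk_iff hJ hy'.1 hy2m).1 hv2.symm with e1 | e1
  · rw [e1]; exact (step2.trans step1).symm
  -- fix the sign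
  obtain ⟨v, hv, hv1⟩ : ∃ v ∈ (nil z c).ker, BB z (vk z y2) v = 1 := by
    by_contra hcon
    push Not at hcon
    refine hyR' ?_
    rw [← hv2, X.range_eq_perp_ker hcH]
    intro v hv
    have h2' : ∀ a : ZMod 2, a ≠ 1 → a = 0 := by decide
    exact h2' _ (hcon v hv)
  obtain ⟨e2, he2, rfl⟩ := vk_surj v
  rw [BB_vk hJ hy2m he2, cm_comm] at hv1
  have step3 : Q (c * y') ↔ Q (c * y2) := by
    have hcom := fixed_of_CC hJ hc.1 he2 ((mem_ker_nil hJ).1 hv)
    have := hQ e2 (h.EE_mem_K he2) (c * y2) (hcy hy2W)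
    rwa [show e2 * (c * y2) * e2⁻¹ = e2 * c * (y2 * e2⁻¹) by group, ← hcom,
      show c * e2 * (y2 * e2⁻¹) = c * (e2 * y2 * e2⁻¹) by group, X.conj_z_of_cm he2 hy2m hv1, ← e1] at this
  exact ((step3.trans step2).trans step1).symm

open _root_.Classical in
/-- The count in a coset. -/
theorem Oct.coset_count (hcE : c ∉ EE z) {y0 : G} (hy0 : y0 ∈ preV X.L.J (X.WW h))
    (hy0R : vk z y0 ∉ (nil z c).range) :
    {y | y ∈ preV X.L.J (X.WW h) ∧ Q (c * y)}.ncard =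
      (if Q c then 16 else 0) + (if Q (c * z) then 16 else 0) + (if Q (c * y0) then 96 else 0) := by
  have hJ := X.L.J
  have hcH := hc.1.1
  have hR16 : Nat.card (nil z c).range = 16 :=
    (card_range_inner X.L (CC_le_H0 z P hc.1) hcE (by rw [hc.2.2]; exact one_mem _)).trans (by norm_num)
  have hRW : (nil z c).range ≤ X.WW h := by
    rintro _ ⟨v, rfl⟩
    exact X.nil_mem_self h.WW_spec.2.1 hcH (fun w hw => hw c hc) v
  set R := preV hJ (nil z c).range with hR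
  have hRle : R ≤ preV hJ (X.WW h) := fun y hy => ⟨hy.1, hRW hy.2⟩
  have hR32 : (R : Set G).ncard = 32 := by
    rw [← Nat.card_coe_set_eq, SetLike.coe_sort_coe, card_preV, hR16]
  have hoff : {y | y ∈ preV hJ (X.WW h) ∧ Q (c * y) ∧ y ∉ R}.ncard = if Q (c * y0) then 96 else 0 := by
    split_ifs with hq
    · rw [show {y | y ∈ preV hJ (X.WW h) ∧ Q (c * y) ∧ y ∉ R} = (preV hJ (X.WW h) : Set G) \ R from ?_,
        Set.ncard_sdiff hRle, hR32, ← Nat.card_coe_set_eq, SetLike.coe_sort_coe, card_preV, h.WW_spec.1]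
      ext y
      exact ⟨fun hy => ⟨hy.1, hy.2.2⟩,
        fun hy => ⟨hy.1, (h.coset_off hc hQ hcE hy0 hy.1 hy0R fun e => hy.2 ⟨hy.1.1, e⟩).1 hq, hy.2⟩⟩
    · rw [Set.ncard_eq_zero, Set.eq_empty_iff_forall_notMem]
      rintro y ⟨hy, hyQ, hyR⟩
      exact hq ((h.coset_off hc hQ hcE hy0 hy hy0R fun e => hyR ⟨hy.1, e⟩).2 hyQ)
  have hon : {y | y ∈ preV hJ (X.WW h) ∧ Q (c * y) ∧ y ∈ R}.ncard =
      (if Q c then 16 else 0) + (if Q (c * z) then 16 else 0) := by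
    set S := {y | y ∈ preV hJ (X.WW h) ∧ Q (c * y) ∧ y ∈ R} with hS
    have hne : ∀ y : G, y * z ≠ y := fun y e => hJ.ctr.ne_one (mul_eq_left.1 e)
    have hzR : ∀ {y : G}, y ∈ R → y * z ∈ R := fun hy =>
      mul_mem hy ⟨X.z_mem_EE, by rw [vk_z hJ]; exact zero_mem _⟩
    by_cases h1 : Q c <;> by_cases h2 : Q (c * z) <;> simp only [h1, h2, if_true, if_false]
    · rw [show S = (R : Set G) from ?_, hR32]
      refine Set.ext fun y => ⟨fun hy => hy.2.2, fun hy => ⟨hRle hy, ?_, hy⟩⟩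
      rcases h.coset_on hc hQ (hRle hy) hy.2 with ⟨e, -⟩ | ⟨e, -⟩
      exacts [e.2 h1, e.2 h2]
    all_goals
      first
        | (rw [Set.ncard_eq_zero, Set.eq_empty_iff_forall_notMem]
           rintro y ⟨hy, hyQ, hyR⟩
           rcases h.coset_on hc hQ hy hyR.2 with ⟨e, -⟩ | ⟨e, -⟩
           exacts [h1 (e.1 hyQ), h2 (e.1 hyQ)])
        | (have hd : Disjoint S ((fun y => y * z) '' S) := by
             refine Set.disjoint_left.2 ?_
             rintro _ hy ⟨y, hy', rfl⟩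
             rcases h.coset_on hc hQ hy'.1 hy'.2.2.2 with ⟨ea, eb⟩ | ⟨ea, eb⟩
             all_goals first
               | exact h2 (eb.1 hy.2.1)
               | exact h2 (ea.1 hy'.2.1)
               | exact h1 (eb.1 hy.2.1)
               | exact h1 (ea.1 hy'.2.1)
           have hu : S ∪ (fun y => y * z) '' S = (R : Set G) := by
             refine Set.Subset.antisymm (Set.union_subset (fun y hy => hy.2.2) ?_) fun y hy => ?_
             · rintro _ ⟨y, hy, rfl⟩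
               exact hzR hy.2.2
             have hyy : y * z * z = y := by rw [mul_assoc, X.zz, mul_one]
             rcases h.coset_on hc hQ (hRle hy) hy.2 with ⟨ea, eb⟩ | ⟨ea, eb⟩
             all_goals first
               | exact Or.inl ⟨hRle hy, ea.2 h1, hy⟩
               | exact Or.inl ⟨hRle hy, ea.2 h2, hy⟩
               | exact Or.inr ⟨y * z, ⟨hRle (hzR hy), eb.2 h1, hzR hy⟩, hyy⟩
               | exact Or.inr ⟨y * z, ⟨hRle (hzR hy), eb.2 h2, hzR hy⟩, hyy⟩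
           have hn := Set.ncard_union_eq hd
           rw [hu, hR32, Set.ncard_image_of_injective _ (mul_left_injective z)] at hn
           omega)
  rw [← hon, ← hoff, ← Set.ncard_union_eq (Set.disjoint_left.2 fun y hy hy' => hy'.2.2 hy.2.2)]
  congr 1
  ext y
  simp only [Set.mem_union, Set.mem_setOf_eq]
  tauto

end Coset

theorem Oct.exists_seven (h : X.Oct B) : ∃ d ∈ CC z P, d ∈ normalizer (h.ten : Set G) ∧ d ^ 7 = 1 ∧
    ∀ w ∈ X.WW h, act z d w = w → w = 0 := by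
  classical
  have hJ := X.L.J
  haveI : Fact (Nat.Prime 7) := ⟨by norm_num⟩
  set NB := normalizer (B : Set ↥Cfsg.Spor.M22) with hNB
  obtain ⟨⟨g, hg⟩, hg7⟩ := exists_prime_orderOf_dvd_card' (G := ↥NB) 7 (by rw [h.card_normalizer_B]; norm_num)
  rw [Subgroup.orderOf_mk] at hg7
  obtain ⟨⟨d, hd⟩, e⟩ := X.surj g
  have hg' : g ^ 7 = 1 := hg7 ▸ pow_orderOf_eq_one g
  have h36 : X.π ⟨d ^ 36, pow_mem hd _⟩ = g := by
    rw [show (⟨d ^ 36, pow_mem hd _⟩ : ↥(CC z P)) = ⟨d, hd⟩ ^ 36 from rfl, map_pow, e,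
      show 36 = 7 * 5 + 1 from rfl, pow_succ, pow_mul, hg', one_pow, one_mul]
  have hd7 : (d ^ 36) ^ 7 = 1 := by
    have hk : d ^ 7 ∈ P ⊔ zpowers z := (X.mem_ker_iff (⟨d, hd⟩ ^ 7)).1 (by rw [map_pow, e, hg'])
    have h3 := six_cube hJ hk
    rw [← pow_mul, show 36 * 7 = 7 * 3 * 2 * 6 from rfl, pow_mul, pow_mul, pow_mul, pow_two,
      X.sq_of_zpowers h3, one_pow]
  set d' := d ^ 36 with hd'
  have hdC : d' ∈ CC z P := pow_mem hd _
  have hdN : d' ∈ normalizer (h.ten : Set G) := (h.mem_normalizer_CC hdC).2 (h36 ▸ hg)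
  refine ⟨d', hdC, hdN, hd7, ?_⟩
  intro w₀ hw₀ hfix₀
  by_contra hw₀0
  -- the fixed space is invariant under `P`, so all of the space
  set F : AddSubgroup (VV z) := X.WW h ⊓ (nil z d').ker with hF
  have hFP : ∀ v ∈ F, act z X.pp v ∈ F := fun v hv => ⟨h.WW_act_P X.pp_mem hv.1, (mem_ker_nil hJ).2 (by
    rw [act_inner hJ (CC_le_H0 z P hdC) X.pp_mem, (mem_ker_nil hJ).1 hv.2])⟩
  obtain ⟨k, hk6, hk⟩ := card_invariant hJ X.pp_mem X.pp_ne hFP
  have hWinv : ∀ v ∈ X.WW h, act z d' v ∈ X.WW h := by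
    intro v hv c hc
    have hT : d'⁻¹ * c * d' ∈ h.ten := by
      simpa using M22Order.conj_mem_of_mem_normalizer (inv_mem hdN) (h.lft_le_ten hc)
    have hcc : d'⁻¹ * c * d' ∈ X.lft h.sq := by
      have hcC : d'⁻¹ * c * d' ∈ CC z P := mul_mem (mul_mem (inv_mem hdC) hc.1) hdC
      refine ⟨hcC, ?_, h.ten_sq _ hT⟩
      rw [← X.psi_CC hcC (CC_le_H0 z P hcC)]
      exact h.psi_ten hT _
    have h2 := act_conj hdC.1 (X.lft_le_HH h.sq hcc) v
    rwa [show d' * (d'⁻¹ * c * d') * d'⁻¹ = c by group, hv _ hcc] at h2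
  have hfree : 7 ∣ ((X.WW h : Set (VV z)) \ F).ncard := by
    haveI : Fintype ↥((X.WW h : Set (VV z)) \ F) := Fintype.ofFinite _
    let f : Function.End ↥((X.WW h : Set (VV z)) \ F) := fun v => ⟨act z d' v, hWinv v v.2.1, fun hv => v.2.2 ⟨v.2.1, by
      refine (mem_ker_nil hJ).2 (act_injective hdC.1 ?_)
      exact (mem_ker_nil hJ).1 hv.2⟩⟩
    have hf : f ^ 7 ^ 1 = 1 := by
      funext v
      refine Subtype.ext ?_
      have key : ∀ m : ℕ, ((f ^ m) v : VV z) = act z (d' ^ m) v := fun m => by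
        induction m with
        | zero => rw [pow_zero, pow_zero, act_one]; rfl
        | succ m ih =>
          rw [pow_succ', pow_succ', act_mul hdC.1 (pow_mem hdC.1 m), ← ih]
          rfl
      rw [key, pow_one, hd7, act_one]
      rfl
    have hm := Equiv.Perm.card_fixedPoints_modEq hf
    have hfix : Fintype.card ↑(Function.fixedPoints f) = 0 := by
      rw [Fintype.card_eq_zero_iff]
      refine ⟨fun v => v.1.2.2 ⟨v.1.2.1, (mem_ker_nil hJ).2 (congrArg Subtype.val v.2)⟩⟩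
    rw [hfix, ← Nat.card_eq_fintype_card, Nat.card_coe_set_eq] at hm
    exact Nat.modEq_zero_iff_dvd.1 hm
  have hFle : F ≤ X.WW h := inf_le_left
  have h2F : 2 ≤ Nat.card F := by
    have : Nontrivial ↥F :=
      ⟨⟨⟨w₀, hw₀, (mem_ker_nil hJ).2 hfix₀⟩, 0, fun e => hw₀0 (congrArg Subtype.val e)⟩⟩
    exact Finite.one_lt_card_iff_nontrivial.2 this
  have hF64 := AddSubgroup.card_le_of_le hFle
  rw [h.WW_spec.1] at hF64
  rw [Set.ncard_sdiff hFle, ← Nat.card_coe_set_eq, ← Nat.card_coe_set_eq, SetLike.coe_sort_coe,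
    SetLike.coe_sort_coe, h.WW_spec.1, hk] at hfree
  rw [hk] at hF64 h2F
  have hk3 : k = 3 := by
    have : k ≤ 3 := by
      by_contra hgt
      have : 4 ^ 4 ≤ 4 ^ k := Nat.pow_le_pow_right (by norm_num) (by omega)
      omega
    interval_cases k <;> omega
  have eF : F = X.WW h := AddSubgroup.eq_of_le_of_card_ge hFle (by rw [hk, hk3, h.WW_spec.1]; norm_num)
  have hall : ∀ w ∈ X.WW h, act z d' w = w := fun w hw => (mem_ker_nil hJ).1 (eF.symm.le hw).2
  have hct : Commute (X.π ⟨d', hdC⟩) X.S.t := by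
    rw [← X.lf_pi X.tE]
    exact X.pi_comm hdC X.ct_CC
      (X.act_comm_of_fix h.WW_spec.2.1 hdC.1 X.ct_CC.1 hall fun w hw => hw _ h.lf_mem)
  have hgB : g ∈ B := h36 ▸ h.mem_of_fix hdC hall hct
  have := orderOf_dvd_of_pow_eq_one (show g ^ 2 = 1 by rw [pow_two]; exact h.sq g hgB)
  rw [hg7] at this
  norm_num at this

open _root_.Classical in
/-- A set invariant under the normaliser in `H` meets the intersection with `E` in a multiple of 42 off `⟨z⟩`. -/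
theorem Oct.count_EE (h : X.Oct B) {Q : G → Prop} (hQ : h.Inv Q) :
    ∃ i ≤ 3, {y | y ∈ preV X.L.J (X.WW h) ∧ vk z y ≠ 0 ∧ Q y}.ncard = 42 * i := by
  have hJ := X.L.J
  haveI := Fintype.ofFinite (VV z)
  set ZW : Set (VV z) := {w | w ∈ X.WW h ∧ w ≠ 0 ∧ Q (rep z w)} with hZW
  have hflip : ∀ {y : G}, y ∈ preV hJ (X.WW h) → vk z y ≠ 0 → (Q (y * z) ↔ Q y) := fun {y} hy h0 => by
    obtain ⟨e, he, ee⟩ := X.exists_flip hy.1 h0
    exact ee ▸ hQ e (h.EE_mem_K he) y (h.preV_le_ten hy)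
  have hrep : ∀ {y : G}, y ∈ preV hJ (X.WW h) → vk z y ≠ 0 → (Q (rep z (vk z y)) ↔ Q y) := fun {y} hy h0 => by
    rcases (vk_eq_vk_iff hJ (rep_mem (vk z y)) hy.1).1 (vk_rep _) with e | e
    · rw [e]
    · rw [e]; exact hflip hy h0
  obtain ⟨d, hd, hdN, hd7, hdfree⟩ := h.exists_seven
  have hinv : ∀ n, n ∈ normalizer (h.ten : Set G) → n ∈ CC z P → (∀ w ∈ X.WW h, act z n w ∈ X.WW h) →
      ∀ w ∈ ZW, act z n w ∈ ZW := by
    rintro n hn hnC hnW w ⟨hw, hw0, hwQ⟩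
    have hy : rep z w ∈ preV hJ (X.WW h) := ⟨rep_mem w, by rw [vk_rep]; exact hw⟩
    have h0 : act z n w ≠ 0 := fun e => hw0 (act_injective hnC.1 (e.trans (map_zero _).symm))
    have hv : vk z (n * rep z w * n⁻¹) = act z n w := by rw [← act_vk hnC.1 (rep_mem w), vk_rep]
    have hy' : n * rep z w * n⁻¹ ∈ preV hJ (X.WW h) :=
      ⟨conj_mem_EE hnC.1 (rep_mem w), by rw [hv]; exact hnW w hw⟩
    refine ⟨hnW w hw, h0, ?_⟩
    have := hrep hy' (by rw [hv]; exact h0)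
    rw [hv] at this
    exact this.2 ((hQ n ⟨hn, hnC.1⟩ _ (h.preV_le_ten hy)).2 hwQ)
  have hWd : ∀ w ∈ X.WW h, act z d w ∈ X.WW h := by
    intro w hw
    obtain ⟨x, hx, rfl⟩ := vk_surj w
    have hm : d * x * d⁻¹ ∈ h.ten :=
      M22Order.conj_mem_of_mem_normalizer hdN (h.preV_le_ten ⟨hx, hw⟩)
    rw [act_vk hd.1 hx]
    exact (h.ten_inf_EE hm (conj_mem_EE hd.1 hx)).2
  have h3 : 3 ∣ ZW.ncard := by
    have h := X.three_dvd_card ZW.toFinset (by simp [hZW]) (fun w hw => by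
      rw [Set.mem_toFinset] at hw ⊢
      exact hinv X.pp (h.P_mem_K X.pp_mem).1 (X.L.J.P_le_CC X.pp_mem) (fun _ hv => h.WW_act_P X.pp_mem hv) w hw)
    rwa [← Set.ncard_eq_toFinset_card'] at h
  have h7 : 7 ∣ ZW.ncard := by
    haveI : Fact (Nat.Prime 7) := ⟨by norm_num⟩
    haveI : Fintype ↥ZW := Fintype.ofFinite _
    let f : Function.End ↥ZW := fun v => ⟨act z d v, hinv d hdN hd hWd v v.2⟩
    have hf : f ^ 7 ^ 1 = 1 := by
      funext v
      refine Subtype.ext ?_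
      have key : ∀ m : ℕ, ((f ^ m) v : VV z) = act z (d ^ m) v := fun m => by
        induction m with
        | zero => rw [pow_zero, pow_zero, act_one]; rfl
        | succ m ih =>
          rw [pow_succ', pow_succ', act_mul hd.1 (pow_mem hd.1 m), ← ih]
          rfl
      rw [key, pow_one, hd7, act_one]
      rfl
    have hm := Equiv.Perm.card_fixedPoints_modEq hf
    have hfix : Fintype.card ↑(Function.fixedPoints f) = 0 := by
      rw [Fintype.card_eq_zero_iff]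
      exact ⟨fun v => v.1.2.2.1 (hdfree _ v.1.2.1 (congrArg Subtype.val v.2))⟩
    rw [hfix, ← Nat.card_eq_fintype_card, Nat.card_coe_set_eq] at hm
    exact Nat.modEq_zero_iff_dvd.1 hm
  have h63 : ZW.ncard ≤ 63 := by
    refine (Set.ncard_le_ncard (t := (X.WW h : Set (VV z)) \ {0}) fun w hw => ⟨hw.1, hw.2.1⟩).trans ?_
    rw [Set.ncard_sdiff_singleton_of_mem (zero_mem _), ← Nat.card_coe_set_eq, SetLike.coe_sort_coe, h.WW_spec.1]
  obtain ⟨i, hi⟩ : 21 ∣ ZW.ncard := Nat.Coprime.mul_dvd_of_dvd_of_dvd (by norm_num : Nat.Coprime 3 7) h3 h7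
  refine ⟨i, by omega, ?_⟩
  have hsplit : {y | y ∈ preV hJ (X.WW h) ∧ vk z y ≠ 0 ∧ Q y} = rep z '' ZW ∪ (fun w => rep z w * z) '' ZW := by
    ext y
    constructor
    · rintro ⟨hy, h0, hyQ⟩
      have hm : vk z y ∈ ZW := ⟨hy.2, h0, (hrep hy h0).2 hyQ⟩
      rcases (vk_eq_vk_iff hJ hy.1 (rep_mem (vk z y))).1 (vk_rep _).symm with e | e
      exacts [Or.inl ⟨_, hm, e.symm⟩, Or.inr ⟨_, hm, e.symm⟩]
    · rintro (⟨w, ⟨hw, hw0, hwQ⟩, rfl⟩ | ⟨w, ⟨hw, hw0, hwQ⟩, rfl⟩)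
      all_goals have hy : rep z w ∈ preV hJ (X.WW h) := ⟨rep_mem w, by rw [vk_rep]; exact hw⟩
      · exact ⟨hy, by rw [vk_rep]; exact hw0, hwQ⟩
      · exact ⟨h.preV_mul_z hy, by rw [X.vk_mul_z hy.1, vk_rep]; exact hw0,
          (hflip hy (by rw [vk_rep]; exact hw0)).2 hwQ⟩
  have hinj1 : Function.Injective (rep z) := fun a b e => by rw [← vk_rep a, e, vk_rep]
  have hinj2 : Function.Injective (fun w => rep z w * z) := (mul_left_injective z).comp hinj1
  rw [hsplit, Set.ncard_union_eq, Set.ncard_image_of_injective _ hinj1, Set.ncard_image_of_injective _ hinj2, hi]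
  · omega
  · refine Set.disjoint_left.2 ?_
    rintro _ ⟨w, hw, rfl⟩ ⟨w', hw', e⟩
    have ev : vk z (rep z w' * z) = vk z (rep z w) := congrArg (vk z) e
    rw [X.vk_mul_z (rep_mem w'), vk_rep, vk_rep] at ev
    subst ev
    exact hJ.ctr.ne_one (mul_eq_left.1 e)

open _root_.Classical in
/-- An invariant set counted part by part. -/
theorem Oct.count_inv (h : X.Oct B) {c : G} (hc : c ∈ X.lft h.sq) (hcπ : X.π ⟨c, hc.1⟩ = X.S.t) {y0 : G}
    (hy0 : y0 ∈ preV X.L.J (X.WW h)) (hy0R : vk z y0 ∉ (nil z c).range) {Q : G → Prop} (hQ : h.Inv Q) :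
    ∃ i ≤ 3, {a | a ∈ h.ten ∧ Q a}.ncard = (if Q 1 then 1 else 0) + (if Q z then 1 else 0) + 42 * i +
      7 * ((if Q c then 16 else 0) + (if Q (c * z) then 16 else 0) + (if Q (c * y0) then 96 else 0)) := by
  have hJ := X.L.J
  haveI := Fintype.ofFinite G
  haveI := Fintype.ofFinite ↥Cfsg.Spor.M22
  obtain ⟨i, hi, hiE⟩ := h.count_EE hQ
  refine ⟨i, hi, ?_⟩
  set NB := normalizer (B : Set ↥Cfsg.Spor.M22) with hNB
  have hcE : c ∉ EE z := X.not_mem_EE hc.1 (hcπ ▸ X.t1)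
  have hcount := h.coset_count hc hQ hcE hy0 hy0R
  -- fibres of the projection
  let pr : G → ↥Cfsg.Spor.M22 := fun a => if ha : a ∈ H0 z P then X.psi ⟨a, ha⟩ else 1
  have hpr : ∀ {a : G} (ha : a ∈ h.ten), pr a ∈ B := fun {a} ha => by
    simp only [pr, dif_pos (h.ten_le_H0 ha)]
    exact h.psi_ten ha _
  have hpr1 : ∀ {a : G}, a ∈ h.ten → (pr a = 1 ↔ a ∈ preV hJ (X.WW h)) := fun {a} ha => by
    simp only [pr, dif_pos (h.ten_le_H0 ha)]
    constructor
    · exact fun e => h.ten_inf_EE ha (X.mem_EE_of_psi_one _ (h.ten_sq a ha) e)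
    · intro hy
      have e : X.psi ⟨1 * a, by rw [one_mul]; exact h.ten_le_H0 ha⟩ = X.π ⟨1, one_mem _⟩ :=
        X.psi_eq (one_mem _) hy.1 _
      simp only [one_mul] at e
      rw [e]
      exact map_one X.π
  set s := Finset.univ.filter (fun a => a ∈ h.ten ∧ Q a) with hs
  set sB := Finset.univ.filter (fun b => b ∈ B) with hsB
  have hfib : ∀ b ∈ B, b ≠ 1 → (s.filter fun a => pr a = b).card =
      ((if Q c then 16 else 0) + (if Q (c * z) then 16 else 0) + (if Q (c * y0) then 96 else 0)) := by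
    intro b hb hb1
    rw [← hcount]
    obtain ⟨n, hn, hnb⟩ := h.exists_to_t hb hb1
    obtain ⟨⟨d, hd⟩, hdn⟩ := X.surj n
    have hdK : d ∈ normalizer (h.ten : Set G) ⊓ HH z := h.CC_mem_K hd (hdn ▸ hn)
    rw [show {y | y ∈ preV hJ (X.WW h) ∧ Q (c * y)} =
      ↑(Finset.univ.filter fun y => y ∈ preV hJ (X.WW h) ∧ Q (c * y)) by simp, Set.ncard_coe_finset]
    have hd0 := CC_le_H0 z P hd
    refine Finset.card_bij' (fun a _ => c⁻¹ * (d * a * d⁻¹)) (fun y _ => d⁻¹ * (c * y) * d) ?_ ?_ ?_ ?_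
    · intro a ha
      simp only [hs, Finset.mem_filter, Finset.mem_univ, true_and] at ha ⊢
      obtain ⟨⟨haA, haQ⟩, hab⟩ := ha
      have hm : d * a * d⁻¹ ∈ h.ten := M22Order.conj_mem_of_mem_normalizer hdK.1 haA
      have hQ' : Q (d * a * d⁻¹) := (hQ d hdK a haA).2 haQ
      refine ⟨?_, by rwa [mul_inv_cancel_left]⟩
      refine (hpr1 (mul_mem (inv_mem (h.lft_le_ten hc)) hm)).1 ?_
      have ha0 := h.ten_le_H0 haA
      simp only [pr, dif_pos ha0] at hab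
      simp only [pr, dif_pos (h.ten_le_H0 (mul_mem (inv_mem (h.lft_le_ten hc)) hm))]
      rw [show (⟨c⁻¹ * (d * a * d⁻¹), _⟩ : ↥(H0 z P)) =
        ⟨c, CC_le_H0 z P hc.1⟩⁻¹ * (⟨d, hd0⟩ * ⟨a, ha0⟩ * ⟨d, hd0⟩⁻¹) from rfl]
      rw [map_mul, map_inv, map_mul, map_mul, map_inv, X.psi_CC hc.1, X.psi_CC hd, hab, hdn, hnb, hcπ,
        inv_mul_cancel]
    · intro y hy
      simp only [hs, Finset.mem_filter, Finset.mem_univ, true_and] at hy ⊢
      obtain ⟨hyW, hyQ⟩ := hy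
      have hm : c * y ∈ h.ten := mul_mem (h.lft_le_ten hc) (h.preV_le_ten hyW)
      have hm' : d⁻¹ * (c * y) * d ∈ h.ten := by
        simpa using M22Order.conj_mem_of_mem_normalizer (inv_mem hdK.1) hm
      refine ⟨⟨hm', ?_⟩, ?_⟩
      · have := hQ d hdK _ hm'
        rw [show d * (d⁻¹ * (c * y) * d) * d⁻¹ = c * y by group] at this
        exact this.1 hyQ
      · simp only [pr, dif_pos (h.ten_le_H0 hm')]
        rw [show (⟨d⁻¹ * (c * y) * d, _⟩ : ↥(H0 z P)) = ⟨d, hd0⟩⁻¹ * ⟨c * y, h.ten_le_H0 hm⟩ * ⟨d, hd0⟩ from rfl]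
        rw [map_mul, map_mul, map_inv, X.psi_CC hd, X.psi_eq hc.1 hyW.1, hdn, hcπ, ← hnb]
        group
    · intro a _
      group
    · intro y _
      group
  have hone : (s.filter fun a => pr a = 1).card = (if Q 1 then 1 else 0) + (if Q z then 1 else 0) + 42 * i := by
    rw [← hiE, show {y | y ∈ preV hJ (X.WW h) ∧ vk z y ≠ 0 ∧ Q y} =
      ↑(Finset.univ.filter fun y => y ∈ preV hJ (X.WW h) ∧ vk z y ≠ 0 ∧ Q y) by simp, Set.ncard_coe_finset]
    have e : (s.filter fun a => pr a = 1) = ({1, z} : Finset G).filter Q ∪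
        (Finset.univ.filter fun y => y ∈ preV hJ (X.WW h) ∧ vk z y ≠ 0 ∧ Q y) := by
      ext a
      simp only [hs, Finset.mem_filter, Finset.mem_univ, true_and, Finset.mem_union, Finset.mem_insert,
        Finset.mem_singleton]
      constructor
      · rintro ⟨⟨ha, haQ⟩, e⟩
        have hy := (hpr1 ha).1 e
        by_cases h0 : vk z a = 0
        · exact Or.inl ⟨hJ.mem_zpowers ((vk_eq_zero_iff hJ hy.1).1 h0), haQ⟩
        · exact Or.inr ⟨hy, h0, haQ⟩
      · rintro (⟨rfl | rfl, haQ⟩ | ⟨hy, -, haQ⟩)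
        · exact ⟨⟨one_mem _, haQ⟩, (hpr1 (one_mem _)).2 (one_mem _)⟩
        · exact ⟨⟨h.z_mem_ten, haQ⟩, (hpr1 h.z_mem_ten).2 ⟨X.z_mem_EE, by rw [vk_z hJ]; exact zero_mem _⟩⟩
        · exact ⟨⟨h.preV_le_ten hy, haQ⟩, (hpr1 (h.preV_le_ten hy)).2 hy⟩
    rw [e, Finset.card_union_of_disjoint]
    · congr 1
      rw [Finset.card_filter, Finset.sum_insert (by simpa using hJ.ctr.ne_one.symm), Finset.sum_singleton]
    · refine Finset.disjoint_left.2 ?_
      intro a ha ha'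
      simp only [Finset.mem_filter, Finset.mem_insert, Finset.mem_singleton, Finset.mem_univ, true_and] at ha ha'
      rcases ha.1 with rfl | rfl
      · exact ha'.2.1 vk_one
      · exact ha'.2.1 (vk_z hJ)
  rw [show {a | a ∈ h.ten ∧ Q a} = ↑s by simp [hs], Set.ncard_coe_finset,
    Finset.card_eq_sum_card_fiberwise (f := pr) (t := sB) (fun a ha => by
      simp only [hs, hsB, Finset.mem_coe, Finset.mem_filter, Finset.mem_univ, true_and] at ha ⊢
      exact hpr ha.1),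
    ← Finset.add_sum_erase sB _ (show (1 : ↥Cfsg.Spor.M22) ∈ sB by simp [hsB]), hone,
    Finset.sum_congr rfl (fun b hb => hfib b (by simpa [hsB] using (Finset.mem_erase.1 hb).2) (Finset.mem_erase.1 hb).1),
    Finset.sum_const, smul_eq_mul]
  have hc8 : sB.card = 8 := by
    rw [← h.card, hsB, ← Fintype.card_subtype, ← Nat.card_eq_fintype_card]
  rw [Finset.card_erase_of_mem (show (1 : ↥Cfsg.Spor.M22) ∈ sB by simp [hsB]), hc8]

end Cfsg.Agent.J4Eleven.Chart
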