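/-!
# The decomposable bivectors of a space of dimension five over two elements, as numbers below 1024

Bits six to nine are the part through the distinguished vector, bits zero to five the Pluecker part.
-/

set_option autoImplicit false

namespace Cfsg.Agent.J4Ten

/-- The mask of the 155 decomposable bivectors. -/
def zMask : Nat := 66219242715062295966937889684667363941492786833686592720050896857938561700990121317897605430157623206447304224280144332503733399100712944774021589441521294931410796515102650200022565872881514043164862002593668997793354948379649274594502395529421763046167528537291262815158007768952701440386630967335522302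

/-- Generators of the thirty-one stars. -/
def starGens : List (List Nat) :=
  [[1, 2, 4, 64],
   [1, 8, 16, 128],
   [1, 10, 20, 192],
   [2, 8, 32, 256],
   [2, 9, 36, 320],
   [3, 8, 48, 384],
   [3, 9, 52, 448],
   [4, 16, 32, 512],
   [4, 17, 34, 576],
   [5, 16, 40, 640],
   [5, 17, 42, 704],
   [6, 24, 32, 768],
   [6, 25, 34, 832],
   [7, 24, 40, 896],
   [7, 25, 42, 960],
   [64, 128, 256, 512],
   [64, 129, 258, 516],
   [65, 128, 264, 528],
   [65, 129, 266, 532],
   [66, 136, 256, 544],
   [66, 137, 258, 548],
   [67, 136, 264, 560],
   [67, 137, 266, 564],
   [68, 144, 288, 512],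
   [68, 145, 290, 516],
   [69, 144, 296, 528],
   [69, 145, 298, 532],
   [70, 152, 288, 544],
   [70, 153, 290, 548],
   [71, 152, 296, 560],
   [71, 153, 298, 564]]

end Cfsg.Agent.J4Ten
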