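import Cfsg.Agent.Lib.J4Ten.Model
import Cfsg.Agent.Lib.J4Ten.Facts
import Cfsg.Agent.Solvable.Gaschutz

/-!
# Janko four type: the normaliser of the subgroup of order `2 ^ 10` is its split extension by `SL₅(2)`
-/

set_option autoImplicit false
set_option linter.style.haveILetI false
set_option linter.unusedSectionVars false

namespace Cfsg.Agent.J4Eleven.Chart

open Subgroup
open Cfsg (GolayPt golayCode M24)
open Cfsg.Agent.J4Local
open Cfsg.Agent.J4Ten
open Cfsg.Agent.Golay.Basic Cfsg.Agent.M24Module.Basic Cfsg.Agent.Golay.OctadStab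
open scoped Pointwise

universe u

variable {G : Type u} [Group G] [Finite G] {z : G} {P : Subgroup G} {X : Chart z P} [IsSimpleGroup G]
  (F : VFrame X) (hG : ¬ IsMulCommutative G)

/-- The embedding of the permutations fixing the octad. -/
noncomputable def VFrame.kHom : ↥(OK oct8) →* G where
  toFun g := F.k g
  map_one' := F.k_one
  map_mul' g h := F.k_mul _ g.2.1 _ h.2.1

theorem VFrame.kHom_injective : Function.Injective F.kHom :=
  (injective_iff_map_eq_one _).2 fun g hg => Subtype.ext (F.k_inj _ g.2.1 (by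
    rw [show F.k g = 1 from hg]; exact one_mem _))

include hG in
theorem VFrame.zt_of_rP {a : ℕ} (ha : a < 16) (ha0 : a ≠ 0) : IsConj z (F.k (rP a)) := by
  classical
  obtain ⟨m, hm, hma⟩ := exists_move_rP ha ha0
  suffices h1 : IsConj z (F.k (rP 1)) by
    refine h1.trans (isConj_iff.2 ⟨F.k m, ?_⟩)
    rw [← hma, F.k_mul _ (mul_mem hm.1 (rP_mem (by norm_num))) _ (inv_mem hm.1), F.k_mul _ hm.1 _ (rP_mem (by norm_num)),
      F.k_inv hm.1]
  by_contra hz
  obtain ⟨hN, -, -, hno⟩ := X.ten_facts hG F.ta_isElem F.card_ta (F.centralizer_ta hG)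
  obtain ⟨g, hg, hg7, hgc⟩ := exists_seven_perm
  have h868 := hno _ (F.rP_mem_ta (a := 1) (by norm_num))
    (fun e => absurd (F.k_rP_std (by norm_num) (e ▸ one_mem _)) one_ne_zero) hz
  have horb := M22Order.ncard_conj_orbit (normalizer (F.ta : Set G)) (le_normalizer (F.rP_mem_ta (a := 1) (by norm_num)))
  rw [show {x | ∃ k ∈ normalizer (F.ta : Set G), k * F.k (rP 1) * k⁻¹ = x} = nOrb F.ta (F.k (rP 1)) from rfl,
    h868, hN] at horb
  have hmem : F.k g ∈ centralizer ({F.k (rP 1)} : Set G) ⊓ normalizer (F.ta : Set G) := by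
    refine ⟨mem_centralizer_singleton_iff.2 ?_, F.k_normalizes hg⟩
    rw [← F.k_mul _ hg.1 _ (rP_mem (by norm_num)), ← F.k_mul _ (rP_mem (by norm_num)) _ hg.1,
      mul_inv_eq_iff_eq_mul.1 hgc]
  have h7 := orderOf_dvd_natCard _ hmem
  rw [show F.k g = F.kHom ⟨g, hg⟩ from rfl, orderOf_injective F.kHom F.kHom_injective, orderOf_mk, hg7] at h7
  omega

include hG in
theorem VFrame.isZ_iff (n : Fin 1024) : IsConj z (F.el n) ↔ isZ n.1 = true := by
  classical
  have hsub : ∀ m : Fin 1024, isZ m.1 = true → IsConj z (F.el m) := by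
    intro m hm
    obtain ⟨hw, ha⟩ := lt_of_fin m
    have h := checks_dec
    simp only [List.all_eq_true, List.mem_range, Bool.or_eq_true, Bool.not_eq_true'] at h
    have h' := (h m.1 m.2).resolve_left (by simp [hm])
    split_ifs at h' with h0
    · simp only [List.any_eq_true, List.mem_range, Bool.and_eq_true, beq_iff_eq, Bool.not_eq_true',
        beq_eq_false_iff_ne] at h'
      obtain ⟨a, ha', b, hb, e, hne⟩ := h'
      rw [VFrame.el, h0, rP_zero, F.k_one, mul_one, ← e]
      have hv : F.e (sW (plk a b)) ∈ X.std := F.e_mem _ (sW_even (plk_lt ha' hb))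
      have hv1 : F.e (sW (plk a b)) ≠ 1 := fun h1 =>
        hne (sW_code (plk_lt ha' hb) ((F.e_eq_one (sW_even (plk_lt ha' hb))).1 h1))
      by_contra hz
      obtain ⟨s, hs, hsv⟩ := (F.nonz_iff hG).1 ⟨hv, hv1, hz⟩
      refine plk_not_pair ha' hb hne hs ((F.e_eq_iff (sW_even (plk_lt ha' hb)) (pair_even hs)).1 ?_)
      exact hsv.symm
    · simp only [List.any_eq_true, List.mem_range, beq_iff_eq] at h'
      obtain ⟨b, hb, e⟩ := h'
      rw [VFrame.el, e, ← F.conj_u ha hb]
      exact (F.zt_of_rP hG ha h0).trans (isConj_iff.2 ⟨F.e (uW b), rfl⟩)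
  have hset : F.el '' {m : Fin 1024 | isZ m.1 = true} = {v | v ∈ F.ta ∧ IsConj z v} := by
    refine Set.eq_of_subset_of_ncard_le ?_ ?_
    · rintro _ ⟨m, hm, rfl⟩
      exact ⟨F.el_mem m, hsub m hm⟩
    · rw [(X.ten_facts hG F.ta_isElem F.card_ta (F.centralizer_ta hG)).2.1,
        Set.ncard_image_of_injective _ F.el_injective, ← checks_count, ← Set.ncard_image_of_injective _ Fin.val_injective,
        ← List.toFinset_card_of_nodup (List.nodup_range.filter _), ← Set.ncard_coe_finset]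
      refine Set.ncard_le_ncard fun k hk => ?_
      simp only [List.coe_toFinset, Set.mem_ofPred_eq, List.mem_filter, List.mem_range] at hk
      exact ⟨⟨k, hk.1⟩, hk.2, rfl⟩
  refine ⟨fun h => ?_, hsub n⟩
  obtain ⟨m, hm, e⟩ := hset.symm.subset (⟨F.el_mem n, h⟩ : F.el n ∈ {v | v ∈ F.ta ∧ IsConj z v})
  exact F.el_injective e ▸ hm

theorem zmod_two_eq_one : ∀ a : ZMod 2, a ≠ 0 → a = 1 := by decide

theorem det_two {M : Matrix (Fin 5) (Fin 5) (ZMod 2)} (h : IsUnit M) : M.det = 1 :=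
  zmod_two_eq_one _ ((Matrix.isUnit_iff_isUnit_det M).1 h).ne_zero

theorem card_SL5 : Nat.card (Matrix.SpecialLinearGroup (Fin 5) (ZMod 2)) = 9999360 := by
  classical
  haveI : Fact (Nat.Prime 2) := ⟨Nat.prime_two⟩
  have h : Nat.card (Matrix.SpecialLinearGroup (Fin 5) (ZMod 2)) = Nat.card (GL (Fin 5) (ZMod 2)) :=
    Nat.card_congr (Equiv.ofBijective Matrix.SpecialLinearGroup.toGL
      ⟨Matrix.SpecialLinearGroup.toGL_injective, fun g => ⟨⟨g.1, det_two g.isUnit⟩, Units.ext (Matrix.SpecialLinearGroup.coe_GL_coe_matrix ⟨g.1, det_two g.isUnit⟩)⟩⟩)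
  rw [h, Matrix.card_GL_field]
  norm_num [Fin.prod_univ_five, ZMod.card]

include hG in
theorem VFrame.exists_iso :
    Nonempty (↥(normalizer (F.ta : Set G)) ⧸ F.ta.subgroupOf (normalizer (F.ta : Set G)) ≃*
      Matrix.SpecialLinearGroup (Fin 5) (ZMod 2)) := by
  classical
  set N := normalizer (F.ta : Set G)
  obtain ⟨hN, -⟩ := X.ten_facts hG F.ta_isElem F.card_ta (F.centralizer_ta hG)
  let eA : Fin 1024 ≃ ↥F.ta := Equiv.ofBijective (fun n => ⟨F.el n, F.el_mem n⟩)
    ⟨fun a b e => F.el_injective (congrArg Subtype.val e), fun ⟨_, n, e⟩ => ⟨n, Subtype.ext e⟩⟩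
  let ρ : ↥N →* Equiv.Perm (Fin 1024) :=
    (Equiv.permCongrHom eA.symm).toMonoidHom.comp ((MulAut.toPerm _).comp F.ta.normalizerMonoidHom)
  have hρ : ∀ (g : ↥N) (n : Fin 1024), F.el (ρ g n) = (g : G) * F.el n * (g : G)⁻¹ := fun g n => by
    show (eA (eA.symm (F.ta.normalizerMonoidHom g (eA n))) : G) = _
    rw [Equiv.apply_symm_apply]
    rfl
  have hsym : ∀ g, IsSym (ρ g) := fun g => ⟨fun a b => F.el_injective (by
    rw [hρ, F.el_mul, F.el_mul, hρ, hρ]; group), fun a => by
    rw [Bool.eq_iff_iff, ← F.isZ_iff hG, ← F.isZ_iff hG, hρ]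
    exact ⟨fun h => h.trans (isConj_iff.2 ⟨(g : G), rfl⟩).symm, fun h => h.trans (isConj_iff.2 ⟨(g : G), rfl⟩)⟩⟩
  have hker : ρ.ker = F.ta.subgroupOf N := by
    ext g
    rw [MonoidHom.mem_ker, mem_subgroupOf]
    constructor
    · intro h
      rw [← F.centralizer_ta hG, mem_centralizer_iff]
      rintro _ ⟨n, rfl⟩
      have := hρ g n
      rw [h, Equiv.Perm.one_apply, eq_mul_inv_iff_mul_eq] at this
      exact this
    · intro h
      refine Equiv.ext fun n => F.el_injective ?_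
      rw [hρ, F.ta_comm _ h _ (F.el_mem n), mul_inv_cancel_right]
      rfl
  obtain ⟨f, hf⟩ := exists_rep ρ.range.subtype fun x => by
    obtain ⟨g, hg⟩ := x.2
    rw [show ρ.range.subtype x = ρ g from hg.symm]
    exact hsym g
  have hfi : Function.Injective f := (injective_iff_map_eq_one f).2 fun x hx => Subtype.ext (hf x hx)
  have hc : Nat.card ρ.range = 9999360 := by
    have h := ρ.ker.card_mul_index
    rw [Subgroup.index_ker, hN, hker, Nat.card_congr (subgroupOfEquivOfLe le_normalizer).toEquiv, F.card_ta] at h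
    exact Nat.eq_of_mul_eq_mul_left (by norm_num) h
  have hb : Function.Bijective f := hfi.bijective_of_nat_card_le (by rw [card_SL5, hc])
  exact ⟨((QuotientGroup.quotientMulEquivOfEq hker.symm).trans (QuotientGroup.quotientKerEquivRange ρ)).trans
    (MulEquiv.ofBijective f hb)⟩

/-- The twisted embedding of the permutations fixing the octad. -/
noncomputable def VFrame.cF (g : Equiv.Perm GolayPt) : G :=
  F.e (word {pt 5} + permW g (word {pt 5})) * F.k g

theorem cF_even (g : Equiv.Perm GolayPt) : ∑ p, (word {pt 5} + permW g (word {pt 5})) p = 0 := by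
  simp only [Pi.add_apply, Finset.sum_add_distrib]
  rw [show ∑ p, permW g (word {pt 5}) p = ∑ p, word {pt 5} p from Equiv.sum_comp g.symm _]
  exact CharTwo.add_self_eq_zero _

theorem VFrame.cF_mul {g h : Equiv.Perm GolayPt} (hg : g ∈ M24) (hh : h ∈ M24) :
    F.cF (g * h) = F.cF g * F.cF h := by
  have e : word {pt 5} + permW (g * h) (word {pt 5}) =
      (word {pt 5} + permW g (word {pt 5})) + permW g (word {pt 5} + permW h (word {pt 5})) := by
    rw [show permW g (word {pt 5} + permW h (word {pt 5})) =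
      permW g (word {pt 5}) + permW g (permW h (word {pt 5})) from rfl, ← permW_mul, add_assoc,
      ← add_assoc (permW g _) (permW g _), add_self_word, zero_add]
  rw [VFrame.cF, e, F.e_add _ _ (cF_even g) (permW_even (cF_even h)), ← F.e_conj g hg _ (cF_even h),
    F.k_mul g hg h hh, VFrame.cF, VFrame.cF]
  group

/-- The twisted embedding as a homomorphism. -/
noncomputable def VFrame.cHom : ↥(OK oct8) →* G :=
  MonoidHom.mk' (fun g => F.cF g) fun g h => F.cF_mul g.2.1 h.2.1

theorem VFrame.cHom_injective : Function.Injective F.cHom :=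
  (injective_iff_map_eq_one _).2 fun g hg => Subtype.ext (F.k_inj _ g.2.1 (by
    have hg' : F.e (word {pt 5} + permW g.1 (word {pt 5})) * F.k g = 1 := hg
    rw [eq_inv_of_mul_eq_one_right hg']
    exact inv_mem (F.e_mem _ (cF_even _))))

theorem VFrame.cHom_normalizes (g : ↥(OK oct8)) : F.cHom g ∈ normalizer (F.ta : Set G) := by
  obtain ⟨b, hb, e⟩ := exists_uW g.2
  show F.e _ * F.k g ∈ _
  rw [e]
  exact mul_mem (F.u_normalizes hb) (F.k_normalizes g.2)

theorem VFrame.cHom_disjoint (g : ↥(OK oct8)) (h : F.cHom g ∈ F.ta) : g = 1 := by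
  obtain ⟨n, hn⟩ := h
  obtain ⟨b, hb, e⟩ := exists_uW g.2
  obtain ⟨hw, ha⟩ := lt_of_fin n
  have hn' : F.e (sW (n.1 % 64)) * F.k (rP (n.1 / 64)) = F.e (uW b) * F.k g := by rw [← e]; exact hn
  have hgr : (g : Equiv.Perm GolayPt) = rP (n.1 / 64) := by
    refine mul_inv_eq_one.1 (F.k_inj _ (mul_mem g.2.1 (inv_mem (rP_mem ha))) ?_)
    rw [F.k_mul _ g.2.1 _ (inv_mem (rP_mem ha)), F.k_inv (rP_mem ha),
      show F.k g * (F.k (rP (n.1 / 64)))⁻¹ = (F.e (uW b))⁻¹ * F.e (sW (n.1 % 64)) by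
        rw [eq_inv_mul_iff_mul_eq, ← mul_assoc, ← hn', mul_inv_cancel_right]]
    exact mul_mem (inv_mem (F.e_mem _ (uW_even hb))) (F.e_mem _ (sW_even hw))
  rw [hgr] at hn' e
  have h1 := (F.e_eq_iff (uW_even hb) (sW_even hw)).1 (mul_right_cancel hn').symm
  have hb0 := u_sW_code hb hw h1
  subst hb0
  refine Subtype.ext (hgr.trans ?_)
  have hq : pt (qIx (n.1 / 64)) = pt 5 := by
    have e5 : uW 0 = 0 := by
      rw [uW, show uM 0 = 0 by decide +kernel, ← word_empty]; congr 1
    rw [e5, permW_word, Cfsg.Agent.Golay.M24.smul_finset_def, Finset.image_singleton, rP_pt ha] at e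
    have := congrFun e (pt 5)
    simp only [Pi.add_apply, Pi.zero_apply, word, Finset.mem_singleton, if_true] at this
    by_contra hne
    rw [if_neg (Ne.symm hne)] at this
    simp at this
  exact fix_eq_one oct_mem p_out (rP_mem_FK ha) (by rw [rP_pt ha, hq])

include hG in
theorem VFrame.exists_split :
    ∃ B : Subgroup G, B ≤ normalizer (F.ta : Set G) ∧ B ⊓ F.ta = ⊥ ∧ B ⊔ F.ta = normalizer (F.ta : Set G) ∧
      Nonempty (↥B ≃* Matrix.SpecialLinearGroup (Fin 5) (ZMod 2)) := by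
  classical
  obtain ⟨φ⟩ := F.exists_iso hG
  obtain ⟨hN, -⟩ := X.ten_facts hG F.ta_isElem F.card_ta (F.centralizer_ta hG)
  set N := normalizer (F.ta : Set G)
  set K : Subgroup ↥N := F.ta.subgroupOf N
  haveI : IsMulCommutative ↥K := ⟨⟨fun a b => Subtype.ext (Subtype.ext (F.ta_comm _ a.2 _ b.2))⟩⟩
  let c : ↥(OK oct8) →* ↥N := F.cHom.codRestrict N F.cHom_normalizes
  have hci : Function.Injective c := fun a b e => F.cHom_injective (congrArg Subtype.val e)
  set A := c.range
  have hAc : Nat.card A = 322560 := by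
    rw [← Nat.card_congr (MonoidHom.ofInjective hci).toEquiv, card_OK oct_mem]
  have hAK : A ⊓ K = ⊥ := by
    rw [eq_bot_iff_forall]
    rintro _ ⟨⟨g, rfl⟩, hx⟩
    rw [F.cHom_disjoint g hx, map_one]
  have hKc : Nat.card K = 2 ^ 10 := by
    rw [Nat.card_congr (subgroupOfEquivOfLe le_normalizer).toEquiv, F.card_ta]
  set U := K ⊔ A
  have hUc : Nat.card U = 2 ^ 10 * 322560 := by
    rw [← hAc, ← hKc]
    have hbij : Function.Bijective (fun q : ↥K × ↥A => (⟨q.1.1 * q.2.1,
        mul_mem (mem_sup_left q.1.2) (mem_sup_right q.2.2)⟩ : ↥U)) := by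
      refine ⟨fun ⟨a, b⟩ ⟨a', b'⟩ e => ?_, fun ⟨x, hx⟩ => ?_⟩
      · have e' : (a : ↥N) * b = a' * b' := congrArg Subtype.val e
        have h1 : (b : ↥N) * (b' : ↥N)⁻¹ ∈ A ⊓ K := by
          refine ⟨A.mul_mem b.2 (A.inv_mem b'.2), ?_⟩
          rw [show (b : ↥N) * (b' : ↥N)⁻¹ = (a : ↥N)⁻¹ * ((a : ↥N) * b) * (b' : ↥N)⁻¹ by group, e',
            mul_assoc (a : ↥N)⁻¹, mul_inv_cancel_right]
          exact K.mul_mem (K.inv_mem a.2) a'.2
        rw [hAK, mem_bot, mul_inv_eq_one] at h1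
        rw [h1] at e'
        exact Prod.ext (Subtype.ext (mul_right_cancel e')) (Subtype.ext h1)
      · obtain ⟨a, ha, b, hb, rfl⟩ := mem_sup_of_normal_left.1 hx
        exact ⟨(⟨a, ha⟩, ⟨b, hb⟩), rfl⟩
    rw [← Nat.card_prod]
    exact (Nat.card_congr (Equiv.ofBijective _ hbij)).symm
  have hidx : U.index = 31 := by
    have h := U.card_mul_index
    rw [hUc, hN] at h
    omega
  obtain ⟨H, hH⟩ := Cfsg.Agent.Solvable.Gaschutz.exists_complement' (K := K) (U := U) (A := A) le_sup_left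
    (by rw [hKc, hidx]; decide) le_sup_right hAK rfl
  refine ⟨H.map N.subtype, map_subtype_le H, ?_, ?_, ⟨((H.equivMapOfInjective _ N.subtype_injective).symm.trans
    hH.symm.QuotientMulEquiv.symm).trans φ⟩⟩
  · rw [eq_bot_iff_forall]
    rintro _ ⟨⟨x, hx, rfl⟩, hxA⟩
    have h1 : x ∈ K ⊓ H := ⟨hxA, hx⟩
    rw [hH.disjoint.eq_bot, mem_bot] at h1
    rw [h1]; rfl
  · have h := congrArg (Subgroup.map N.subtype) hH.sup_eq_top
    rwa [Subgroup.map_sup, subgroupOf_map_subtype, inf_eq_left.2 le_normalizer, ← MonoidHom.range_eq_map,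
      Subgroup.range_subtype, sup_comm] at h

end Cfsg.Agent.J4Eleven.Chart
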