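import Cfsg.Agent.Lib.J4Ten.Oct

/-!
# Janko four type: the fixed space of an elementary subgroup of order eight of the core

It is a singular subspace of order `2 ^ 6` equal to its own orthogonal and meeting the fixed space of the hexad
group in the line of `t`.
-/

set_option autoImplicit false
set_option linter.style.haveILetI false
set_option linter.unusedSectionVars false

namespace Cfsg.Agent.J4Eleven.Chart

open Subgroup
open Cfsg.Agent.J4Local
open Cfsg.Agent.M22Order (Setup)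

universe u

variable {G : Type u} [Group G] [Finite G] {z : G} {P : Subgroup G} (X : Chart z P)

/-- The common fixed space of the lift of `t` and another element. -/
noncomputable def Wp (c : G) : AddSubgroup (VV z) := (nil z (X.lf X.S.t)).ker ⊓ (nil z c).ker

theorem mem_Wp {c : G} {v : VV z} : v ∈ X.Wp c ↔ act z (X.lf X.S.t) v = v ∧ act z c v = v :=
  and_congr (mem_ker_nil X.L.J) (mem_ker_nil X.L.J)

theorem ct_mem : X.lf X.S.t ∈ X.LE := X.lf_mem X.tE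

theorem ct_CC : X.lf X.S.t ∈ CC z P := X.LE_le_CC X.ct_mem

theorem WV_le_ker_t : X.WV ≤ (nil z (X.lf X.S.t)).ker := fun _ hw => (mem_ker_nil X.L.J).2 (hw _ X.ct_mem)

theorem card_ker_t : Nat.card (nil z (X.lf X.S.t)).ker = 2 ^ 8 :=
  X.card_ker_lift X.ct_CC X.ct_mem.2.2 (by rw [X.lf_pi X.tE]; exact X.t1)

include X in
theorem card_four_pow {p : G} (hp : p ∈ P) (hp1 : p ≠ 1) {U : AddSubgroup (VV z)} (hU : ∀ v ∈ U, act z p v ∈ U)
    {a b : ℕ} (ha : 2 ^ (2 * a + 1) ≤ Nat.card U * 2) (hb : Nat.card U ≤ 2 ^ (2 * b)) :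
    ∃ k, a ≤ k ∧ k ≤ b ∧ Nat.card U = 4 ^ k := by
  obtain ⟨k, -, hk⟩ := card_invariant X.L.J hp hp1 hU
  refine ⟨k, ?_, ?_, hk⟩
  · by_contra hlt
    push Not at hlt
    have h1 : 4 ^ k * 2 < 2 ^ (2 * a + 1) := by
      rw [pow_succ, pow_mul]
      exact Nat.mul_lt_mul_of_pos_right (Nat.pow_lt_pow_right (by norm_num) hlt) two_pos
    rw [← hk] at h1
    omega
  · by_contra hlt
    push Not at hlt
    have h1 : 2 ^ (2 * b) < 4 ^ k := by
      rw [pow_mul]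
      exact Nat.pow_lt_pow_right (by norm_num) hlt
    omega

section Lifts

variable {x : ↥Cfsg.Spor.M22} (hxR : x ∈ X.S.R) (hxE : x ∉ X.S.E) {c : G} (hc : c ∈ CC z P) (h2 : c * c = 1)
  (hcx : X.π ⟨c, hc⟩ = x)

include hxR hc h2 hcx

theorem c_fix {w : VV z} (hw : w ∈ X.RR X.S.t) : act z c w = w :=
  X.R_fix hxR hc hcx (n := 1) (by rw [pow_one, pow_two, h2]; exact one_mem _) hw

include hxE

theorem fix_WV {v : VV z} (hv : v ∈ X.WV) (hfix : act z c v = v) : v ∈ X.RR X.S.t := by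
  have hJ := X.L.J
  set U := X.WV ⊓ (nil z c).ker with hU
  have hRU : X.RR X.S.t ≤ U := fun w hw => ⟨X.RR_le_WV X.tE hw, (mem_ker_nil hJ).2 (X.c_fix hxR hc h2 hcx hw)⟩
  have h16 : 16 ≤ Nat.card U := X.card_RR X.tE X.t1 ▸ AddSubgroup.card_le_of_le hRU
  have h64 : Nat.card U ≤ 64 := (AddSubgroup.card_le_of_le inf_le_left).trans X.card_WV.1.le
  obtain ⟨k, hk2, hk3, hk⟩ := X.card_four_pow X.pp_mem X.pp_ne (U := U) (fun w hw =>
    ⟨X.act_P_WV X.pp_mem hw.1, (mem_ker_nil hJ).2 (by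
      rw [act_inner hJ (CC_le_H0 z P hc) X.pp_mem, (mem_ker_nil hJ).1 hw.2])⟩) (a := 2) (b := 3)
    (by norm_num; omega) (by norm_num; omega)
  have hlt : k ≠ 3 := fun e => by
    have hUW : U = X.WV := AddSubgroup.eq_of_le_of_card_ge inf_le_left (by rw [hk, e, X.card_WV.1]; norm_num)
    have hW : ∀ w ∈ X.WV, act z c w = w := fun w hw => by
      rw [← hUW] at hw; exact (mem_ker_nil hJ).1 hw.2
    exact hxE (hcx ▸ X.pi_mem_E hc hW)
  have e : X.RR X.S.t = U := AddSubgroup.eq_of_le_of_card_ge hRU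
    (by rw [hk, show k = 2 by omega, X.card_RR X.tE X.t1]; norm_num)
  rw [e]
  exact ⟨hv, (mem_ker_nil hJ).2 hfix⟩

variable (hcomm : ∀ v, act z c (act z (X.lf X.S.t) v) = act z (X.lf X.S.t) (act z c v))

include hcomm

theorem range_le_ker_t : (nil z c).range ≤ (nil z (X.lf X.S.t)).ker := by
  have hJ := X.L.J
  rintro _ ⟨v, rfl⟩
  have h := X.c_fix hxR hc h2 hcx (X.RR_lift X.tE X.ct_CC X.ct_mem.2.2 (X.lf_pi X.tE) ▸ ⟨v, rfl⟩ :
    nil z (X.lf X.S.t) v ∈ X.RR X.S.t)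
  rw [nil_apply, map_add, hcomm] at h
  refine (mem_ker_nil hJ).2 (VV.eq_of_add hJ ?_)
  rw [nil_apply, map_add]
  calc act z (X.lf X.S.t) (act z c v) + act z (X.lf X.S.t) v + (act z c v + v)
      = (act z (X.lf X.S.t) (act z c v) + act z c v) + (act z (X.lf X.S.t) v + v) := by abel
    _ = 0 := by rw [h, VV.two hJ]

/-- The common fixed space with `t` is singular of order 64. -/
theorem Wp_spec : Nat.card (X.Wp c) = 64 ∧ X.Wp c = X.RR X.S.t ⊔ (nil z c).range ∧ perp X.L.J (X.Wp c) = X.Wp c := by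
  have hJ := X.L.J
  set U := X.Wp c with hU
  have hRU : X.RR X.S.t ≤ U := fun w hw =>
    ⟨X.WV_le_ker_t (X.RR_le_WV X.tE hw), (mem_ker_nil hJ).2 (X.c_fix hxR hc h2 hcx hw)⟩
  have hc2 : c * c ∈ EE z := by rw [h2]; exact one_mem _
  have hrU : (nil z c).range ≤ U := fun v hv =>
    ⟨X.range_le_ker_t hxR hxE hc h2 hcx hcomm hv, range_le_ker hJ hc.1 hc2 hv⟩
  have hup : Nat.card U ≤ 64 := by
    let f : ↥U × ↥X.WV → ↥(nil z (X.lf X.S.t)).ker := fun q =>
      ⟨(q.1 : VV z) + q.2, add_mem q.1.2.1 (X.WV_le_ker_t q.2.2)⟩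
    have h := card_ker_mul_range (AddMonoidHom.mk' f fun a b => Subtype.ext (by
      show ((a.1 + b.1 : ↥U) : VV z) + ((a.2 + b.2 : ↥X.WV) : VV z) = (a.1 : VV z) + a.2 + (b.1 + b.2)
      rw [AddSubgroup.coe_add, AddSubgroup.coe_add]; abel))
    set F := AddMonoidHom.mk' f _
    have hk : Nat.card F.ker ≤ 16 := by
      rw [← X.card_RR X.tE X.t1]
      refine Nat.card_le_card_of_injective (fun q : ↥F.ker => (⟨(q.1.2 : VV z), ?_⟩ : ↥(X.RR X.S.t))) ?_
      · have e : (q.1.1 : VV z) = q.1.2 := VV.eq_of_add hJ (congrArg Subtype.val (AddMonoidHom.mem_ker.1 q.2))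
        exact X.fix_WV hxR hxE hc h2 hcx q.1.2.2 (e ▸ (mem_ker_nil hJ).1 q.1.1.2.2)
      · intro q q' e
        have e1 : (q.1.2 : VV z) = q'.1.2 := congrArg (fun r : ↥(X.RR X.S.t) => (r : VV z)) e
        have a1 : (q.1.1 : VV z) = q.1.2 := VV.eq_of_add hJ (congrArg Subtype.val (AddMonoidHom.mem_ker.1 q.2))
        have a2 : (q'.1.1 : VV z) = q'.1.2 := VV.eq_of_add hJ (congrArg Subtype.val (AddMonoidHom.mem_ker.1 q'.2))
        exact Subtype.ext (Prod.ext (Subtype.ext (by rw [a1, a2, e1])) (Subtype.ext e1))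
    have hr : Nat.card F.range ≤ 2 ^ 8 := by
      rw [← X.card_ker_t]
      exact Nat.card_le_card_of_injective _ Subtype.val_injective
    rw [Nat.card_prod, X.card_WV.1] at h
    have h5 := Nat.mul_le_mul hk hr
    omega
  set S := X.RR X.S.t ⊔ (nil z c).range with hS
  have hSU : S ≤ U := sup_le hRU hrU
  have hne : ¬ (nil z c).range ≤ X.RR X.S.t := by
    intro hle
    have hperp := X.range_eq_perp_ker hc.1
    -- then the lift fixes the fixed space of the hexad group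
    refine hxE (hcx ▸ X.pi_mem_E hc fun w hw => ?_)
    refine VV.eq_of_add hJ (BB_nondeg hJ fun u => ?_)
    have h1 : BB z w (nil z c u) = 0 := X.BB_WV hw (X.RR_le_WV X.tE (hle ⟨u, rfl⟩))
    rw [nil_apply, BB_add_right hJ] at h1
    rw [BB_add_left hJ, BB_act_inv hJ hc.1, eq_inv_of_sq hJ hc.1 hc2]
    exact h1
  have h17 : 16 < Nat.card S := by
    rw [← X.card_RR X.tE X.t1]
    refine lt_of_le_of_ne (AddSubgroup.card_le_of_le le_sup_left) fun e => hne ?_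
    rw [AddSubgroup.eq_of_le_of_card_ge (le_sup_left : X.RR X.S.t ≤ S) e.ge]
    exact le_sup_right
  have hS64 := AddSubgroup.card_le_of_le hSU
  obtain ⟨k, hk1, hk2, hk⟩ := X.card_four_pow X.pp_mem X.pp_ne (U := S) (fun v hv => by
    rw [hS, AddSubgroup.mem_sup] at hv ⊢
    obtain ⟨a, ha, b, ⟨b', rfl⟩, rfl⟩ := hv
    exact ⟨_, X.RR_act_P X.tE ha, _, ⟨act z X.pp b', nil_comm hJ (CC_le_H0 z P hc) X.pp_mem b'⟩,
      (map_add _ _ _).symm⟩) (a := 2) (b := 3) (by norm_num; omega) (by norm_num; omega)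
  have hk3 : k = 3 := by
    rw [hk] at h17
    interval_cases k <;> omega
  have e : U = S := (AddSubgroup.eq_of_le_of_card_ge hSU (by rw [hk, hk3]; norm_num; omega)).symm
  have hcU : Nat.card U = 64 := by rw [e, hk, hk3]; norm_num
  refine ⟨hcU, e, (AddSubgroup.eq_of_le_of_card_ge (fun v hv w hw => ?_) ?_).symm⟩
  · have hiso : ∀ {a b : VV z}, a ∈ U → b ∈ (nil z c).range → BB z a b = 0 := fun {a b} ha hb => by
      rw [BB_comm]
      rw [X.range_eq_perp_ker hc.1] at hb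
      exact hb a ha.2
    have hisoR : ∀ {a b : VV z}, a ∈ U → b ∈ X.RR X.S.t → BB z a b = 0 := fun {a b} ha hb => by
      rw [BB_comm]
      rw [X.RR_lift X.tE X.ct_CC X.ct_mem.2.2 (X.lf_pi X.tE), X.range_eq_perp_ker X.ct_CC.1] at hb
      exact hb a ha.1
    rw [e] at hw
    obtain ⟨a, ha, b, hb, rfl⟩ := AddSubgroup.mem_sup.1 hw
    rw [BB_add_right hJ, hisoR hv ha, hiso hv hb, add_zero]
  · have := card_mul_card_perp hJ U
    rw [hcU] at this
    omega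

end Lifts

/-- Of three singular spaces through the line of `t` fixed by `t`, two agree. -/
theorem two_of_three {W : Fin 3 → AddSubgroup (VV z)} (hle : ∀ i, W i ≤ (nil z (X.lf X.S.t)).ker)
    (hR : ∀ i, X.RR X.S.t ≤ W i) (hc : ∀ i, Nat.card (W i) = 64) (hself : ∀ i, perp X.L.J (W i) = W i)
    (hP : ∀ i, ∀ v ∈ W i, act z X.pp v ∈ W i) (hinf : ∀ i, W i ⊓ X.WV ≤ X.RR X.S.t) :
    ∃ i j, i ≠ j ∧ W i = W j := by
  classical
  have hJ := X.L.J
  obtain ⟨y0, hy0, hy0W⟩ : ∃ y ∈ (nil z (X.lf X.S.t)).ker, y ∉ X.WV := by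
    by_contra hcon
    push Not at hcon
    have := AddSubgroup.card_le_of_le (hcon : (nil z (X.lf X.S.t)).ker ≤ X.WV)
    rw [X.card_ker_t, X.card_WV.1] at this
    norm_num at this
  have hQ : ∀ i, ∀ v ∈ W i, QQ z v = 0 := fun i v hv => by
    rw [← BB_act_self hJ X.pp_mem X.pp_ne]
    exact (show v ∈ perp hJ (W i) by rw [hself i]; exact hv) _ (hP i v hv)
  have hsum : ∀ i, ∃ w ∈ X.WV, y0 + w ∈ W i := by
    intro i
    let f : ↥(W i) × ↥X.WV → ↥(nil z (X.lf X.S.t)).ker := fun q =>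
      ⟨(q.1 : VV z) + q.2, add_mem (hle i q.1.2) (X.WV_le_ker_t q.2.2)⟩
    have h := card_ker_mul_range (AddMonoidHom.mk' f fun a b => Subtype.ext (by
      show ((a.1 + b.1 : ↥(W i)) : VV z) + ((a.2 + b.2 : ↥X.WV) : VV z) = (a.1 : VV z) + a.2 + (b.1 + b.2)
      rw [AddSubgroup.coe_add, AddSubgroup.coe_add]; abel))
    set F := AddMonoidHom.mk' f _
    have hk : Nat.card F.ker ≤ 16 := by
      rw [← X.card_RR X.tE X.t1]
      refine Nat.card_le_card_of_injective (fun q : ↥F.ker => (⟨(q.1.2 : VV z), ?_⟩ : ↥(X.RR X.S.t))) ?_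
      · have e : (q.1.1 : VV z) = q.1.2 := VV.eq_of_add hJ (congrArg Subtype.val (AddMonoidHom.mem_ker.1 q.2))
        exact hinf i ⟨e ▸ q.1.1.2, q.1.2.2⟩
      · intro q q' e
        have e1 : (q.1.2 : VV z) = q'.1.2 := congrArg (fun r : ↥(X.RR X.S.t) => (r : VV z)) e
        have a1 : (q.1.1 : VV z) = q.1.2 := VV.eq_of_add hJ (congrArg Subtype.val (AddMonoidHom.mem_ker.1 q.2))
        have a2 : (q'.1.1 : VV z) = q'.1.2 := VV.eq_of_add hJ (congrArg Subtype.val (AddMonoidHom.mem_ker.1 q'.2))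
        exact Subtype.ext (Prod.ext (Subtype.ext (by rw [a1, a2, e1])) (Subtype.ext e1))
    rw [Nat.card_prod, X.card_WV.1, hc i] at h
    have htop : F.range = ⊤ := AddSubgroup.eq_top_of_le_card _ (by
      rw [X.card_ker_t]
      have := Nat.mul_le_mul_right (Nat.card F.range) hk
      omega)
    obtain ⟨⟨a, b⟩, hab⟩ : (⟨y0, hy0⟩ : ↥(nil z (X.lf X.S.t)).ker) ∈ F.range := htop ▸ AddSubgroup.mem_top _
    have hab' : (a : VV z) + b = y0 := congrArg Subtype.val hab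
    refine ⟨b, b.2, ?_⟩
    rw [← hab', add_assoc, VV.two hJ, add_zero]
    exact a.2
  choose w hwW hw using hsum
  by_contra hne
  push Not at hne
  have hBB : ∀ i j, BB z y0 (w i + w j) = 0 := fun i j => by
    have h1 := hQ i _ (hw i)
    have h2 := hQ j _ (hw j)
    rw [QQ_add hJ, X.QQ_WV (hwW i), add_zero] at h1
    rw [QQ_add hJ, X.QQ_WV (hwW j), add_zero] at h2
    rw [BB_add_right hJ]
    revert h1 h2
    generalize QQ z y0 = a
    generalize BB z y0 (w i) = b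
    generalize BB z y0 (w j) = c
    revert a b c
    decide
  have hd : ∀ i j, i ≠ j → w i + w j ∉ X.RR X.S.t := by
    intro i j hij hmem
    have hj : y0 + w j ∈ W i := by
      have := add_mem (hw i) (hR i hmem)
      rwa [show y0 + w i + (w i + w j) = y0 + (w i + w i) + w j by abel, VV.two hJ, add_zero] at this
    have hnR : y0 + w j ∉ X.RR X.S.t := fun h => hy0W (by
      have := add_mem (X.RR_le_WV X.tE h) (hwW j)
      rwa [add_assoc, VV.two hJ, add_zero] at this)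
    set U := W i ⊓ W j
    have hRU : X.RR X.S.t ≤ U := le_inf (hR i) (hR j)
    have h16 : 16 ≤ Nat.card U := X.card_RR X.tE X.t1 ▸ AddSubgroup.card_le_of_le hRU
    have h64 : Nat.card U ≤ 64 := (AddSubgroup.card_le_of_le inf_le_left).trans (hc i).le
    obtain ⟨k, hk1, hk2, hk⟩ := X.card_four_pow X.pp_mem X.pp_ne (U := U) (fun v hv => ⟨hP i v hv.1, hP j v hv.2⟩)
      (a := 2) (b := 3) (by norm_num; omega) (by norm_num; omega)
    have hk3 : k = 3 := by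
      by_contra h
      have e := AddSubgroup.eq_of_le_of_card_ge hRU (by rw [hk, show k = 2 by omega, X.card_RR X.tE X.t1]; norm_num)
      exact hnR (e ▸ ⟨hj, hw j⟩)
    have e1 : U = W i := AddSubgroup.eq_of_le_of_card_ge inf_le_left (by rw [hk, hk3, hc i]; norm_num)
    have e2 : U = W j := AddSubgroup.eq_of_le_of_card_ge inf_le_right (by rw [hk, hk3, hc j]; norm_num)
    exact hne i j hij (e1.symm.trans e2)
  set d1 := w 0 + w 1 with hd1
  set d2 := w 0 + w 2 with hd2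
  have hd12 : d1 + d2 ∉ X.RR X.S.t := by
    have h := hd 1 2 (by decide)
    rwa [show d1 + d2 = (w 0 + w 0) + (w 1 + w 2) by rw [hd1, hd2]; abel, VV.two hJ, zero_add]
  let h : Bool × Bool → VV z := fun q => (bif q.1 then d1 else 0) + bif q.2 then d2 else 0
  have hhW : ∀ q, h q ∈ X.WV := by
    have m1 : d1 ∈ X.WV := add_mem (hwW 0) (hwW 1)
    have m2 : d2 ∈ X.WV := add_mem (hwW 0) (hwW 2)
    rintro ⟨_ | _, _ | _⟩ <;> simp only [h, cond_true, cond_false, add_zero, zero_add] <;>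
      first | exact zero_mem _ | exact m1 | exact m2 | exact add_mem m1 m2
  have hhB : ∀ q, BB z y0 (h q) = 0 := by
    rintro ⟨_ | _, _ | _⟩ <;> simp only [h, cond_true, cond_false, BB_add_right hJ, BB_zero_right hJ, hd1, hd2] <;>
      simp only [← BB_add_right hJ, hBB, add_zero]
  have hhne : ∀ q q', h q + h q' ∈ X.RR X.S.t → q = q' := by
    have n1 := hd 0 1 (by decide)
    have n2 := hd 0 2 (by decide)
    have a1 : d1 + (d1 + d2) = d2 := by rw [← add_assoc, VV.two hJ, zero_add]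
    have a2 : d2 + (d1 + d2) = d1 := by rw [add_left_comm, VV.two hJ, add_zero]
    rintro ⟨_ | _, _ | _⟩ ⟨_ | _, _ | _⟩ <;>
      simp only [h, cond_true, cond_false, add_zero, zero_add, a1, a2,
        add_comm (d1 + d2) d1, add_comm (d1 + d2) d2, add_comm d2 d1] <;> intro hmem
    all_goals first | rfl | trivial
  let f : ↥(X.RR X.S.t) × (Bool × Bool) → ↥X.WV := fun q =>
    ⟨(q.1 : VV z) + h q.2, add_mem (X.RR_le_WV X.tE q.1.2) (hhW _)⟩
  have hinj : Function.Injective f := by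
    rintro ⟨a, q⟩ ⟨a', q'⟩ e
    have e' : (a : VV z) + h q = a' + h q' := congrArg Subtype.val e
    have hq : q = q' := hhne q q' (by
      rw [show h q + h q' = (a : VV z) + a' from VV.eq_of_add hJ (by
        calc h q + h q' + ((a : VV z) + a') = (a + h q) + (a' + h q') := by abel
          _ = 0 := by rw [e', VV.two hJ])]
      exact add_mem a.2 a'.2)
    subst hq
    exact Prod.ext (Subtype.ext (add_right_cancel e')) rfl
  have hbij := (Nat.bijective_iff_injective_and_card f).2 ⟨hinj, by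
    rw [Nat.card_prod, X.card_RR X.tE X.t1, X.card_WV.1]; simp⟩
  refine hy0W ?_
  rw [← X.card_WV.2]
  intro v hv
  obtain ⟨⟨a, q⟩, hq⟩ := hbij.2 ⟨v, hv⟩
  have hq' : (a : VV z) + h q = v := congrArg Subtype.val hq
  rw [← hq', BB_add_right hJ, hhB, add_zero]
  have hat : (a : VV z) ∈ perp hJ (nil z (X.lf X.S.t)).ker := by
    rw [← X.range_eq_perp_ker X.ct_CC.1, ← X.RR_lift X.tE X.ct_CC X.ct_mem.2.2 (X.lf_pi X.tE)]
    exact a.2
  rw [BB_comm]
  exact hat y0 hy0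

/-- The fixed space. -/
def WW {B : Subgroup ↥Cfsg.Spor.M22} (h : X.Oct B) : AddSubgroup (VV z) := fixV z (X.lft h.sq : Set G)

variable {X}

theorem Oct.lf_mem {B : Subgroup ↥Cfsg.Spor.M22} (h : X.Oct B) : X.lf X.S.t ∈ X.lft h.sq :=
  ⟨X.ct_CC, by rw [X.lf_pi X.tE]; exact h.tmem, X.ct_mem.2.2⟩

theorem Oct.WW_eq {B : Subgroup ↥Cfsg.Spor.M22} (h : X.Oct B) : ∃ c, ∃ hc : c ∈ X.lft h.sq,
    X.π ⟨c, hc.1⟩ ∉ X.S.E ∧ X.WW h = X.Wp c := by
  classical
  obtain ⟨x, hx, y, hy, hxE, hyE, hxyE⟩ := h.exists_pair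
  have spec : ∀ c (hc : c ∈ X.lft h.sq), X.π ⟨c, hc.1⟩ ∉ X.S.E → Nat.card (X.Wp c) = 64 ∧
      X.Wp c = X.RR X.S.t ⊔ (nil z c).range ∧ perp X.L.J (X.Wp c) = X.Wp c := fun c hc hE =>
    X.Wp_spec (h.le hc.2.1) hE hc.1 hc.2.2 rfl fun v => by
      rw [← act_mul hc.1.1 X.ct_CC.1, X.lft_comm h.sq hc h.lf_mem, act_mul X.ct_CC.1 hc.1.1]
  -- two independent lifts with the same fixed space settle it
  have main : ∀ a (ha : a ∈ X.lft h.sq) b (hb : b ∈ X.lft h.sq), X.π ⟨a, ha.1⟩ ∉ X.S.E → X.π ⟨b, hb.1⟩ ∉ X.S.E →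
      X.π ⟨a, ha.1⟩ * X.π ⟨b, hb.1⟩ ∉ X.S.E → X.Wp a = X.Wp b → X.WW h = X.Wp a := by
    intro a ha b hb haE hbE habE eab
    refine le_antisymm (fun v hv => X.mem_Wp.2 ⟨hv _ h.lf_mem, hv a ha⟩) fun v hv c hc => ?_
    obtain ⟨h1, h2⟩ := X.mem_Wp.1 hv
    have h3 : act z b v = v := (X.mem_Wp.1 (eab ▸ hv)).2
    obtain ⟨e, he, hcases⟩ := X.R_cases (h.le ha.2.1) (h.le hb.2.1) haE hbE habE (h.le hc.2.1)
    have step : ∀ (d : G) (hd : d ∈ X.lft h.sq), act z d v = v → X.π ⟨c, hc.1⟩ = e * X.π ⟨d, hd.1⟩ →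
        act z c v = v := by
      intro d hd hdv hcd
      have heB : e ∈ B := by
        have := mul_mem hc.2.1 (inv_mem hd.2.1)
        rwa [hcd, mul_inv_cancel_right] at this
      have key : ∀ (k : G) (hk : k ∈ X.lft h.sq), X.π ⟨k, hk.1⟩ = e → act z k v = v → act z c v = v := by
        intro k hk hke hkv
        rw [X.lift_act_eq hc.1 (mul_mem hk hd).1 hc.2.2 (mul_mem hk hd).2.2 (by
          rw [hcd, ← hke, ← map_mul]; rfl), act_mul hk.1.1 hd.1.1, hdv, hkv]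
      rcases h.inter e heB he with e1 | e1
      · refine key 1 (one_mem _) ?_ (act_one v)
        rw [e1]; exact map_one X.π
      · exact key _ h.lf_mem (by rw [e1, X.lf_pi X.tE]) h1
    rcases hcases with e1 | e1 | e1 | e1
    · refine step 1 (one_mem _) (act_one v) ?_
      rw [e1]
      exact ((mul_one e).symm.trans (congrArg (e * ·) (map_one X.π).symm))
    · exact step a ha h2 e1
    · exact step b hb h3 e1
    · exact step (a * b) (mul_mem ha hb) (by rw [act_mul ha.1.1 hb.1.1, h3, h2]) (by rw [e1, ← map_mul]; rfl)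
  obtain ⟨cx, hcx, ecx⟩ := X.exists_lft h.sq hx
  obtain ⟨cy, hcy, ecy⟩ := X.exists_lft h.sq hy
  obtain ⟨cw, hcw, ecw⟩ := X.exists_lft h.sq (mul_mem hx hy)
  have gx : X.π ⟨cx, hcx.1⟩ ∉ X.S.E := ecx ▸ hxE
  have gy : X.π ⟨cy, hcy.1⟩ ∉ X.S.E := ecy ▸ hyE
  have gw : X.π ⟨cw, hcw.1⟩ ∉ X.S.E := ecw ▸ hxyE
  let c : Fin 3 → G := ![cx, cy, cw]
  have hcm : ∀ i, ∃ hm : c i ∈ X.lft h.sq, X.π ⟨c i, hm.1⟩ ∉ X.S.E := by
    intro i; fin_cases i
    exacts [⟨hcx, gx⟩, ⟨hcy, gy⟩, ⟨hcw, gw⟩]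
  obtain ⟨i, j, hij, e⟩ := X.two_of_three (W := fun i => X.Wp (c i)) (fun i => inf_le_left)
    (fun i => by obtain ⟨hm, hE⟩ := hcm i; rw [(spec _ hm hE).2.1]; exact le_sup_left)
    (fun i => by obtain ⟨hm, hE⟩ := hcm i; exact (spec _ hm hE).1)
    (fun i => by obtain ⟨hm, hE⟩ := hcm i; exact (spec _ hm hE).2.2)
    (fun i v hv => by
      obtain ⟨hm, -⟩ := hcm i
      obtain ⟨h1, h2⟩ := X.mem_Wp.1 hv
      exact X.mem_Wp.2 ⟨by rw [act_inner X.L.J (CC_le_H0 z P X.ct_CC) X.pp_mem, h1],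
        by rw [act_inner X.L.J (CC_le_H0 z P hm.1) X.pp_mem, h2]⟩)
    (fun i v hv => by
      obtain ⟨hm, hE⟩ := hcm i
      exact X.fix_WV (h.le hm.2.1) hE hm.1 hm.2.2 rfl hv.2 (X.mem_Wp.1 hv.1).2)
  have hxi : x⁻¹ = x := inv_eq_of_mul_eq_one_right (h.sq x hx)
  have hyi : y⁻¹ = y := inv_eq_of_mul_eq_one_right (h.sq y hy)
  have hxy2 : x * (x * y) = y := by rw [← mul_assoc, h.sq x hx, one_mul]
  have hyxy : y * (x * y) = x := by rw [h.comm hx hy, ← mul_assoc, h.sq y hy, one_mul]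
  have exy : X.π ⟨cx, hcx.1⟩ * X.π ⟨cy, hcy.1⟩ ∉ X.S.E := by rw [ecx, ecy]; exact hxyE
  have exw : X.π ⟨cx, hcx.1⟩ * X.π ⟨cw, hcw.1⟩ ∉ X.S.E := by rw [ecx, ecw, hxy2]; exact hyE
  have eyw : X.π ⟨cy, hcy.1⟩ * X.π ⟨cw, hcw.1⟩ ∉ X.S.E := by rw [ecy, ecw, hyxy]; exact hxE
  fin_cases i <;> fin_cases j
  all_goals first
    | exact absurd rfl hij
    | exact ⟨cx, hcx, gx, main cx hcx cy hcy gx gy exy e⟩
    | exact ⟨cx, hcx, gx, main cx hcx cy hcy gx gy exy e.symm⟩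
    | exact ⟨cx, hcx, gx, main cx hcx cw hcw gx gw exw e⟩
    | exact ⟨cx, hcx, gx, main cx hcx cw hcw gx gw exw e.symm⟩
    | exact ⟨cy, hcy, gy, main cy hcy cw hcw gy gw eyw e⟩
    | exact ⟨cy, hcy, gy, main cy hcy cw hcw gy gw eyw e.symm⟩

theorem Oct.WW_spec {B : Subgroup ↥Cfsg.Spor.M22} (h : X.Oct B) :
    Nat.card (X.WW h) = 64 ∧ perp X.L.J (X.WW h) = X.WW h ∧ X.RR X.S.t ≤ X.WW h ∧
      X.WW h ⊓ X.WV ≤ X.RR X.S.t := by
  obtain ⟨c, hc, hE, e⟩ := h.WW_eq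
  obtain ⟨h1, h2, h3⟩ := X.Wp_spec (h.le hc.2.1) hE hc.1 hc.2.2 rfl fun v => by
      rw [← act_mul hc.1.1 X.ct_CC.1, X.lft_comm h.sq hc h.lf_mem, act_mul X.ct_CC.1 hc.1.1]
  rw [e]
  refine ⟨h1, h3, ?_, fun v hv => X.fix_WV (h.le hc.2.1) hE hc.1 hc.2.2 rfl hv.2 (X.mem_Wp.1 hv.1).2⟩
  rw [h2]
  exact le_sup_left

theorem Oct.WW_act_P {B : Subgroup ↥Cfsg.Spor.M22} (h : X.Oct B) {p : G} (hp : p ∈ P) {v : VV z}
    (hv : v ∈ X.WW h) : act z p v ∈ X.WW h := fun c hc => by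
  rw [act_inner X.L.J (CC_le_H0 z P hc.1) hp, hv c hc]

theorem Oct.BB_WW {B : Subgroup ↥Cfsg.Spor.M22} (h : X.Oct B) {u v : VV z} (hu : u ∈ X.WW h) (hv : v ∈ X.WW h) :
    BB z u v = 0 := by
  rw [← h.WW_spec.2.1] at hu
  exact hu v hv

theorem Oct.QQ_WW {B : Subgroup ↥Cfsg.Spor.M22} (h : X.Oct B) {v : VV z} (hv : v ∈ X.WW h) : QQ z v = 0 := by
  rw [← BB_act_self X.L.J X.pp_mem X.pp_ne]
  exact h.BB_WW hv (h.WW_act_P X.pp_mem hv)

end Cfsg.Agent.J4Eleven.Chart
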