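import Cfsg.Agent.Lib.J4Ten.Global

/-!
# Janko four type: the normaliser in `H` of a self-centralising elementary abelian subgroup of order `2 ^ 10`
-/

set_option autoImplicit false
set_option linter.style.haveILetI false
set_option linter.unusedSectionVars false

namespace Cfsg.Agent.J4Eleven.Chart

open Subgroup
open Cfsg.Agent.J4Local
open Cfsg.Agent.M22Order (Setup)

universe u

variable {G : Type u} [Group G] [Finite G] {z : G} {P : Subgroup G} {X : Chart z P}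
  {B : Subgroup ↥Cfsg.Spor.M22}

theorem Oct.conj_eq_ten (h : X.Oct B) {A : Subgroup G} (hA : Ten z A) (e : X.imT A = B) : A = h.ten := by
  obtain ⟨B', h', hB', e'⟩ := X.eq_ten hA (e.symm ▸ h.tmem)
  obtain rfl : B' = B := hB'.trans e
  exact e'

/-- The centraliser of `z` normalises nothing but is transitive: fusion in the subgroup. -/
theorem Oct.fusion (h : X.Oct B) {v : G} (hv : v ∈ h.ten) (hc : IsConj z v) :
    ∃ n ∈ normalizer (h.ten : Set G), n * z * n⁻¹ = v := by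
  obtain ⟨g, rfl⟩ := isConj_iff.1 hc
  have hA := X.ten_is h
  have hA' : Ten z (cjS g⁻¹ h.ten) := by
    refine ⟨mem_cjS.2 (by simpa using hv), ?_, ?_, by rw [card_cjS, h.card_ten], ?_⟩
    · rintro _ ⟨a, ha, rfl⟩
      rw [← map_mul, h.ten_sq a ha, map_one]
    · rintro _ ⟨a, ha, rfl⟩ _ ⟨b, hb, rfl⟩
      rw [← map_mul, h.ten_comm a ha b hb, map_mul]
    · rw [← cjS_centralizer, h.centralizer_ten]
  obtain ⟨d, hd, ed⟩ := X.exists_conj_base hA
  obtain ⟨d', hd', ed'⟩ := X.exists_conj_base hA'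
  refine ⟨g * (d'⁻¹ * d), M22Order.mem_normalizer_of_conj fun a ha => ?_, ?_⟩
  · have h1 : d * a * d⁻¹ ∈ cjS d' (cjS g⁻¹ h.ten) := by rw [ed', ← ed]; exact ⟨a, ha, rfl⟩
    rw [mem_cjS, mem_cjS] at h1
    simpa [mul_assoc] using h1
  · have hz : d'⁻¹ * d * z = z * (d'⁻¹ * d) := mem_HH.1 (mul_mem (inv_mem hd'.1) hd.1)
    calc g * (d'⁻¹ * d) * z * (g * (d'⁻¹ * d))⁻¹ = g * (d'⁻¹ * d * z) * (d'⁻¹ * d)⁻¹ * g⁻¹ := by group
      _ = g * z * g⁻¹ := by rw [hz]; group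

theorem Oct.lift_conj {c e : G} (h : X.Oct B) (hc : c ∈ X.lft h.sq) (he : e ∈ EE z) :
    e * c * e⁻¹ * c⁻¹ ∈ preV X.L.J (X.WW h) ∧ vk z (e * c * e⁻¹ * c⁻¹) = nil z c (vk z e) := by
  have hcH := hc.1.1
  have hE : c * e⁻¹ * c⁻¹ ∈ EE z := conj_mem_EE hcH (inv_mem he)
  have hv : vk z (e * (c * e⁻¹ * c⁻¹)) = nil z c (vk z e) := by
    rw [vk_mul he hE, ← act_vk hcH (inv_mem he), vk_inv X.L.J he, nil_apply, add_comm]
  rw [show e * c * e⁻¹ * c⁻¹ = e * (c * e⁻¹ * c⁻¹) by group]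
  exact ⟨⟨mul_mem he hE, hv ▸ X.nil_mem_self h.WW_spec.2.1 hcH (fun w hw => hw c hc) _⟩, hv⟩

theorem Oct.EE_normalizes (h : X.Oct B) : EE z ≤ normalizer (h.ten : Set G) := fun e he =>
  M22Order.mem_normalizer_of_conj fun a ha => by
    obtain ⟨x, hx, c, hc, rfl⟩ := ha
    have hx' : e * x * e⁻¹ ∈ preV X.L.J (X.WW h) := ⟨conj_mem_EE (EE_le_HH z he) hx.1, by
      rw [← act_vk (EE_le_HH z he) hx.1, act_EE X.L.J he]; exact hx.2⟩
    rw [show e * (x * c) * e⁻¹ = (e * x * e⁻¹) * (e * c * e⁻¹ * c⁻¹) * c by group]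
    exact mul_mem (h.preV_le_ten (mul_mem hx' (h.lift_conj hc he).1)) (h.lft_le_ten hc)

theorem Oct.mem_normalizer_CC (h : X.Oct B) {c : G} (hc : c ∈ CC z P) :
    c ∈ normalizer (h.ten : Set G) ↔ X.π ⟨c, hc⟩ ∈ normalizer (B : Set ↥Cfsg.Spor.M22) := by
  constructor
  · intro hn
    have e : cjS c h.ten = h.ten := eq_of_le_of_card_ge (by
      rintro _ ⟨a, ha, rfl⟩
      exact M22Order.conj_mem_of_mem_normalizer hn ha) (by rw [card_cjS])
    refine M22Order.mem_normalizer_of_conj fun b hb => ?_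
    rw [← X.imT_ten h] at hb ⊢
    rw [← e, X.mem_imT_conj hc]
    simpa [mul_assoc] using hb
  · intro hn
    have hT := (X.ten_is h).conj hc.1
    have e : X.imT (cjS c h.ten) = B := by
      ext m
      rw [X.mem_imT_conj hc, X.imT_ten h]
      exact (mem_normalizer_iff'.1 hn ((X.π ⟨c, hc⟩)⁻¹ * m)).trans (by simp)
    have e' := h.conj_eq_ten hT e
    refine M22Order.mem_normalizer_of_conj fun a ha => ?_
    have hm : c * a * c⁻¹ ∈ cjS c h.ten := ⟨a, ha, rfl⟩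
    rwa [e'] at hm

theorem Oct.mem_normalizer_iff_psi (h : X.Oct B) {v : G} (hv : v ∈ H0 z P) :
    v ∈ normalizer (h.ten : Set G) ↔ X.psi ⟨v, hv⟩ ∈ normalizer (B : Set ↥Cfsg.Spor.M22) := by
  obtain ⟨c, hc, e, he, rfl⟩ := exists_dec hv
  rw [X.psi_eq hc he, ← h.mem_normalizer_CC hc]
  exact Subgroup.mul_mem_cancel_right _ (h.EE_normalizes he)

theorem Oct.conj {g : ↥Cfsg.Spor.M22} (h : X.Oct B) (hg : Commute g X.S.t) :
    X.Oct (B.map (MulAut.conj g).toMonoidHom) where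
  le := by
    rintro _ ⟨b, hb, rfl⟩
    exact X.R_conj hg (h.le hb)
  sq := by
    rintro _ ⟨b, hb, rfl⟩
    rw [← map_mul, h.sq b hb, map_one]
  card := by rw [card_map_of_injective (MulAut.conj g).injective, h.card]
  tmem := ⟨X.S.t, h.tmem, by
    show g * X.S.t * g⁻¹ = X.S.t
    rw [hg.eq, mul_inv_cancel_right]⟩
  inter := by
    rintro _ ⟨b, hb, rfl⟩ hE
    have hgn := X.C_le_NS (mem_centralizer_singleton_iff.2 hg.eq)
    have hbE : b ∈ X.S.E := (mem_normalizer_iff.1 hgn b).2 hE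
    rcases h.inter b hb hbE with rfl | rfl
    · exact Or.inl (map_one _)
    · right
      show g * X.S.t * g⁻¹ = X.S.t
      rw [hg.eq, mul_inv_cancel_right]

theorem Oct.eq_of_WW {B' : Subgroup ↥Cfsg.Spor.M22} (h : X.Oct B) (h' : X.Oct B') (e : X.WW h = X.WW h') :
    B' = B := by
  refine eq_of_le_of_card_ge (fun b hb => ?_) (by rw [h.card, h'.card])
  obtain ⟨c, hc, ec⟩ := X.exists_lft h'.sq hb
  rw [← ec]
  exact h.mem_of_fix hc.1 (fun w hw => (e ▸ hw : w ∈ X.WW h') c hc)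
    (show Commute _ _ from h'.comm hc.2.1 h'.tmem)

theorem Oct.card_E_stab (h : X.Oct B) :
    Nat.card ↥(X.S.E ⊓ normalizer (B : Set ↥Cfsg.Spor.M22)) = 8 := by
  classical
  set N := normalizer (B : Set ↥Cfsg.Spor.M22)
  set K := X.S.E ⊓ N
  have hle : Nat.card ↥X.S.E ≤ Nat.card K * 2 := by
    refine (card_le_stab_mul X.S.E K (fun a => decide ((a : ↥Cfsg.Spor.M22) ∈ N)) fun a b e => ?_).trans
      (by rw [show Nat.card Bool = 2 by simp])
    refine mem_inf.2 ⟨X.S.E.mul_mem (X.S.E.inv_mem a.2) b.2, ?_⟩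
    by_cases ha : (a : ↥Cfsg.Spor.M22) ∈ N
    · exact N.mul_mem (N.inv_mem ha) (by simpa [ha] using e)
    have hb : (b : ↥Cfsg.Spor.M22) ∉ N := by simpa [ha] using e
    have hcm : ∀ x ∈ X.S.E, Commute x X.S.t := fun x hx => X.S.comm X.hcard hx X.tE
    have key : ∀ (x y : ↥Cfsg.Spor.M22), B.map (MulAut.conj x).toMonoidHom = B.map (MulAut.conj y).toMonoidHom →
        x⁻¹ * y ∈ N := fun x y exy => M22Order.mem_normalizer_of_conj fun m hm => by
      have hmy : y * m * y⁻¹ ∈ B.map (MulAut.conj y).toMonoidHom := ⟨m, hm, rfl⟩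
      rw [← exy] at hmy
      obtain ⟨m', hm', e'⟩ := hmy
      have e'' : x * m' * x⁻¹ = y * m * y⁻¹ := e'
      rw [show x⁻¹ * y * m * (x⁻¹ * y)⁻¹ = x⁻¹ * (y * m * y⁻¹) * x by group, ← e'',
        show x⁻¹ * (x * m' * x⁻¹) * x = m' by group]
      exact hm'
    let e3 : Fin 3 → ↥Cfsg.Spor.M22 := ![1, a, b]
    have h3 : ∀ i, Commute (e3 i) X.S.t := by
      intro i; fin_cases i
      exacts [Commute.one_left _, hcm _ a.2, hcm _ b.2]
    have hO := fun i => h.conj (h3 i)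
    obtain ⟨i, j, hij, ew⟩ := X.two_of_three (W := fun i => X.WW (hO i))
      (fun i w hw => (mem_ker_nil X.L.J).2 (hw _ (hO i).lf_mem))
      (fun i => (hO i).WW_spec.2.2.1) (fun i => (hO i).WW_spec.1) (fun i => (hO i).WW_spec.2.1)
      (fun i v hv => (hO i).WW_act_P X.pp_mem hv) (fun i => (hO i).WW_spec.2.2.2)
    have eB := key _ _ ((hO i).eq_of_WW (hO j) ew).symm
    fin_cases i <;> fin_cases j <;> simp only [e3, Matrix.cons_val] at eB
    all_goals first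
      | exact absurd rfl hij
      | exact absurd (show (a : ↥Cfsg.Spor.M22) ∈ N by simpa using eB) ha
      | exact absurd (show (b : ↥Cfsg.Spor.M22) ∈ N by simpa using eB) hb
      | exact absurd (show (a : ↥Cfsg.Spor.M22) ∈ N by simpa using N.inv_mem eB) ha
      | exact absurd (show (b : ↥Cfsg.Spor.M22) ∈ N by simpa using N.inv_mem eB) hb
      | exact eB
      | (have := N.inv_mem eB; rwa [mul_inv_rev, inv_inv] at this)
  have hne : K ≠ X.S.E := fun e => by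
    obtain ⟨x, hx, y, hy, hxE, hyE, hxyE⟩ := h.exists_pair
    have hcE : ∀ c ∈ X.S.E, Commute x c → c = 1 ∨ c = X.S.t := fun c hc hxc => by
      obtain ⟨f, hf, hfc⟩ := (X.shift (h.le hx) hxE).2 c hc hxc
      refine h.inter c ?_ hc
      have hfn : f ∈ N := (e.symm ▸ hf : f ∈ K).2
      rw [hfc, show f * (x * f * x⁻¹) = f * x * f * x⁻¹ by group]
      refine mul_mem ?_ (inv_mem hx)
      have := M22Order.conj_mem_of_mem_normalizer hfn hx
      rwa [inv_eq_of_mul_eq_one_right (X.S.sq X.hcard hf)] at this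
    have hsub : ((X.S.E ⊓ centralizer ({x} : Set ↥Cfsg.Spor.M22) : Subgroup ↥Cfsg.Spor.M22) : Set ↥Cfsg.Spor.M22)
        ⊆ {1, X.S.t} := fun c hc => hcE c hc.1 (mem_centralizer_singleton_iff.1 hc.2).symm
    have hn := (Set.ncard_le_ncard hsub).trans (Set.ncard_insert_le _ _)
    rw [Set.ncard_singleton, ← Nat.card_coe_set_eq, SetLike.coe_sort_coe, (X.shift (h.le hx) hxE).1] at hn
    omega
  have hd : Nat.card K ∣ 2 ^ 4 := (show Nat.card ↥X.S.E = 2 ^ 4 by rw [X.S.card_E X.hcard]; norm_num) ▸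
    card_dvd_of_le inf_le_left
  have h16 : Nat.card K ≠ 16 := fun e => hne (eq_of_le_of_card_ge inf_le_left (by rw [e, X.S.card_E X.hcard]))
  rw [X.S.card_E X.hcard] at hle
  obtain ⟨j, hj, hjK⟩ := (Nat.dvd_prime_pow Nat.prime_two).1 hd
  rw [hjK] at hle h16 ⊢
  interval_cases j <;> omega

theorem Oct.card_C_stab (h : X.Oct B) :
    Nat.card ↥(centralizer ({X.S.t} : Set ↥Cfsg.Spor.M22) ⊓ normalizer (B : Set ↥Cfsg.Spor.M22)) = 192 := by
  classical
  set N := normalizer (B : Set ↥Cfsg.Spor.M22)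
  set C := centralizer ({X.S.t} : Set ↥Cfsg.Spor.M22)
  have hC : Nat.card C = 384 := M22Order.cen_involution X.hcard X.S.ht
  have hEC : X.S.E ≤ C := X.E_le_R'.trans X.R_le_C
  have hdec : ∀ g ∈ C, ∃ f ∈ X.S.E, ∃ n ∈ C ⊓ N, g = f * n := by
    intro g hg
    obtain ⟨f, hf, hff⟩ := X.oct_conj h (h.conj (mem_centralizer_singleton_iff.1 hg))
    refine ⟨f, hf, f⁻¹ * g, ⟨C.mul_mem (C.inv_mem (hEC hf)) hg, M22Order.mem_normalizer_of_conj fun m hm => ?_⟩,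
      by group⟩
    rw [show f⁻¹ * g * m * (f⁻¹ * g)⁻¹ = f⁻¹ * (g * m * g⁻¹) * f by group]
    exact (hff _).1 ⟨m, hm, rfl⟩
  have Fh : Nat.card (↥X.S.E × ↥(C ⊓ N)) = Nat.card ↥(X.S.E ⊓ N) * Nat.card C := by
    rw [← Nat.card_prod]
    refine (Nat.card_congr (Equiv.ofBijective (fun q : ↥(X.S.E ⊓ N) × ↥C =>
      let s := hdec q.2 q.2.2
      (((⟨s.choose * q.1, X.S.E.mul_mem s.choose_spec.1 q.1.2.1⟩ : ↥X.S.E),
        (⟨(q.1 : ↥Cfsg.Spor.M22)⁻¹ * s.choose_spec.2.choose,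
          (C ⊓ N).mul_mem ((C ⊓ N).inv_mem ⟨hEC q.1.2.1, q.1.2.2⟩) s.choose_spec.2.choose_spec.1⟩ :
          ↥(C ⊓ N))))) ⟨?_, ?_⟩)).symm
    · rintro ⟨k, g⟩ ⟨k', g'⟩ e
      simp only [Prod.mk.injEq, Subtype.mk.injEq] at e
      obtain ⟨e1, e2⟩ := e
      have hg := (hdec g g.2).choose_spec.2.choose_spec.2
      have hg' := (hdec g' g'.2).choose_spec.2.choose_spec.2
      have egg : g = g' := Subtype.ext (by
        rw [hg, hg']
        calc _ = ((hdec g g.2).choose * k) * ((k : ↥Cfsg.Spor.M22)⁻¹ * (hdec g g.2).choose_spec.2.choose) := by group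
          _ = _ := by rw [e1, e2]; group)
      subst egg
      exact Prod.ext (Subtype.ext (mul_left_cancel e1)) rfl
    · rintro ⟨f, n⟩
      let g : ↥C := ⟨f * n, C.mul_mem (hEC f.2) n.2.1⟩
      have hs := (hdec g g.2).choose_spec.2.choose_spec
      have hg : (f : ↥Cfsg.Spor.M22) * n = _ := hs.2
      have hfE := (hdec g g.2).choose_spec.1
      have hk : (hdec g g.2).choose⁻¹ * f ∈ X.S.E ⊓ N := by
        refine ⟨X.S.E.mul_mem (X.S.E.inv_mem hfE) f.2, ?_⟩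
        rw [show (hdec g g.2).choose⁻¹ * (f : ↥Cfsg.Spor.M22) = (hdec g g.2).choose⁻¹ * ((f : ↥Cfsg.Spor.M22) * n) * (n : ↥Cfsg.Spor.M22)⁻¹ by group,
          hg]
        rw [inv_mul_cancel_left]
        exact N.mul_mem hs.1.2 (N.inv_mem n.2.2)
      refine ⟨(⟨_, hk⟩, g), Prod.ext (Subtype.ext ?_) (Subtype.ext ?_)⟩
      · show (hdec g g.2).choose * ((hdec g g.2).choose⁻¹ * f) = f
        group
      · show ((hdec g g.2).choose⁻¹ * (f : ↥Cfsg.Spor.M22))⁻¹ * _ = (n : ↥Cfsg.Spor.M22)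
        rw [mul_inv_rev, inv_inv, mul_assoc, ← hg]
        group
  rw [Nat.card_prod, X.S.card_E X.hcard, h.card_E_stab, hC] at Fh
  omega

theorem Oct.exists_to_t (h : X.Oct B) {b : ↥Cfsg.Spor.M22} (hb : b ∈ B) (hb1 : b ≠ 1) :
    ∃ n ∈ normalizer (B : Set ↥Cfsg.Spor.M22), n * b * n⁻¹ = X.S.t := by
  obtain ⟨g, hg⟩ := isConj_iff.1 (M22Order.isConj_involution X.hcard
    (orderOf_eq_prime (by rw [pow_two]; exact h.sq b hb) hb1) X.S.ht)
  obtain ⟨⟨d, hd⟩, hdg⟩ := X.surj g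
  have ht : X.S.t ∈ X.imT (cjS d h.ten) := by
    rw [X.mem_imT_conj hd, hdg, X.imT_ten h, ← hg]
    simpa [mul_assoc] using hb
  obtain ⟨l, hl, e⟩ := X.conj_of_t ((X.ten_is h).conj hd.1) (X.ten_is h) ht (by rw [X.imT_ten h]; exact h.tmem)
  have hlC := X.LE_le_CC hl
  have hn : l * d ∈ normalizer (h.ten : Set G) := M22Order.mem_normalizer_of_conj fun a ha => by
    rw [← e, show l * d * a * (l * d)⁻¹ = l * (d * a * d⁻¹) * l⁻¹ by group]
    exact ⟨d * a * d⁻¹, ⟨a, ha, rfl⟩, rfl⟩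
  refine ⟨_, (h.mem_normalizer_CC (mul_mem hlC hd)).1 hn, ?_⟩
  have hc : Commute (X.π ⟨l, hlC⟩) X.S.t := X.S.comm X.hcard hl.2.1 X.tE
  rw [show (⟨l * d, mul_mem hlC hd⟩ : ↥(CC z P)) = ⟨l, hlC⟩ * ⟨d, hd⟩ from rfl, map_mul, hdg,
    show X.π ⟨l, hlC⟩ * g * b * (X.π ⟨l, hlC⟩ * g)⁻¹ = X.π ⟨l, hlC⟩ * (g * b * g⁻¹) * (X.π ⟨l, hlC⟩)⁻¹ by group,
    hg, hc.eq, mul_inv_cancel_right]

theorem Oct.card_normalizer_B (h : X.Oct B) : Nat.card ↥(normalizer (B : Set ↥Cfsg.Spor.M22)) = 1344 := by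
  set N := normalizer (B : Set ↥Cfsg.Spor.M22)
  have h1 := M22Order.ncard_conj_orbit N (le_normalizer h.tmem : X.S.t ∈ N)
  have e : {x | ∃ k ∈ N, k * X.S.t * k⁻¹ = x} = (B : Set ↥Cfsg.Spor.M22) \ {1} := by
    ext x
    constructor
    · rintro ⟨k, hk, rfl⟩
      exact ⟨M22Order.conj_mem_of_mem_normalizer hk h.tmem, fun e => X.t1 (conj_eq_one_iff.1 e)⟩
    · rintro ⟨hx, hx1⟩
      obtain ⟨n, hn, e⟩ := h.exists_to_t hx hx1
      exact ⟨n⁻¹, N.inv_mem hn, by rw [← e]; group⟩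
  rw [e, Set.ncard_sdiff_singleton_of_mem (one_mem _), ← Nat.card_coe_set_eq, SetLike.coe_sort_coe, h.card,
    h.card_C_stab] at h1
  omega

theorem Oct.card_normalizer_H0 (h : X.Oct B) :
    Nat.card ↥(normalizer (h.ten : Set G) ⊓ H0 z P) = 2 ^ 13 * 4032 := by
  set N := normalizer (h.ten : Set G)
  set NB := normalizer (B : Set ↥Cfsg.Spor.M22) with hNB
  have e : (N ⊓ H0 z P).subgroupOf (H0 z P) = NB.comap X.psi := by
    ext ⟨v, hv⟩
    rw [mem_subgroupOf, mem_comap]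
    exact ⟨fun hh => (h.mem_normalizer_iff_psi hv).1 hh.1, fun hh => ⟨(h.mem_normalizer_iff_psi hv).2 hh, hv⟩⟩
  have h1 := (NB.comap X.psi).card_mul_index
  have h2 := NB.card_mul_index
  rw [index_comap_of_surjective _ X.psi_surjective, X.L.cardH0] at h1
  rw [X.hcard, h.card_normalizer_B] at h2
  rw [← Nat.card_congr (subgroupOfEquivOfLe (inf_le_right : N ⊓ H0 z P ≤ H0 z P)).toEquiv, e]
  rw [show NB.index = 330 by omega] at h1
  omega

theorem Oct.exists_outer (h : X.Oct B) : ∃ n ∈ normalizer (h.ten : Set G) ⊓ HH z, n ∉ H0 z P := by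
  obtain ⟨v, hv, hv0⟩ : ∃ v ∈ HH z, v ∉ H0 z P := by
    by_contra hcon
    push Not at hcon
    have := Subgroup.card_le_of_le (hcon : HH z ≤ H0 z P)
    rw [X.L.cardH, X.L.cardH0] at this
    norm_num at this
  obtain ⟨d, hd, ed⟩ := X.exists_conj_base (X.ten_is h)
  obtain ⟨d', hd', ed'⟩ := X.exists_conj_base ((X.ten_is h).conj hv)
  refine ⟨d⁻¹ * d' * v, mem_inf.2 ⟨M22Order.mem_normalizer_of_conj fun a ha => ?_,
    mul_mem (mul_mem (inv_mem hd.1) hd'.1) hv⟩, fun hh => hv0 ?_⟩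
  · have h1 : d' * (v * a * v⁻¹) * d'⁻¹ ∈ cjS d h.ten := by
      rw [ed, ← ed']; exact ⟨_, ⟨a, ha, rfl⟩, rfl⟩
    rw [mem_cjS] at h1
    simpa [mul_assoc] using h1
  · simpa [mul_assoc] using mul_mem (inv_mem (mul_mem (inv_mem (CC_le_H0 z P hd)) (CC_le_H0 z P hd'))) hh

theorem Oct.card_normalizer_HH (h : X.Oct B) :
    Nat.card ↥(normalizer (h.ten : Set G) ⊓ HH z) = 2 ^ 16 * 1008 := by
  classical
  set N := normalizer (h.ten : Set G) with hN
  have h0 := h.card_normalizer_H0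
  have hle : N ⊓ H0 z P ≤ N ⊓ HH z := inf_le_inf_left _ (H0_le_HH z P)
  have h2 : Nat.card ↥(N ⊓ HH z) ≤ Nat.card ↥(N ⊓ H0 z P) * 2 := by
    refine (card_le_stab_mul (N ⊓ HH z) (N ⊓ H0 z P) (fun a => decide ((a : G) ∈ H0 z P))
      fun a b e => ?_).trans (by rw [show Nat.card Bool = 2 by simp])
    refine mem_inf.2 ⟨mul_mem (inv_mem (mem_inf.1 a.2).1) (mem_inf.1 b.2).1, ?_⟩
    by_cases ha : (a : G) ∈ H0 z P
    · exact mul_mem (inv_mem ha) (by simpa [ha] using e)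
    · exact outer_mul X.L (inv_mem (mem_inf.1 a.2).2) (mem_inf.1 b.2).2 (fun h => ha ((inv_mem_iff).1 h)) (by simpa [ha] using e)
  obtain ⟨n, hn, hn0⟩ := h.exists_outer
  have hne : N ⊓ H0 z P ≠ N ⊓ HH z := fun e => hn0 (e.symm ▸ hn : n ∈ N ⊓ H0 z P).2
  obtain ⟨k, hk⟩ := card_dvd_of_le hle
  have h1 : k ≠ 1 := fun e => hne (eq_of_le_of_card_ge hle (by rw [hk, e, mul_one]))
  rw [hk, h0] at h2 ⊢
  have h3 : k ≠ 0 := fun e => by
    rw [e, mul_zero] at hk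
    exact Nat.card_pos.ne' hk
  rw [show k = 2 by omega]
  norm_num

end Cfsg.Agent.J4Eleven.Chart
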