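import Cfsg.Agent.Lib.J4Ten.Space

/-!
# Janko four type: the self-centralising elementary abelian subgroup of order `2 ^ 10` of an octad subgroup
-/

set_option autoImplicit false
set_option linter.style.haveILetI false
set_option linter.unusedSectionVars false

namespace Cfsg.Agent.J4Eleven.Chart

open Subgroup
open Cfsg.Agent.J4Local
open Cfsg.Agent.M22Order (Setup)

universe u

variable {G : Type u} [Group G] [Finite G] {z : G} {P : Subgroup G} {X : Chart z P}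

variable {B : Subgroup ↥Cfsg.Spor.M22}

theorem Oct.lft_preV_comm (h : X.Oct B) {c x : G} (hc : c ∈ X.lft h.sq) (hx : x ∈ preV X.L.J (X.WW h)) :
    c * x = x * c :=
  fixed_of_CC X.L.J hc.1 hx.1 (hx.2 c hc)

theorem Oct.preV_comm (h : X.Oct B) {x y : G} (hx : x ∈ preV X.L.J (X.WW h)) (hy : y ∈ preV X.L.J (X.WW h)) :
    x * y = y * x := by
  rw [← cm_eq_zero, ← BB_vk X.L.J hx.1 hy.1]
  exact h.BB_WW hx.2 hy.2

theorem Oct.preV_sq (h : X.Oct B) {x : G} (hx : x ∈ preV X.L.J (X.WW h)) : x * x = 1 :=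
  (QQ_vk_eq_zero X.L.J hx.1).1 (h.QQ_WW hx.2)

/-- The subgroup of order `2 ^ 10`. -/
def Oct.ten (h : X.Oct B) : Subgroup G where
  carrier := {a | ∃ x ∈ preV X.L.J (X.WW h), ∃ c ∈ X.lft h.sq, a = x * c}
  one_mem' := ⟨1, one_mem _, 1, one_mem _, (one_mul 1).symm⟩
  mul_mem' := by
    rintro _ _ ⟨x, hx, c, hc, rfl⟩ ⟨y, hy, d, hd, rfl⟩
    refine ⟨x * y, mul_mem hx hy, c * d, mul_mem hc hd, ?_⟩
    calc x * c * (y * d) = x * (c * y) * d := by group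
      _ = x * y * (c * d) := by rw [h.lft_preV_comm hc hy]; group
  inv_mem' := by
    rintro _ ⟨x, hx, c, hc, rfl⟩
    exact ⟨x⁻¹, inv_mem hx, c⁻¹, inv_mem hc, by rw [mul_inv_rev, h.lft_preV_comm (inv_mem hc) (inv_mem hx)]⟩

theorem Oct.preV_le_ten (h : X.Oct B) : preV X.L.J (X.WW h) ≤ h.ten :=
  fun x hx => ⟨x, hx, 1, one_mem _, (mul_one x).symm⟩

theorem Oct.lft_le_ten (h : X.Oct B) : X.lft h.sq ≤ h.ten := fun c hc => ⟨1, one_mem _, c, hc, (one_mul c).symm⟩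

theorem Oct.ten_le_H0 (h : X.Oct B) : h.ten ≤ H0 z P := by
  rintro _ ⟨x, hx, c, hc, rfl⟩
  exact mul_mem (EE_le_H0 z P hx.1) (CC_le_H0 z P hc.1)

theorem Oct.z_mem_ten (h : X.Oct B) : z ∈ h.ten := h.lft_le_ten (X.z_mem_lft h.sq)

theorem Oct.ten_sq (h : X.Oct B) : ∀ a ∈ h.ten, a * a = 1 := by
  rintro _ ⟨x, hx, c, hc, rfl⟩
  calc x * c * (x * c) = x * (c * x) * c := by group
    _ = (x * x) * (c * c) := by rw [h.lft_preV_comm hc hx]; group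
    _ = 1 := by rw [h.preV_sq hx, X.lft_sq h.sq hc, one_mul]

theorem Oct.ten_comm (h : X.Oct B) : ∀ a ∈ h.ten, ∀ b ∈ h.ten, a * b = b * a :=
  fun _ ha _ hb => comm_of_sq h.ten_sq ha hb

theorem Oct.card_ten (h : X.Oct B) : Nat.card h.ten = 2 ^ 10 := by
  have hJ := X.L.J
  let f : ↥(preV hJ (X.WW h)) × ↥(X.lft h.sq) →* ↥h.ten :=
    { toFun := fun q => ⟨(q.1 : G) * q.2, ⟨q.1, q.1.2, q.2, q.2.2, rfl⟩⟩
      map_one' := Subtype.ext (mul_one 1)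
      map_mul' := fun a b => Subtype.ext (by
        show ((a.1 : G) * b.1) * ((a.2 : G) * b.2) = (a.1 : G) * a.2 * ((b.1 : G) * b.2)
        calc (a.1 : G) * b.1 * ((a.2 : G) * b.2) = (a.1 : G) * ((b.1 : G) * a.2) * b.2 := by group
          _ = _ := by rw [← h.lft_preV_comm a.2.2 b.1.2]; group) }
  have hsurj : Function.Surjective f := by
    rintro ⟨_, x, hx, c, hc, rfl⟩
    exact ⟨(⟨x, hx⟩, ⟨c, hc⟩), rfl⟩
  have hzP : z ∈ preV hJ (X.WW h) := ⟨X.z_mem_EE, by rw [vk_z hJ]; exact zero_mem _⟩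
  have hz : zpowers z ≤ preV hJ (X.WW h) := zpowers_le.2 hzP
  have hzL : zpowers z ≤ X.lft h.sq := zpowers_le.2 (X.z_mem_lft h.sq)
  have hker : Nat.card f.ker = 2 := by
    let i : ↥(zpowers z) → ↥f.ker := fun t => ⟨(⟨t, hz t.2⟩, ⟨t, hzL t.2⟩), by
      rw [MonoidHom.mem_ker]; exact Subtype.ext (X.sq_of_zpowers t.2)⟩
    have hb : Function.Bijective i := by
      refine ⟨fun a b e => Subtype.ext (congrArg (fun q : ↥f.ker => ((q.1.1 : ↥(preV hJ (X.WW h))) : G)) e), ?_⟩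
      rintro ⟨⟨⟨x, hx⟩, ⟨c, hc⟩⟩, hk⟩
      have hxc : x * c = 1 := congrArg Subtype.val (MonoidHom.mem_ker.1 hk)
      have hcx : c = x := by
        rw [← inv_eq_of_mul_eq_one_right hxc, inv_eq_of_mul_eq_one_right (h.preV_sq hx)]
      subst hcx
      exact ⟨⟨c, X.lft_inf_EE h.sq hc hx.1⟩, rfl⟩
    rw [← Nat.card_congr (Equiv.ofBijective i hb), Nat.card_zpowers, hJ.two]
  have h1 := f.ker.card_mul_index
  rw [Subgroup.index_ker, MonoidHom.range_eq_top.2 hsurj, Subgroup.card_top, hker, Nat.card_prod,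
    card_preV, h.WW_spec.1, X.card_lft h.sq, h.card] at h1
  omega

theorem Oct.psi_ten (h : X.Oct B) {a : G} (ha : a ∈ h.ten) (h0 : a ∈ H0 z P) : X.psi ⟨a, h0⟩ ∈ B := by
  obtain ⟨x, hx, c, hc, rfl⟩ := ha
  have e : x * c = c * (c⁻¹ * x * c) := by group
  have hmem : c * (c⁻¹ * x * c) ∈ H0 z P := e ▸ h0
  rw [show (⟨x * c, h0⟩ : ↥(H0 z P)) = ⟨c * (c⁻¹ * x * c), hmem⟩ from Subtype.ext e,
    X.psi_eq hc.1 (conj_mem_EE' hc.1.1 hx.1)]
  exact hc.2.1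

theorem Oct.ten_inf_EE (h : X.Oct B) {a : G} (ha : a ∈ h.ten) (hE : a ∈ EE z) : a ∈ preV X.L.J (X.WW h) := by
  obtain ⟨x, hx, c, hc, rfl⟩ := ha
  have hcE : c ∈ EE z := by simpa using mul_mem (inv_mem hx.1) hE
  refine mul_mem hx ?_
  refine zpowers_le.2 ?_ (X.lft_inf_EE h.sq hc hcE)
  exact ⟨X.z_mem_EE, by rw [vk_z X.L.J]; exact zero_mem _⟩

/-- An element of the core fixing the space and commuting with the subgroup lies in it. -/
theorem Oct.mem_of_fix (h : X.Oct B) {d : G} (hd : d ∈ CC z P) (hfix : ∀ w ∈ X.WW h, act z d w = w)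
    (ht : Commute (X.π ⟨d, hd⟩) X.S.t) : X.π ⟨d, hd⟩ ∈ B := by
  have hJ := X.L.J
  obtain ⟨hc64, hself, hR, hinf⟩ := h.WW_spec
  have hgC : X.π ⟨d, hd⟩ ∈ centralizer ({X.S.t} : Set ↥Cfsg.Spor.M22) := mem_centralizer_singleton_iff.2 ht.eq
  have hR' : X.π ⟨d, hd⟩ ∈ X.S.R := X.mem_R_of_fix hgC hd rfl (fun w hw => hfix w (hR hw)) fun w hw => by
    refine hinf ⟨X.nil_mem_self hself hd.1 hfix w, ?_⟩
    rw [nil_apply]
    exact add_mem (X.WV_invariant hd (X.C_le_NS hgC) hw) hw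
  have hcom : ∀ b ∈ B, Commute (X.π ⟨d, hd⟩) b := fun b hb => by
    obtain ⟨c, hc, e⟩ := X.exists_lft h.sq hb
    rw [← e]
    exact X.pi_comm hd hc.1 (X.act_comm_of_fix hself hd.1 hc.1.1 hfix (fun w hw => hw c hc))
  obtain ⟨x, hx, y, hy, hxE, hyE, hxyE⟩ := h.exists_pair
  exact h.mem_of_comm hx hy hxE hyE hxyE hR' (hcom x hx) (hcom y hy)

theorem Oct.centralizer_ten (h : X.Oct B) : centralizer (h.ten : Set G) = h.ten := by
  refine le_antisymm ?_ fun a ha => mem_centralizer_iff.2 fun b hb => h.ten_comm b hb a ha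
  intro g hg
  have hJ := X.L.J
  obtain ⟨p, hp, hp1, -, -⟩ := hJ.exists_gen
  have hcom : ∀ a ∈ h.ten, a * g = g * a := fun a ha => mem_centralizer_iff.1 hg a ha
  have hgH : g ∈ HH z := mem_HH.2 (hcom z h.z_mem_ten).symm
  obtain ⟨hc64, hself, -, -⟩ := h.WW_spec
  have hfix : ∀ w ∈ X.WW h, act z g w = w := fun w hw => by
    obtain ⟨x, hx, rfl⟩ := vk_surj w
    rw [act_vk hgH hx, ← hcom x (h.preV_le_ten ⟨hx, hw⟩), mul_inv_cancel_right]
  obtain ⟨w, hw, hw0⟩ : ∃ w ∈ X.WW h, w ≠ 0 := by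
    by_contra hcon
    push Not at hcon
    rw [(AddSubgroup.eq_bot_iff_forall _).2 hcon, AddSubgroup.card_bot] at hc64
    norm_num at hc64
  by_cases hg0 : g ∈ H0 z P
  swap
  · refine absurd ?_ hw0
    have e := act_outer X.L hgH hg0 hp w
    rw [hfix w hw, hfix _ (h.WW_act_P hp hw)] at e
    exact act_fpf hJ hp hp1 (act_injective (hJ.P_le_HH hp) e.symm)
  obtain ⟨c, hc, e, he, rfl⟩ := exists_dec hg0
  have hcfix : ∀ w ∈ X.WW h, act z c w = w := fun w hw => by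
    rw [← act_mul_EE hJ hc.1 he, hfix w hw]
  have hct : Commute (X.π ⟨c, hc⟩) X.S.t := by
    have h0 := CC_le_H0 z P X.ct_CC
    have e1 : (⟨X.lf X.S.t, h0⟩ : ↥(H0 z P)) * ⟨c * e, hg0⟩ = ⟨c * e, hg0⟩ * ⟨X.lf X.S.t, h0⟩ :=
      Subtype.ext (hcom _ (h.lft_le_ten h.lf_mem))
    have e2 := congrArg X.psi e1
    rw [map_mul, map_mul, X.psi_CC X.ct_CC, X.psi_eq hc he, X.lf_pi X.tE] at e2
    exact e2.symm
  obtain ⟨l, hl, el⟩ := X.exists_lft h.sq (h.mem_of_fix hc hcfix hct)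
  have hk : l⁻¹ * c ∈ P ⊔ zpowers z := (X.mem_ker_iff (⟨l, hl.1⟩⁻¹ * ⟨c, hc⟩)).1 (by
    rw [map_mul, map_inv, el, inv_mul_cancel])
  have hkz : l⁻¹ * c ∈ zpowers z := X.six_fix hk hw0 (by
    rw [act_mul (inv_mem hl.1.1) hc.1, hcfix w hw]
    exact hw _ (inv_mem hl))
  have hcl : c ∈ X.lft h.sq := by
    have := mul_mem hl (zpowers_le.2 (X.z_mem_lft h.sq) hkz)
    rwa [mul_inv_cancel_left] at this
  have heW : e ∈ preV hJ (X.WW h) := ⟨he, by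
    rw [← hself]
    intro v hv
    obtain ⟨x, hx, rfl⟩ := vk_surj v
    have h2 := hcom x (h.preV_le_ten ⟨hx, hv⟩)
    rw [BB_vk hJ he hx, cm_eq_zero]
    rw [← mul_assoc x, ← h.lft_preV_comm hcl ⟨hx, hv⟩, mul_assoc, mul_assoc] at h2
    exact (mul_left_cancel h2).symm⟩
  exact mul_mem (h.lft_le_ten hcl) (h.preV_le_ten heW)

end Cfsg.Agent.J4Eleven.Chart
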